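import Cfsg.Agent.FusionAlperin.GoodLift
import Cfsg.Agent.FusionAlperin.NormalCriteria
import Cfsg.Agent.FusionBatch.Basic

/-!
The centralizer in `S` of a normal subsystem.
-/

set_option autoImplicit false

open Cfsg Cfsg.FusionSystem
open Cfsg.Agent.FusionSys
open scoped Pointwise

namespace Cfsg.Agent.FusionAlperin

universe u

variable {Ω : Type u} [Group Ω] {S T : Subgroup Ω} {p : ℕ} [Finite S] [Fact p.Prime]
  {F : FusionSystem S}

/-- `E` consists of maps of `C_F(Y)`. -/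
def Centralizes (F : FusionSystem S) (E : FusionSystem T) (Y : Subgroup Ω) : Prop :=
  ∀ P : Subgroup Ω, E.Hom P ⊆ F.centralizerHom Y P

omit [Finite S] [Fact p.Prime] in
theorem centralizes_mono {E : FusionSystem T} {Y Z : Subgroup Ω} (h : Centralizes F E Y)
    (hZY : Z ≤ Y) : Centralizes F E Z := by
  intro P φ hφ
  obtain ⟨hφF, hP, hv, ψ, hψ, hψP, hψY⟩ := h P hφ
  have hle : centralizerIn S Y ≤ centralizerIn S Z := centralizerIn_antitone hZY
  exact ⟨hφF, hP.trans hle, fun x => hle (hv x), restr (sup_le_sup_left hZY P) ψ,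
    restr_mem F _ hψ, fun x => hψP x, fun z => hψY ⟨z, hZY z.2⟩⟩

/-- The set of elements of `C_S(T)` centralized by `E`. -/
def centElems (F : FusionSystem S) (E : FusionSystem T) : Set Ω :=
  {c | c ∈ centralizerIn S T ∧ Centralizes F E (Subgroup.zpowers c)}

/-- The subgroup they generate. -/
def centE (F : FusionSystem S) (E : FusionSystem T) : Subgroup Ω :=
  Subgroup.closure (centElems F E)

omit [Finite S] [Fact p.Prime] in
theorem centE_le (F : FusionSystem S) (E : FusionSystem T) : centE F E ≤ centralizerIn S T :=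
  (Subgroup.closure_le _).2 fun _ h => h.1

omit [Finite S] [Fact p.Prime] in
theorem mem_centE_of_centralizes {E : FusionSystem T} {Y : Subgroup Ω}
    (hY : Y ≤ centralizerIn S T) (h : Centralizes F E Y) : Y ≤ centE F E := fun _ hy =>
  Subgroup.subset_closure ⟨hY hy, centralizes_mono h (Subgroup.zpowers_le.2 hy)⟩

/-- An automorphism with a good lift at a fully normalized conjugate centralizes `centE`. -/
theorem mem_centSys_of_lift (hS : IsPGroup p S) (hF : F.IsSaturated p) {E : FusionSystem T}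
    (hE : E.IsInvariantIn F) {P R : Subgroup Ω} (hPT : P ≤ T) (hR : F.IsFullyNormalized R)
    {χ : ↥(normalizerIn S P) →* Ω} (hχ : χ ∈ F.Hom (normalizerIn S P))
    (hχm : (P.subgroupOf (normalizerIn S P)).map χ = R) {a : MulAut P} (ha : a ∈ E.autGroup P)
    (hord : Nat.Coprime (orderOf a) p)
    (hlift : ∀ f : P ≃* R, (∀ x : P, (f x : Ω) =
      χ ⟨x, le_normalizerIn (hPT.trans hE.2.1.1) x.2⟩) → MulAut.congr f a ∈ goodLift F R) :
    P.subtype.comp a.toMonoidHom ∈ F.centralizerHom (centE F E) P := by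
  have hTS := hE.2.1.1
  have hPS : P ≤ S := hPT.trans hTS
  have hRS := hR.1
  set C := centE F E with hCdef
  have hC : C ≤ centralizerIn S T := centE_le F E
  have hPC : P ≤ centralizerIn S C := fun x hx =>
    ⟨hPS hx, Subgroup.mem_centralizer_iff.2 fun c hc =>
      (Subgroup.mem_centralizer_iff.1 (hC hc).2 x (hPT hx)).symm⟩
  have hCP : C ≤ centralizerIn S P := hC.trans (centralizerIn_antitone hPT)
  have hPN := le_normalizerIn (S := S) hPS
  have hY : P ⊔ C ≤ normalizerIn S P := sup_le hPN (hCP.trans (centralizerIn_le_normalizerIn P))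
  have hχP := restr_mem F hPN hχ
  have hrP : (restr hPN χ).range = R := by rw [range_restr, hχm]
  set f := toIso F hχP hrP
  set b := MulAut.congr f a with hbdef
  have hb := hlift f fun x => rfl
  have hUS : R ⊔ centralizerIn S R ≤ S := sup_le hRS (centralizerIn_le R)
  have hRfc := (saturated_fullyNormalized hS hF hR).1
  obtain ⟨A, hA, hAb, hAm, hAo⟩ := exists_coprime_lift (p := p) hb
    (by rw [MulEquiv.orderOf_eq]; exact hord) hUS
  have hAh := autGroup_mem_hom F hUS hA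
  -- images of elements centralizing `P`
  have himg : ∀ (c : Ω) (hc : c ∈ centralizerIn S P),
      χ ⟨c, centralizerIn_le_normalizerIn P hc⟩ ∈ centralizerIn S R := fun c hc => by
    refine ⟨map_mem_S F hχ _, Subgroup.mem_centralizer_iff.2 fun r hr => ?_⟩
    obtain ⟨x, hx, rfl⟩ := hχm.ge hr
    rw [← map_mul, ← map_mul]
    exact congrArg χ (Subtype.ext (Subgroup.mem_centralizer_iff.1 hc.2 _ hx))
  -- the lift fixes the image of every generator
  have hfixgen : ∀ c (hc : c ∈ centElems F E),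
      autExt A (χ ⟨c, hY (Subgroup.mem_sup_right (Subgroup.subset_closure hc))⟩) =
        χ ⟨c, hY (Subgroup.mem_sup_right (Subgroup.subset_closure hc))⟩ := by
    intro c hc
    have hcC : c ∈ C := Subgroup.subset_closure hc
    have hcP : c ∈ centralizerIn S P := hCP hcC
    set cs := χ ⟨c, centralizerIn_le_normalizerIn P hcP⟩ with hcs
    have hcsC : cs ∈ centralizerIn S R := himg c hcP
    obtain ⟨-, -, -, ψ, hψ, hψP, hψc⟩ := hc.2 P (autGroup_mem_hom E hPT ha)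
    have hZ : P ⊔ Subgroup.zpowers c ≤ normalizerIn S P :=
      (sup_le_sup_left (Subgroup.zpowers_le.2 hcC) P).trans hY
    have : Finite ↥(P ⊔ Subgroup.zpowers c) :=
      finite_of_le ‹_› (hZ.trans (normalizerIn_le P))
    have hψr : ψ.range = P ⊔ Subgroup.zpowers c :=
      range_eq_of_image_le (F.injective_of_mem hψ) (range_le_sup_of_le ψ
        (fun y hy => Subgroup.mem_sup_left ((hψP ⟨y, hy⟩).symm ▸ (a ⟨y, hy⟩).2))
        (fun y hy => Subgroup.mem_sup_right ((hψc ⟨y, hy⟩).symm ▸ hy))) le_rfl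
    have he1 := restr_mem F hZ hχ
    set e1 := toIso F he1 rfl
    set a0 := toIso F hψ hψr
    have hY1U : (restr hZ χ).range ≤ R ⊔ centralizerIn S R := range_le_sup_of_le _
      (fun y hy => Subgroup.mem_sup_left (hχm.le ⟨⟨y, hZ y.2⟩, hy, rfl⟩))
      (fun y hy => Subgroup.mem_sup_right (himg y (hCP (Subgroup.zpowers_le.2 hcC hy))))
    have hi : IsIso F (MulAut.congr e1 a0⁻¹) := (mem_autGroup F (range_le_S F he1)).1
      (autCongr_mem F (toIso_isIso F he1 rfl)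
        ((F.autGroup _).inv_mem (toIso_mem_autGroup F hψ hψr)))
    have hγ := F.comp_mem hi hAh fun y => hY1U (MulAut.congr e1 a0⁻¹ y).2
    set γ := ((R ⊔ centralizerIn S R).subtype.comp A.toMonoidHom).comp
      (((restr hZ χ).range.subtype.comp (MulAut.congr e1 a0⁻¹).toMonoidHom).codRestrict _
        fun y => hY1U (MulAut.congr e1 a0⁻¹ y).2) with hγdef
    have hRY1 : R ≤ (restr hZ χ).range := fun r hr => by
      obtain ⟨x, hx, rfl⟩ := hχm.ge hr
      exact ⟨⟨x, Subgroup.mem_sup_left hx⟩, rfl⟩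
    have hγR : ∀ r : R, γ ⟨r, hRY1 r.2⟩ = r := by
      intro r
      obtain ⟨x, rfl⟩ := f.surjective r
      have e0 : e1.symm ⟨(f x : Ω), hRY1 (f x).2⟩ = ⟨x, Subgroup.mem_sup_left x.2⟩ := by
        rw [MulEquiv.symm_apply_eq]
        exact Subtype.ext rfl
      have e2 : a0.symm ⟨x, Subgroup.mem_sup_left x.2⟩ =
          ⟨a.symm x, Subgroup.mem_sup_left (a.symm x).2⟩ := by
        rw [MulEquiv.symm_apply_eq]
        refine Subtype.ext ?_
        refine Eq.trans ?_ (hψP (a.symm x)).symm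
        exact congrArg Subtype.val (a.apply_symm_apply x).symm
      show ((A ⟨((e1 (a0.symm (e1.symm ⟨(f x : Ω), _⟩)) : (restr hZ χ).range) : Ω), _⟩ :
        ↥(R ⊔ centralizerIn S R)) : Ω) = f x
      refine Eq.trans (congrArg (fun w => ((A w : ↥(R ⊔ centralizerIn S R)) : Ω))
        (Subtype.ext (a2 := (⟨((f (a.symm x) : R) : Ω), Subgroup.mem_sup_left (Subtype.mem _)⟩ :
          ↥(R ⊔ centralizerIn S R))) ?_)) ?_
      · show ((e1 (a0.symm (e1.symm ⟨(f x : Ω), hRY1 (f x).2⟩)) : (restr hZ χ).range) : Ω) = _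
        rw [e0, e2]
        rfl
      · refine (hAb (f (a.symm x))).trans ?_
        rw [autCongr_apply, MulEquiv.symm_apply_apply, MulEquiv.apply_symm_apply]
    have hcsY1 : cs ∈ (restr hZ χ).range :=
      ⟨⟨c, Subgroup.mem_sup_right (Subgroup.mem_zpowers c)⟩, rfl⟩
    have hγc : γ ⟨cs, hcsY1⟩ = autExt A cs := by
      have e0 : e1.symm ⟨cs, hcsY1⟩ = ⟨c, Subgroup.mem_sup_right (Subgroup.mem_zpowers c)⟩ := by
        rw [MulEquiv.symm_apply_eq]
        exact Subtype.ext rfl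
      have e2 : a0.symm ⟨c, Subgroup.mem_sup_right (Subgroup.mem_zpowers c)⟩ =
          ⟨c, Subgroup.mem_sup_right (Subgroup.mem_zpowers c)⟩ := by
        rw [MulEquiv.symm_apply_eq]
        exact Subtype.ext (hψc ⟨c, Subgroup.mem_zpowers c⟩).symm
      rw [autExt_of_mem A (Subgroup.mem_sup_right hcsC)]
      show ((A ⟨((e1 (a0.symm (e1.symm ⟨cs, _⟩)) : (restr hZ χ).range) : Ω), _⟩ :
        ↥(R ⊔ centralizerIn S R)) : Ω) = _
      refine congrArg (fun w => ((A w : ↥(R ⊔ centralizerIn S R)) : Ω)) (Subtype.ext ?_)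
      show ((e1 (a0.symm (e1.symm ⟨cs, hcsY1⟩)) : (restr hZ χ).range) : Ω) = _
      rw [e0, e2]
      rfl
    have hzle : Subgroup.zpowers cs ≤ (restr hZ χ).range := Subgroup.zpowers_le.2 hcsY1
    have hzC : Subgroup.zpowers cs ≤ centralizerIn S R := Subgroup.zpowers_le.2 hcsC
    have hmem : restr hzle γ ∈ F.centralizerHom R (Subgroup.zpowers cs) := by
      refine ⟨restr_mem F hzle hγ, hzC, fun y => ?_, restr (sup_le hzle hRY1) γ,
        restr_mem F _ hγ, fun _ => rfl, fun r => hγR r⟩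
      refine ⟨map_mem_S F hγ _, Subgroup.mem_centralizer_iff.2 fun r hr => ?_⟩
      show ((⟨r, hr⟩ : R) : Ω) * γ _ = γ _ * ((⟨r, hr⟩ : R) : Ω)
      rw [← hγR ⟨r, hr⟩, ← map_mul, ← map_mul]
      exact congrArg γ (Subtype.ext (Subgroup.mem_centralizer_iff.1 (hzC y.2).2 r hr))
    exact fixed_of_centralizerHom hS hF hRfc hA hAm hAo hmem hγc
  -- the lift fixes the whole image
  have hfix : ∀ y : ↥(normalizerIn S P), (y : Ω) ∈ C → autExt A (χ y) = χ y := by
    rintro ⟨y, hyN⟩ hy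
    have hy' : y ∈ C := hy
    induction hy' using Subgroup.closure_induction with
    | mem x hx => exact hfixgen x hx
    | one =>
      rw [show (⟨1, hyN⟩ : ↥(normalizerIn S P)) = 1 from rfl, map_one,
        autExt_of_mem A (Subgroup.one_mem _)]
      exact congrArg Subtype.val (map_one A)
    | mul u v hu hv ihu ihv =>
      have hu' : u ∈ C := hu
      have hv' : v ∈ C := hv
      have huN := hY (Subgroup.mem_sup_right hu')
      have hvN := hY (Subgroup.mem_sup_right hv')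
      have e : (⟨u * v, hyN⟩ : ↥(normalizerIn S P)) = ⟨u, huN⟩ * ⟨v, hvN⟩ := rfl
      have hu1 := ihu huN hu'
      have hv1 := ihv hvN hv'
      have hu2 : χ ⟨u, huN⟩ ∈ R ⊔ centralizerIn S R := Subgroup.mem_sup_right (himg u (hCP hu'))
      have hv2 : χ ⟨v, hvN⟩ ∈ R ⊔ centralizerIn S R := Subgroup.mem_sup_right (himg v (hCP hv'))
      rw [autExt_of_mem A hu2] at hu1
      rw [autExt_of_mem A hv2] at hv1
      rw [e, map_mul, autExt_of_mem A ((R ⊔ centralizerIn S R).mul_mem hu2 hv2)]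
      refine Eq.trans ?_ (congrArg₂ (· * ·) hu1 hv1)
      rw [← Subgroup.coe_mul, ← map_mul A]
      rfl
    | inv u hu ihu =>
      have hu' : u ∈ C := hu
      have huN := hY (Subgroup.mem_sup_right hu')
      have e : (⟨u⁻¹, hyN⟩ : ↥(normalizerIn S P)) = ⟨u, huN⟩⁻¹ := rfl
      have hu1 := ihu huN hu'
      have hu2 : χ ⟨u, huN⟩ ∈ R ⊔ centralizerIn S R := Subgroup.mem_sup_right (himg u (hCP hu'))
      rw [autExt_of_mem A hu2] at hu1
      rw [e, map_inv, autExt_of_mem A ((R ⊔ centralizerIn S R).inv_mem hu2)]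
      refine Eq.trans ?_ (congrArg (fun w => w⁻¹) hu1)
      rw [← Subgroup.coe_inv, ← map_inv A]
      rfl
  -- pull back
  have hχY := restr_mem F hY hχ
  have hYU : (restr hY χ).range ≤ R ⊔ centralizerIn S R := range_le_sup_of_le _
    (fun y hy => Subgroup.mem_sup_left (hχm.le ⟨⟨y, hY y.2⟩, hy, rfl⟩))
    (fun y hy => Subgroup.mem_sup_right (himg y (hCP hy)))
  have hAY := restr_mem F hYU hAh
  have : Finite ↥(P ⊔ C) := finite_of_le ‹_› (hY.trans (normalizerIn_le P))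
  have hv : ∀ y : ↥(P ⊔ C), restr hYU ((R ⊔ centralizerIn S R).subtype.comp A.toMonoidHom)
      ⟨restr hY χ y, y, rfl⟩ ∈ (restr hY χ).range := fun y => range_le_sup_of_le
    ((restr hYU ((R ⊔ centralizerIn S R).subtype.comp A.toMonoidHom)).comp
      ((restr hY χ).codRestrict _ fun y => ⟨y, rfl⟩))
    (fun y hy => by
      show (A ⟨χ ⟨y, _⟩, _⟩ : Ω) ∈ (restr hY χ).range
      have h1 : χ ⟨y, hY y.2⟩ ∈ R := hχm.le ⟨⟨y, hY y.2⟩, hy, rfl⟩
      obtain ⟨x, hx⟩ := f.surjective (b ⟨_, h1⟩)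
      exact ⟨⟨x, Subgroup.mem_sup_left x.2⟩,
        (congrArg Subtype.val hx).trans (hAb ⟨_, h1⟩).symm⟩)
    (fun y hy => by
      show (A ⟨χ ⟨y, _⟩, _⟩ : Ω) ∈ (restr hY χ).range
      exact ⟨y, ((autExt_of_mem A (hYU ⟨y, rfl⟩)).symm.trans (hfix ⟨y, hY y.2⟩ hy)).symm⟩) ⟨y, rfl⟩
  have hcomp := F.comp_mem (F.comp_mem hχY hAY fun y => ⟨y, rfl⟩)
    (toIso_isIso F hχY rfl).symm hv
  refine ⟨hE.1 P (autGroup_mem_hom E hPT ha), hPC, fun x => hPC (a x).2, _, hcomp, fun x => ?_,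
    fun c => ?_⟩
  · show (((toIso F hχY rfl).symm ⟨_, _⟩ : ↥(P ⊔ C)) : Ω) = a x
    have e : (toIso F hχY rfl).symm ⟨_, hv ⟨x, Subgroup.mem_sup_left x.2⟩⟩ =
        ⟨a x, Subgroup.mem_sup_left (a x).2⟩ := by
      rw [MulEquiv.symm_apply_eq]
      refine Subtype.ext ((hAb (f x)).trans ?_)
      rw [autCongr_apply, MulEquiv.symm_apply_apply]
      rfl
    exact congrArg Subtype.val e
  · show (((toIso F hχY rfl).symm ⟨_, _⟩ : ↥(P ⊔ C)) : Ω) = c
    have e : (toIso F hχY rfl).symm ⟨_, hv ⟨c, Subgroup.mem_sup_right c.2⟩⟩ =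
        ⟨c, Subgroup.mem_sup_right c.2⟩ := by
      rw [MulEquiv.symm_apply_eq]
      refine Subtype.ext ?_
      show (A ⟨χ ⟨c, _⟩, _⟩ : Ω) = χ ⟨c, _⟩
      exact (autExt_of_mem A (hYU ⟨⟨c, Subgroup.mem_sup_right c.2⟩, rfl⟩)).symm.trans
        (hfix ⟨c, hY (Subgroup.mem_sup_right c.2)⟩ c.2)
    exact congrArg Subtype.val e

/-- A normal subsystem lies in the centralizer system of `centE`. -/
theorem centralizes_centE (hS : IsPGroup p S) (hF : F.IsSaturated p) {E : FusionSystem T}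
    (hE : E.IsNormalIn F p) : Centralizes F E (centE F E) := by
  obtain ⟨⟨hEs, -, hEi⟩, hext⟩ := hE
  have hT := hEi.2.1
  have hTS := hT.1
  have hTp := hS.to_le hTS
  have : Finite T := finite_of_le ‹_› hTS
  have hC := centE_le F E
  have hTC : T ≤ centralizerIn S (centE F E) := fun x hx =>
    ⟨hTS hx, Subgroup.mem_centralizer_iff.2 fun c hc =>
      (Subgroup.mem_centralizer_iff.1 (hC hc).2 x hx).symm⟩
  set Cs := centSys F (centE F E) (hC.trans (centralizerIn_le T))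
  let U : FusionSystem T := subSystem E (fun P φ => φ ∈ Cs.Hom P)
    (fun hP hg => Cs.conj_mem (hP.trans hTC) (hTC hg))
    (fun _ _ a b h => Cs.comp_mem a b h)
    (fun {P φ} _ a ψ _ he => by
      obtain ⟨c, hc, hce⟩ := Cs.inv_mem a
      refine mem_hom_congr Cs hc ?_
      rintro ⟨_, x, rfl⟩
      rw [he, hce])
  suffices h : E ≤ U from fun P φ hφ => (h P hφ).2
  refine Cfsg.Agent.FusionBatch.le_of_centric_radical_step hTp hEs U fun P hPn hPc _ ih => ?_
  have hPT := hPn.1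
  have hPS := hPT.trans hTS
  have : Finite P := finite_of_le ‹_› hPS
  have hPtc := tCentric_of_centric hEi hPc
  have hEn := saturated_fullyNormalized hTp hEs hPn
  -- a fully normalized conjugate in `F`
  obtain ⟨R, hPR, hR⟩ := exists_fullyNormalized F hPS
  obtain ⟨χ, hχ, -, hχm⟩ := exists_normalizer_map_fullyNormalized hS hF hR hPR
  have hRc := tCentric_of_isConj hT hPtc hPR
  have hcop : ∀ a ∈ E.autGroup P, Nat.Coprime (orderOf a) p →
      (∀ f : P ≃* R, (∀ x : P, (f x : Ω) = χ ⟨x, le_normalizerIn hPS x.2⟩) →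
        MulAut.congr f a ∈ goodLift F R) → a ∈ U.autGroup P := fun a ha ho hl =>
    (mem_autGroup U hPT).2 ⟨autGroup_mem_hom E hPT ha,
      mem_centSys_of_lift hS hF hEi hPT hR hχ hχm ha ho hl⟩
  have hTMU : autInducedBy T P ≤ U.autGroup P := autInducedBy_le_autGroup U hPT
  rcases hPT.eq_or_lt with hPeq | hlt
  · subst hPeq
    refine le_of_sylow_pprime (P := autInducedBy P P)
      ⟨autInducedBy_le_autGroup E le_rfl, hEn.2.2⟩ hTMU fun a ha ho => hcop a ha ho fun f hf => ?_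
    have hRP : R = P := by
      have : Finite P := ‹_›
      refine eq_of_le_of_card_le hRc.1 ?_
      rw [Nat.card_congr f.toEquiv]
    subst hRP
    have hfF : IsIso F f := mem_of_restricts F (le_normalizerIn hPS) hχ hf
    have hb := autCongr_mem_of_invariant hS hF hEi le_rfl hfF ha
    obtain ⟨β, hβ, hβT, hβC⟩ := hext _ hb
    refine ⟨β, hβ, hβT, fun y => ?_⟩
    obtain ⟨r, hr, c, hc, hy⟩ := exists_mul_of_mem_sup (T := R) (K := centralizerIn S R)
      (fun x hx b hb => Subgroup.mem_centralizer_iff.1 hb.2 x hx) y.2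
    have e : y = ⟨r, Subgroup.mem_sup_left hr⟩ * ⟨c, Subgroup.mem_sup_right hc⟩ := Subtype.ext hy
    have h1 : r⁻¹ * (β ⟨r, Subgroup.mem_sup_left hr⟩ : Ω) ∈ R :=
      R.mul_mem (R.inv_mem hr) ((hβT ⟨r, hr⟩).symm ▸ Subtype.mem _)
    have h2 := (hβC ⟨c, Subgroup.mem_sup_right hc⟩ hc).1
    rw [e, map_mul, Subgroup.coe_mul, Subgroup.coe_mul]
    have hcomm : c⁻¹ * (r⁻¹ * (β ⟨r, Subgroup.mem_sup_left hr⟩ : Ω)) =
        r⁻¹ * (β ⟨r, Subgroup.mem_sup_left hr⟩ : Ω) * c⁻¹ :=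
      (Subgroup.mem_centralizer_iff.1 ((Subgroup.centralizer _).inv_mem hc.2) _ h1).symm
    rw [show (r * c)⁻¹ * ((β ⟨r, Subgroup.mem_sup_left hr⟩ : Ω) *
      (β ⟨c, Subgroup.mem_sup_right hc⟩ : Ω)) = c⁻¹ * (r⁻¹ *
        (β ⟨r, Subgroup.mem_sup_left hr⟩ : Ω)) * (β ⟨c, Subgroup.mem_sup_right hc⟩ : Ω) by group,
      hcomm, mul_assoc]
    exact R.mul_mem h1 h2
  -- `O^{p'}` of the automizer
  set O := pElemGroup E p P
  have hnorm : ∀ g ∈ E.autGroup P, ∀ k ∈ O, g * k * g⁻¹ ∈ O := fun g hg k hk => by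
    have h := autCongr_mem_pElemGroup E ((mem_autGroup E hPT).1 hg) hk
    have e : MulAut.congr (g : P ≃* P) k = g * k * g⁻¹ := by
      ext x
      simp [autCongr_apply, MulAut.inv_def]
    rwa [e] at h
  have hle : autInducedBy T P ≤ O := fun c hc => by
    refine ⟨⟨c, autInducedBy_le_autGroup E hPT hc⟩, Subgroup.subset_closure ?_, rfl⟩
    obtain ⟨m, hm⟩ := isPGroup_autInducedBy hTp P ⟨c, hc⟩
    obtain ⟨j, -, hj⟩ :=
      (Nat.dvd_prime_pow (Fact.out : p.Prime)).1 (orderOf_dvd_of_pow_eq_one hm)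
    refine ⟨j, ?_⟩
    rw [Subgroup.orderOf_mk]
    rwa [Subgroup.orderOf_mk] at hj
  have hsyl : SylIn p (autInducedBy T P) O := by
    have h : SylIn p (autInducedBy T P) (E.autGroup P) :=
      ⟨autInducedBy_le_autGroup E hPT, hEn.2.2⟩
    have h2 := h.inf_normal (pElemGroup_le_autGroup E P) hnorm
    rwa [inf_eq_left.2 hle] at h2
  have hOU : O ≤ U.autGroup P := by
    refine le_of_sylow_pprime hsyl hTMU fun a ha ho =>
      hcop a (pElemGroup_le_autGroup E P ha) ho fun f hf => ?_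
    have hfF : IsIso F f := mem_of_restricts F (le_normalizerIn hPS) hχ hf
    refine pElem_le_goodLift hS hF hEi hEs hR hRc ?_
    have : pElemGroup E p P ≤ (pElemGroup E p R).comap (MulAut.congr f).toMonoidHom := by
      rw [pElemGroup, Subgroup.map_le_iff_le_comap, Subgroup.closure_le]
      rintro a ⟨k, hk⟩
      refine ⟨⟨_, autCongr_mem_of_invariant hS hF hEi hPT hfF a.2⟩,
        Subgroup.subset_closure ⟨k, ?_⟩, rfl⟩
      rw [Subgroup.orderOf_mk, ← hk, ← Subgroup.orderOf_coe a]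
      exact MulEquiv.orderOf_eq (MulAut.congr f) _
    exact this ha
  intro a ha
  obtain ⟨k, hk, hka⟩ := hsyl.frattini (hnorm a ha)
  have hN := normalizerIn_le (S := T) P
  obtain ⟨ψ, hψ, hψe⟩ := exists_ext_aut' (saturated_fullyCentralized hTp hEs hEn.1)
    (mul_mem (pElemGroup_le_autGroup E P hk) ha) (le_normalizerIn hPT) le_rfl
    fun g hg => ⟨⟨g, hg.2⟩, hka _ (mem_autInducedBy.2 ⟨g, hg.1, fun _ => rfl⟩), rfl⟩
  have hψU := ih _ hN (card_lt_of_lt hN (lt_normalizerIn hTp hlt)) hψ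
  have h1 : k * a ∈ U.autGroup P := (mem_autGroup U hPT).2
    (mem_of_restricts U (le_normalizerIn hPT) hψU fun x => (hψe x).symm)
  have := mul_mem ((U.autGroup P).inv_mem (hOU hk)) h1
  rwa [inv_mul_cancel_left] at this

/-- Elements of `centE` stay in it under maps defined on `T`. -/
theorem centE_map_top {E : FusionSystem T} (hS : IsPGroup p S) (hF : F.IsSaturated p)
    (hE : E.IsNormalIn F p) {d : Ω} (hd : d ∈ centE F E)
    {φ : ↥(T ⊔ Subgroup.zpowers d) →* Ω} (hφ : φ ∈ F.Hom (T ⊔ Subgroup.zpowers d)) :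
    φ ⟨d, Subgroup.mem_sup_right (Subgroup.mem_zpowers d)⟩ ∈ centE F E := by
  have hcen := centralizes_centE hS hF hE
  have hEi := hE.1.2.2
  have hT := hEi.2.1
  have hTS := hT.1
  have : Finite T := finite_of_le ‹_› hTS
  have hdT := centE_le F E hd
  set d' := φ ⟨d, Subgroup.mem_sup_right (Subgroup.mem_zpowers d)⟩
  have hφT := restr_mem F (le_sup_left : T ≤ T ⊔ Subgroup.zpowers d) hφ
  have hr := range_eq_of_image_le (F.injective_of_mem hφT) (Q := T)
    (by rintro _ ⟨x, rfl⟩; exact sc_map_mem hT hφT x.2) le_rfl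
  have hd' : d' ∈ centralizerIn S T := by
    refine ⟨map_mem_S F hφ _, Subgroup.mem_centralizer_iff.2 fun t ht => ?_⟩
    obtain ⟨x, rfl⟩ := hr.ge ht
    rw [restr_apply, ← map_mul, ← map_mul]
    exact congrArg φ (Subtype.ext (Subgroup.mem_centralizer_iff.1 hdT.2 _ x.2))
  refine Subgroup.subset_closure ⟨hd', fun P e he => ?_⟩
  set α : MulAut T := toIso F hφT hr
  have hα : α ∈ F.autGroup T := toIso_mem_autGroup F hφT hr
  have hPT := le_S E he
  obtain ⟨e', he', hee⟩ := hEi.2.2.1 P hPT e he α⁻¹ ((F.autGroup T).inv_mem hα)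
  set P' := (P.subgroupOf T).map (T.subtype.comp α⁻¹.toMonoidHom)
  have hP'T := le_S E he'
  obtain ⟨-, -, -, η, hη, hηP, hηd⟩ :=
    centralizes_mono hcen (Subgroup.zpowers_le.2 hd) P' he'
  set φr := toIso F hφ rfl
  have hrange : φ.range = T ⊔ Subgroup.zpowers d' := by
    refine le_antisymm (range_le_sup_of_le φ
      (fun y hy => Subgroup.mem_sup_left (sc_map_mem hT hφ hy)) (fun y hy => ?_)) ?_
    · obtain ⟨n, hn⟩ := hy
      refine Subgroup.mem_sup_right ⟨n, ?_⟩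
      show d' ^ n = φ y
      rw [← map_zpow]
      exact congrArg φ (Subtype.ext hn)
    · refine sup_le (fun t ht => ?_) (Subgroup.zpowers_le.2 ⟨_, rfl⟩)
      obtain ⟨x, hx⟩ := hr.ge ht
      exact ⟨_, hx⟩
  have hsrc : P ⊔ Subgroup.zpowers d' ≤ φ.range := by
    rw [hrange]
    exact sup_le_sup_right hPT _
  have hback := restr_mem F hsrc (toIso_isIso F hφ rfl).symm
  have hv : ∀ y, restr hsrc ((T ⊔ Subgroup.zpowers d).subtype.comp φr.symm.toMonoidHom) y ∈
      P' ⊔ Subgroup.zpowers d := fun y => range_le_sup_of_le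
    (restr hsrc ((T ⊔ Subgroup.zpowers d).subtype.comp φr.symm.toMonoidHom))
    (fun y hy => Subgroup.mem_sup_left (by
      refine ⟨⟨y, hPT hy⟩, hy, ?_⟩
      show ((α.symm ⟨y, _⟩ : T) : Ω) = (φr.symm ⟨y, _⟩ : Ω)
      have e1 : φr.symm ⟨y, hsrc y.2⟩ =
          ⟨α.symm ⟨y, hPT hy⟩, Subgroup.mem_sup_left (Subtype.mem _)⟩ := by
        rw [MulEquiv.symm_apply_eq]
        refine Subtype.ext ?_
        exact (congrArg Subtype.val (α.apply_symm_apply ⟨y, hPT hy⟩)).symm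
      exact (congrArg Subtype.val e1).symm))
    (fun y hy => Subgroup.mem_sup_right (by
      obtain ⟨n, hn⟩ := hy
      refine ⟨n, ?_⟩
      show d ^ n = (φr.symm ⟨y, _⟩ : Ω)
      have e1 : φr.symm ⟨y, hsrc y.2⟩ = ⟨d, Subgroup.mem_sup_right (Subgroup.mem_zpowers d)⟩ ^ n := by
        rw [MulEquiv.symm_apply_eq, map_zpow]
        exact Subtype.ext (hn.symm.trans (map_zpow (φ.range.subtype) (φr ⟨d, _⟩) n).symm)
      rw [e1]
      rfl)) ⟨y, rfl⟩
  have hηv : ∀ y, η y ∈ T ⊔ Subgroup.zpowers d := fun y => range_le_sup_of_le η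
    (fun y hy => Subgroup.mem_sup_left (sc_map_mem hT hη (hP'T hy)))
    (fun y hy => Subgroup.mem_sup_right ((hηd ⟨y, hy⟩).symm ▸ hy)) ⟨y, rfl⟩
  have hfull := F.comp_mem (F.comp_mem hback hη hv) hφ fun y => hηv _
  have hPd : P ≤ centralizerIn S (Subgroup.zpowers d') := fun x hx =>
    ⟨hTS (hPT hx), Subgroup.mem_centralizer_iff.2 fun z hz => by
      obtain ⟨n, rfl⟩ := hz
      exact ((show Commute x d' from Subgroup.mem_centralizer_iff.1 hd'.2 x (hPT hx)).zpow_right n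
        ).symm.eq⟩
  refine ⟨hEi.1 P he, hPd, fun x => ?_, _, hfull, fun x => ?_, fun z => ?_⟩
  · refine ⟨map_mem_S F (hEi.1 P he) x, Subgroup.mem_centralizer_iff.2 fun z hz => ?_⟩
    obtain ⟨n, rfl⟩ := hz
    exact ((show Commute (e x) d' from Subgroup.mem_centralizer_iff.1 hd'.2 _
      (map_mem_S E he x)).zpow_right n).symm.eq
  · show φ ⟨η _, _⟩ = e x
    have hex := map_mem_S E he x
    have hxP' : ((α⁻¹ ⟨x, hPT x.2⟩ : T) : Ω) ∈ P' := ⟨⟨x, hPT x.2⟩, x.2, rfl⟩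
    refine Eq.trans (congrArg φ (Subtype.ext (a2 := ⟨((α⁻¹ ⟨e x, hex⟩ : T) : Ω),
      Subgroup.mem_sup_left (Subtype.mem _)⟩) ?_)) ?_
    · refine Eq.trans (congrArg η (Subtype.ext ?_)) ((hηP ⟨_, hxP'⟩).trans (hee x hex hxP'))
      show (φr.symm ⟨x, _⟩ : Ω) = ((α.symm ⟨x, _⟩ : T) : Ω)
      have e1 : φr.symm ⟨x, hsrc (Subgroup.mem_sup_left x.2)⟩ =
          ⟨α.symm ⟨x, hPT x.2⟩, Subgroup.mem_sup_left (Subtype.mem _)⟩ := by
        rw [MulEquiv.symm_apply_eq]
        exact Subtype.ext (congrArg Subtype.val (α.apply_symm_apply ⟨x, hPT x.2⟩)).symm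
      exact congrArg Subtype.val e1
    · exact congrArg Subtype.val (α.apply_symm_apply ⟨e x, hex⟩)
  · obtain ⟨n, hn⟩ := z.2
    show φ ⟨η _, _⟩ = z
    have hzd : (d ^ n) ∈ Subgroup.zpowers d := ⟨n, rfl⟩
    refine Eq.trans (congrArg φ (Subtype.ext (a2 := ⟨d ^ n, Subgroup.mem_sup_right hzd⟩) ?_)) ?_
    · refine Eq.trans (congrArg η (Subtype.ext ?_)) (hηd ⟨_, hzd⟩)
      show (φr.symm ⟨z, _⟩ : Ω) = d ^ n
      have e1 : φr.symm ⟨z, hsrc (Subgroup.mem_sup_right z.2)⟩ =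
          ⟨d, Subgroup.mem_sup_right (Subgroup.mem_zpowers d)⟩ ^ n := by
        rw [MulEquiv.symm_apply_eq, map_zpow]
        exact Subtype.ext (hn.symm.trans (map_zpow (φ.range.subtype) (φr ⟨d, _⟩) n).symm)
      rw [e1]
      rfl
    · refine Eq.trans ?_ hn
      show _ = d' ^ n
      refine Eq.trans (congrArg φ (Subtype.ext ?_)) (map_zpow φ _ n)
      exact (map_zpow (Subgroup.subtype _) (⟨d, _⟩ : ↥(T ⊔ Subgroup.zpowers d)) n).symm

/-- Maps defined on a `T`-centric subgroup and an element of `centE` keep it in `centE`. -/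
theorem centE_map (hS : IsPGroup p S) (hF : F.IsSaturated p) {E : FusionSystem T}
    (hE : E.IsNormalIn F p) {P : Subgroup Ω} (hP : TCentric F T P) {d : Ω} (hd : d ∈ centE F E)
    {φ : ↥(P ⊔ Subgroup.zpowers d) →* Ω} (hφ : φ ∈ F.Hom (P ⊔ Subgroup.zpowers d)) :
    φ ⟨d, Subgroup.mem_sup_right (Subgroup.mem_zpowers d)⟩ ∈ centE F E := by
  have hcen := centralizes_centE hS hF hE
  obtain ⟨⟨hEs, -, hEi⟩, hext⟩ := hE
  have hE : E.IsNormalIn F p := ⟨⟨hEs, hF, hEi⟩, hext⟩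
  have hT := hEi.2.1
  have hTS := hT.1
  have hTp := hS.to_le hTS
  have : Finite T := finite_of_le ‹_› hTS
  refine downward_induction (S := T) (motive := fun P => TCentric F T P → ∀ d, d ∈ centE F E →
    ∀ φ : ↥(P ⊔ Subgroup.zpowers d) →* Ω, φ ∈ F.Hom (P ⊔ Subgroup.zpowers d) →
      φ ⟨d, Subgroup.mem_sup_right (Subgroup.mem_zpowers d)⟩ ∈ centE F E) ?_ hP.1 hP d hd φ hφ
  clear! P d
  intro P hPT ih hP d hd φ hφ
  rcases hPT.eq_or_lt with hPeq | hlt
  · subst hPeq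
    exact centE_map_top hS hF hE hd hφ
  -- reduce to a map fixing a subgroup of `T`
  have hσ : ∀ {P₁ : Subgroup Ω} {Y : Subgroup Ω} {θ : Y →* Ω} {d : Ω}, P₁ ≤ T → (hY : P₁ ≤ Y) →
      θ ∈ F.Hom Y → d ∈ centE F E → ∃ σ : ↥(P₁ ⊔ Subgroup.zpowers d) →* Ω,
        σ ∈ F.Hom (P₁ ⊔ Subgroup.zpowers d) ∧
        (∀ x : P₁, σ ⟨x, Subgroup.mem_sup_left x.2⟩ = θ ⟨x, hY x.2⟩) ∧
        σ ⟨d, Subgroup.mem_sup_right (Subgroup.mem_zpowers d)⟩ ∈ centE F E := by
    intro P₁ Y θ d hP₁ hY hθ hd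
    obtain ⟨α, hα, e, he, hαe⟩ := hEi.2.2.2 P₁ hP₁ _ (restr_mem F hY hθ)
    obtain ⟨-, -, -, η, hη, hηP, hηd⟩ := centralizes_mono hcen (Subgroup.zpowers_le.2 hd) P₁ he
    have hTn : F.IsFullyNormalized T := ⟨hTS, fun Q hQ => by
      obtain ⟨χ, hχ, rfl⟩ := hQ
      rw [range_eq_of_image_le (F.injective_of_mem hχ)
        (by rintro _ ⟨x, rfl⟩; exact sc_map_mem hT hχ x.2) le_rfl]⟩
    have hdT := centE_le F E hd
    have hle : T ⊔ Subgroup.zpowers d ≤ normalizerIn S T := sup_le (le_normalizerIn hTS)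
      (Subgroup.zpowers_le.2 (centralizerIn_le_normalizerIn T hdT))
    obtain ⟨Θ, hΘ, hΘe⟩ := exists_ext_aut'
      (saturated_fullyCentralized hS hF (saturated_fullyNormalized hS hF hTn).1) hα
      (le_sup_left : T ≤ T ⊔ Subgroup.zpowers d) hle
      (sup_le (le_carried_self F hTS α) (Subgroup.zpowers_le.2 (centralizer_le_carried T α hdT)))
    have hηv : ∀ y, η y ∈ T ⊔ Subgroup.zpowers d := fun y => range_le_sup_of_le η
      (fun y hy => Subgroup.mem_sup_left (sc_map_mem hT hη (hP₁ hy)))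
      (fun y hy => Subgroup.mem_sup_right ((hηd ⟨y, hy⟩).symm ▸ hy)) ⟨y, rfl⟩
    refine ⟨_, F.comp_mem hη hΘ hηv, fun x => ?_, ?_⟩
    · show Θ ⟨η _, _⟩ = θ ⟨x, hY x.2⟩
      refine Eq.trans (congrArg Θ (Subtype.ext (a1 := ⟨η _, hηv ⟨x, Subgroup.mem_sup_left x.2⟩⟩)
        (a2 := ⟨e x, Subgroup.mem_sup_left (map_mem_S E he x)⟩) (hηP x)))
        ((hΘe ⟨e x, map_mem_S E he x⟩).trans ?_)
      exact (hαe x (map_mem_S E he x)).symm
    · show Θ ⟨η _, _⟩ ∈ centE F E
      have e1 : (⟨η _, hηv ⟨d, Subgroup.mem_sup_right (Subgroup.mem_zpowers d)⟩⟩ :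
          ↥(T ⊔ Subgroup.zpowers d)) = ⟨d, Subgroup.mem_sup_right (Subgroup.mem_zpowers d)⟩ :=
        Subtype.ext (hηd ⟨d, Subgroup.mem_zpowers d⟩)
      rw [e1]
      exact centE_map_top hS hF hE hd hΘ
  obtain ⟨σ, hσm, hσP, hd'⟩ := hσ (θ := φ) hPT le_sup_left hφ hd
  set d' := σ ⟨d, Subgroup.mem_sup_right (Subgroup.mem_zpowers d)⟩
  set c' := φ ⟨d, Subgroup.mem_sup_right (Subgroup.mem_zpowers d)⟩
  have hdT := centE_le F E hd
  have hd'T := centE_le F E hd'
  set P₁ := (restr (le_sup_left : P ≤ P ⊔ Subgroup.zpowers d) φ).range with hP₁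
  have hP₁c : TCentric F T P₁ :=
    tCentric_of_isConj hT hP ⟨_, restr_mem F le_sup_left hφ, rfl⟩
  -- `γ` fixes `P₁` and sends `d'` to `c'`
  have hσR : P₁ ⊔ Subgroup.zpowers d' ≤ σ.range := sup_le
    (by rintro _ ⟨x, rfl⟩; exact ⟨_, hσP x⟩) (Subgroup.zpowers_le.2 ⟨_, rfl⟩)
  have hγ := F.comp_mem (restr_mem F hσR (toIso_isIso F hσm rfl).symm) hφ
    fun y => ((toIso F hσm rfl).symm (Subgroup.inclusion hσR y)).2
  set γ := φ.comp ((restr hσR ((P ⊔ Subgroup.zpowers d).subtype.comp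
    (toIso F hσm rfl).symm.toMonoidHom)).codRestrict _
      fun y => ((toIso F hσm rfl).symm (Subgroup.inclusion hσR y)).2)
  have hγP : ∀ x : P₁, γ ⟨x, Subgroup.mem_sup_left x.2⟩ = x := by
    rintro ⟨_, x, rfl⟩
    show φ ((toIso F hσm rfl).symm ⟨_, _⟩) = φ _
    refine congrArg φ ?_
    rw [MulEquiv.symm_apply_eq]
    exact Subtype.ext (hσP x).symm
  have hγd : γ ⟨d', Subgroup.mem_sup_right (Subgroup.mem_zpowers d')⟩ = c' := by
    show φ ((toIso F hσm rfl).symm ⟨_, _⟩) = φ _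
    refine congrArg φ ?_
    rw [MulEquiv.symm_apply_eq]
    exact Subtype.ext rfl
  -- transport
  have hP₁S := hP₁c.1.trans hTS
  obtain ⟨R, hP₁R, hR⟩ := exists_fullyNormalized F hP₁S
  obtain ⟨χ, hχ, hχN, hχm⟩ := exists_normalizer_map_fullyNormalized hS hF hR hP₁R
  have hRc := tCentric_of_isConj hT hP₁c hP₁R
  obtain ⟨σ₂, hσ₂, hσ₂P, hd''⟩ := hσ (θ := χ) hP₁c.1 (le_normalizerIn hP₁S) hχ hd'
  set d'' := σ₂ ⟨d', Subgroup.mem_sup_right (Subgroup.mem_zpowers d')⟩
  have hd''T := centE_le F E hd''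
  have hd''R : d'' ∈ centralizerIn S R := centralizerIn_antitone hRc.1 hd''T
  have hγv : ∀ y, γ y ∈ normalizerIn S P₁ := fun y => range_le_sup_of_le γ
    (fun y hy => le_normalizerIn hP₁S ((hγP ⟨y, hy⟩).symm ▸ hy))
    (fun y hy => centralizerIn_le_normalizerIn P₁ ⟨map_mem_S F hγ y,
      Subgroup.mem_centralizer_iff.2 fun x hx => by
        show ((⟨x, hx⟩ : P₁) : Ω) * γ y = γ y * ((⟨x, hx⟩ : P₁) : Ω)
        rw [← hγP ⟨x, hx⟩, ← map_mul, ← map_mul]
        refine congrArg γ (Subtype.ext ?_)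
        exact Subgroup.mem_centralizer_iff.1
          ((Subgroup.zpowers_le.2 hd'T.2) hy) _ (hP₁c.1 hx)⟩) ⟨y, rfl⟩
  have hσ₂R : R ⊔ Subgroup.zpowers d'' ≤ σ₂.range := sup_le
    (fun r hr => by
      obtain ⟨x, hx, rfl⟩ := hχm.ge hr
      exact ⟨_, hσ₂P ⟨x, hx⟩⟩) (Subgroup.zpowers_le.2 ⟨_, rfl⟩)
  set σi := restr hσ₂R ((P₁ ⊔ Subgroup.zpowers d').subtype.comp
    (toIso F hσ₂ rfl).symm.toMonoidHom)
  have hσi : σi ∈ F.Hom _ := restr_mem F hσ₂R (toIso_isIso F hσ₂ rfl).symm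
  have hσiv : ∀ y, σi y ∈ P₁ ⊔ Subgroup.zpowers d' := fun y =>
    ((toIso F hσ₂ rfl).symm (Subgroup.inclusion hσ₂R y)).2
  have hγ2 := F.comp_mem (F.comp_mem hσi hγ hσiv) hχ fun y => hγv _
  set γ₂ := χ.comp ((γ.comp (σi.codRestrict _ hσiv)).codRestrict _ fun y => hγv _)
  have hγ₂R : ∀ r : R, γ₂ ⟨r, Subgroup.mem_sup_left r.2⟩ = r := by
    rintro ⟨r, hr⟩
    obtain ⟨x, hx, rfl⟩ := hχm.ge hr
    show χ ⟨γ ⟨σi _, _⟩, _⟩ = χ x
    refine congrArg χ (Subtype.ext ?_)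
    refine Eq.trans (congrArg γ (Subtype.ext ?_)) (hγP ⟨x, hx⟩)
    refine congrArg Subtype.val (?_ : (toIso F hσ₂ rfl).symm _ = ⟨x, Subgroup.mem_sup_left hx⟩)
    rw [MulEquiv.symm_apply_eq]
    exact Subtype.ext (hσ₂P ⟨x, hx⟩).symm
  have hc'N : c' ∈ normalizerIn S P₁ := hγd ▸ hγv _
  have hγ₂d : γ₂ ⟨d'', Subgroup.mem_sup_right (Subgroup.mem_zpowers d'')⟩ = χ ⟨c', hc'N⟩ := by
    show χ ⟨γ ⟨σi _, _⟩, _⟩ = _
    refine congrArg χ (Subtype.ext ?_)
    refine Eq.trans (congrArg γ (Subtype.ext ?_)) hγd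
    refine congrArg Subtype.val (?_ : (toIso F hσ₂ rfl).symm _ =
      ⟨d', Subgroup.mem_sup_right (Subgroup.mem_zpowers d')⟩)
    rw [MulEquiv.symm_apply_eq]
    exact Subtype.ext rfl
  have hmem : restr (le_sup_right : Subgroup.zpowers d'' ≤ R ⊔ Subgroup.zpowers d'') γ₂ ∈
      F.centralizerHom R (Subgroup.zpowers d'') := by
    refine ⟨restr_mem F le_sup_right hγ2, Subgroup.zpowers_le.2 hd''R, fun y => ?_,
      restr (sup_le le_sup_right le_sup_left) γ₂, restr_mem F _ hγ2, fun _ => rfl,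
      fun r => hγ₂R r⟩
    refine ⟨map_mem_S F hγ2 _, Subgroup.mem_centralizer_iff.2 fun r hr => ?_⟩
    show ((⟨r, hr⟩ : R) : Ω) * γ₂ _ = γ₂ _ * ((⟨r, hr⟩ : R) : Ω)
    rw [← hγ₂R ⟨r, hr⟩, ← map_mul, ← map_mul]
    exact congrArg γ₂ (Subtype.ext
      (Subgroup.mem_centralizer_iff.1 ((Subgroup.zpowers_le.2 hd''R) y.2).2 r hr))
  obtain ⟨Ψ, hΨ, hΨd, hΨR⟩ := exists_ext_normalizerT hS hF hT hRc.1 (isConj_rfl_T hT hRc)
    (saturated_fullyNormalized hS hF hR).1 hmem
  -- the larger subgroup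
  have : Finite ↥(normalizerIn T R) := finite_of_le ‹_› (normalizerIn_le R)
  have hΨN := restr_mem F (le_sup_right : normalizerIn T R ≤ Subgroup.zpowers d'' ⊔ normalizerIn T R) hΨ
  have hΨr := range_eq_of_image_le (F.injective_of_mem hΨN) (Q := normalizerIn T R) (by
    rintro _ ⟨x, rfl⟩
    exact fix_mem_normalizerT hT hΨ ((le_normalizerIn hRc.1).trans le_sup_right) hΨR
      (n := Subgroup.inclusion le_sup_right x) x.2) le_rfl
  set eN := toIso F hΨN hΨr
  have hNS : normalizerIn T P₁ ≤ normalizerIn S P₁ := inf_le_inf_right _ hTS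
  have hχ' := restr_mem F hNS hχ
  have hχ'v : ∀ x, restr hNS χ x ∈ normalizerIn T R := fun x =>
    ⟨sc_map_mem hT hχ' x.2.1, (hχN _).2⟩
  have hg := F.comp_mem hχ' (toIso_isIso F hΨN hΨr).symm hχ'v
  set g := ((normalizerIn T R).subtype.comp eN.symm.toMonoidHom).comp
    ((restr hNS χ).codRestrict _ hχ'v)
  have hN1c : TCentric F T (normalizerIn T P₁) :=
    tCentric_mono hP₁c (le_normalizerIn hP₁c.1) (normalizerIn_le P₁)
  have hN'' : TCentric F T g.range := tCentric_of_isConj hT hN1c ⟨g, hg, rfl⟩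
  have hg'' : g.range ≤ normalizerIn T R := by
    rintro _ ⟨x, rfl⟩
    exact (eN.symm _).2
  have hsrc : g.range ⊔ Subgroup.zpowers d'' ≤ Subgroup.zpowers d'' ⊔ normalizerIn T R :=
    sup_le (hg''.trans le_sup_right) le_sup_left
  have hΨv : ∀ y, restr hsrc Ψ y ∈ χ.range := fun y => range_le_sup_of_le (restr hsrc Ψ)
    (fun y hy => by
      obtain ⟨x, hx⟩ := hy
      refine ⟨⟨x, hNS x.2⟩, ?_⟩
      have h1 := congrArg Subtype.val (eN.apply_symm_apply ⟨_, hχ'v x⟩)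
      refine h1.symm.trans ?_
      exact congrArg Ψ (Subtype.ext hx))
    (fun y hy => by
      obtain ⟨n, hn⟩ := hy
      have e : restr hsrc Ψ y = (χ ⟨c', hc'N⟩) ^ n := by
        rw [← hγ₂d, ← map_zpow]
        refine Eq.trans ?_ ((hΨd ⟨d'' ^ n, n, rfl⟩).trans ?_)
        · exact congrArg Ψ (Subtype.ext hn.symm)
        · exact congrArg γ₂ (Subtype.ext (by simp))
      rw [e]
      exact χ.range.zpow_mem ⟨_, rfl⟩ n) ⟨y, rfl⟩
  have hnew := F.comp_mem (restr_mem F hsrc hΨ) (toIso_isIso F hχ rfl).symm hΨv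
  have hP₁lt : P₁ < T := lt_of_le_of_ne hP₁c.1 fun e => by
    have h1 := card_lt_of_lt le_rfl hlt
    have h2 : Nat.card P = Nat.card P₁ :=
      Nat.card_congr (toIso F (restr_mem F le_sup_left hφ) rfl).toEquiv
    rw [e] at h2
    omega
  have hcard : Nat.card P < Nat.card g.range := by
    rw [← Nat.card_congr (toIso F hg rfl).toEquiv,
      show Nat.card P = Nat.card P₁ from
        Nat.card_congr (toIso F (restr_mem F le_sup_left hφ) rfl).toEquiv]
    exact card_lt_of_lt (normalizerIn_le P₁) (lt_normalizerIn hTp hP₁lt)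
  have hfin := ih g.range hN''.1 hcard hN'' d'' hd'' _ hnew
  have hval : (((toIso F hχ rfl).symm ⟨_, hΨv ⟨d'',
      Subgroup.mem_sup_right (Subgroup.mem_zpowers d'')⟩⟩ : ↥(normalizerIn S P₁)) : Ω) = c' := by
    refine congrArg Subtype.val (?_ : (toIso F hχ rfl).symm _ = ⟨c', hc'N⟩)
    rw [MulEquiv.symm_apply_eq]
    exact Subtype.ext ((hΨd ⟨d'', Subgroup.mem_zpowers d''⟩).trans hγ₂d)
  exact hval ▸ hfin

/-- The intersection of a centric radical subgroup with `T` is centric relative to `T`. -/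
theorem tCentric_inf (hS : IsPGroup p S) (hF : F.IsSaturated p) (hT : F.StronglyClosed T)
    {R : Subgroup Ω} (hRc : F.IsCentric R) (hRr : F.IsRadical p R) :
    centralizerIn T (R ⊓ T) ≤ R := by
  have hRS := hRc.1
  have hTS := hT.1
  have : Finite R := finite_of_le ‹_› hRS
  set P := R ⊓ T
  have hPR : P ≤ R := inf_le_left
  set K := centralizerIn T P
  have hKS : K ≤ S := (centralizerIn_le P).trans hTS
  have hRK : R ≤ Subgroup.normalizer (K : Set Ω) := by
    have key : ∀ g ∈ R, ∀ x ∈ K, g * x * g⁻¹ ∈ K := fun g hg x hx =>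
      ⟨sc_conj_mem hT (hRS hg) hx.1, Subgroup.mem_centralizer_iff.2 fun y hy => by
        have hy' : g⁻¹ * y * g ∈ P := by
          refine ⟨R.mul_mem (R.mul_mem (R.inv_mem hg) hy.1) hg, ?_⟩
          simpa using sc_conj_mem hT (S.inv_mem (hRS hg)) hy.2
        calc y * (g * x * g⁻¹) = g * ((g⁻¹ * y * g) * x) * g⁻¹ := by group
          _ = g * (x * (g⁻¹ * y * g)) * g⁻¹ := by
            rw [Subgroup.mem_centralizer_iff.1 hx.2 _ hy']
          _ = g * x * g⁻¹ * y := by group⟩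
    intro g hg
    refine Subgroup.mem_normalizer_iff.2 fun x => ⟨key g hg x, fun hx => ?_⟩
    have := key g⁻¹ (R.inv_mem hg) _ hx
    simpa [mul_assoc] using this
  refine le_sup_right.trans (le_of_normalizer_self hS (sup_le hRS hKS) le_sup_left
    fun g hg hgN => ?_)
  have hgmul : g ∈ (R : Set Ω) * (K : Set Ω) := by
    rw [← Subgroup.coe_mul_of_left_le_normalizer_right R K hRK]
    exact hg
  obtain ⟨r, hr, c, hc, rfl⟩ := hgmul
  have hcN : c ∈ Subgroup.normalizer (R : Set Ω) := by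
    have h := (Subgroup.normalizer (R : Set Ω)).mul_mem
      ((Subgroup.normalizer _).inv_mem (Subgroup.le_normalizer hr)) hgN
    simpa using h
  refine R.mul_mem hr ?_
  -- the stabilizer of the series `P ≤ R`
  let N : Subgroup (MulAut R) :=
    { carrier := {n | n ∈ F.autGroup R ∧ (∀ x : R, (x : Ω) ∈ P → n x = x) ∧
        ∀ x : R, x⁻¹ * n x ∈ P.subgroupOf R}
      one_mem' := ⟨one_mem _, fun _ _ => rfl, fun x => by simp⟩
      mul_mem' := fun {a b} ha hb => ⟨mul_mem ha.1 hb.1,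
        fun x hx => by rw [MulAut.mul_apply, hb.2.1 x hx, ha.2.1 x hx],
        fun x => by
          have h := (P.subgroupOf R).mul_mem (hb.2.2 x) (ha.2.2 (b x))
          simpa [mul_assoc] using h⟩
      inv_mem' := fun {a} ha => ⟨(F.autGroup R).inv_mem ha.1,
        fun x hx => by rw [MulAut.inv_def, MulEquiv.symm_apply_eq, ha.2.1 x hx],
        fun x => by
          have h := (P.subgroupOf R).inv_mem (ha.2.2 (a.symm x))
          simpa using h⟩ }
  have hNp : IsPGroup p N := by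
    rintro ⟨n, hn⟩
    obtain ⟨k, hk⟩ := ((hS.to_le hRS).to_subgroup (P.subgroupOf R)).exists_card_eq
    refine ⟨k, Subtype.ext (MulEquiv.ext fun x => ?_)⟩
    show (n ^ p ^ k) x = x
    rw [← hk]
    exact iterate_eq_of_stab n (B := P.subgroupOf R) (fun y hy => hn.2.1 y hy) (hn.2.2 x)
  have hNn : ∀ α ∈ F.autGroup R, ∀ n ∈ N, α * n * α⁻¹ ∈ N := by
    intro α hα n hn
    have hmem : ∀ x : R, (α x : Ω) ∈ P ↔ (x : Ω) ∈ P := fun x => by
      constructor
      · exact fun h => ⟨x.2, (sc_map_mem_iff hT (autGroup_mem_hom F hRS hα) x).1 h.2⟩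
      · exact fun h => ⟨(α x).2, sc_map_mem hT (autGroup_mem_hom F hRS hα) h.2⟩
    refine ⟨mul_mem (mul_mem hα hn.1) ((F.autGroup R).inv_mem hα), fun x hx => ?_, fun x => ?_⟩
    · obtain ⟨y, rfl⟩ := α.surjective x
      rw [MulAut.mul_apply, MulAut.mul_apply, MulAut.inv_def, MulEquiv.symm_apply_apply,
        hn.2.1 y ((hmem y).1 hx)]
    · obtain ⟨y, rfl⟩ := α.surjective x
      rw [MulAut.mul_apply, MulAut.mul_apply, MulAut.inv_def, MulEquiv.symm_apply_apply,
        ← map_inv, ← map_mul]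
      exact (hmem _).2 (hn.2.2 y)
  refine mem_of_noOuter hRc (noOuterPNormal_of_radical hRr) (N := N) (fun n hn => hn.1) hNn hNp
    ⟨hKS hc, hcN⟩ ⟨autInducedBy_le_autGroup F hRS
      (mem_autInducedBy.2 ⟨c, hKS hc, fun _ => rfl⟩), fun x hx => ?_, fun x => ?_⟩
  · refine Subtype.ext ?_
    show c * (x : Ω) * c⁻¹ = x
    rw [← Subgroup.mem_centralizer_iff.1 hc.2 _ hx, mul_inv_cancel_right]
  · have h1 : (x : Ω)⁻¹ * (c * x * c⁻¹) ∈ T := by
      have h2 := T.mul_mem (sc_conj_mem hT (S.inv_mem (hRS x.2)) hc.1) (T.inv_mem hc.1)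
      simpa [mul_assoc] using h2
    exact ⟨R.mul_mem (R.inv_mem x.2) ((Subgroup.mem_normalizer_iff.1 hcN _).1 x.2), h1⟩

/-- The centralizer of a normal subsystem is strongly closed. -/
theorem centE_stronglyClosed (hS : IsPGroup p S) (hF : F.IsSaturated p) {E : FusionSystem T}
    (hE : E.IsNormalIn F p) : F.StronglyClosed (centE F E) := by
  have hT := hE.1.2.2.2.1
  have hCS : centE F E ≤ S := (centE_le F E).trans (centralizerIn_le T)
  let V : FusionSystem S := subSystem F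
    (fun P φ => ∀ x : P, (x : Ω) ∈ centE F E ↔ φ x ∈ centE F E)
    (fun {P g} hP hg x => by
      have key : ∀ g ∈ S, ∀ y ∈ centE F E, g * y * g⁻¹ ∈ centE F E := fun g hg y hy =>
        centE_map_top hS hF hE hy (F.conj_mem
          (sup_le hT.1 (Subgroup.zpowers_le.2 (hCS hy))) hg)
      refine ⟨key g hg x, fun h => ?_⟩
      have := key g⁻¹ (S.inv_mem hg) _ h
      simpa [mul_assoc] using this)
    (fun _ _ a b h x => (a x).trans (b ⟨_, h x⟩))
    (fun {P φ} _ a ψ _ he y => by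
      obtain ⟨x, hx⟩ := y.2
      have hy : y = ⟨φ x, x, rfl⟩ := Subtype.ext hx.symm
      rw [hy, he x]
      exact (a x).symm)
  suffices h : F ≤ V from sc_of_elements hCS fun P φ hφ x hx => ((h P hφ).2 x).1 hx
  refine Cfsg.Agent.FusionBatch.le_of_centric_radical hS hF _ fun R _ hRc hRr a ha => ?_
  have hRS := hRc.1
  have : Finite T := finite_of_le ‹_› hT.1
  have hP : TCentric F T (R ⊓ T) := by
    refine ⟨inf_le_right, ?_⟩
    obtain ⟨P₀, hP₀, hP₀n⟩ := exists_fullyNormalized F (inf_le_left.trans hRS : R ⊓ T ≤ S)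
    obtain ⟨χ, hχ, -, hχm⟩ := exists_normalizer_map_fullyNormalized hS hF hP₀n hP₀
    have hRN : R ≤ normalizerIn S (R ⊓ T) := fun g hg => ⟨hRS hg,
      Subgroup.mem_normalizer_iff.2 fun x => ⟨fun hx =>
        ⟨R.mul_mem (R.mul_mem hg hx.1) (R.inv_mem hg), sc_conj_mem hT (hRS hg) hx.2⟩, fun hx => by
          have h1 := R.mul_mem (R.mul_mem (R.inv_mem hg) hx.1) hg
          have h2 := sc_conj_mem hT (S.inv_mem (hRS hg)) hx.2
          refine ⟨?_, ?_⟩
          · simpa [mul_assoc] using h1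
          · simpa [mul_assoc] using h2⟩⟩
    set R₀ := (restr hRN χ).range with hR₀
    have hconj : F.IsConj R R₀ := ⟨_, restr_mem F hRN hχ, rfl⟩
    have hR₀c := isCentric_of_isConj hRc hconj
    obtain ⟨f, hf⟩ := (isConj_iff_exists_iso F).1 hconj
    have hR₀r : F.IsRadical p R₀ := by
      refine ⟨hR₀c.1, ?_⟩
      have h := congrArg (fun K => Subgroup.map (MulAut.congr f).toMonoidHom K) hRr.2
      refine Eq.trans ?_ (h.trans ?_)
      · rw [Subgroup.map_map, ← Cfsg.Agent.Cores.map_pCore_equiv (autGroupCongr F hf),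
          Subgroup.map_map]
        rfl
      · ext b
        constructor
        · rintro ⟨_, ⟨z, rfl⟩, rfl⟩
          exact ⟨f z, MulEquiv.ext fun y => by simp [autCongr_apply]⟩
        · rintro ⟨z, rfl⟩
          exact ⟨_, ⟨f.symm z, rfl⟩, MulEquiv.ext fun y => by simp [autCongr_apply]⟩
    have hP₀eq : P₀ = R₀ ⊓ T := by
      rw [← hχm]
      ext y
      rw [mem_map_subgroupOf]
      constructor
      · rintro ⟨x, hx, rfl⟩
        exact ⟨⟨⟨x, hx.1⟩, rfl⟩, sc_map_mem hT hχ hx.2⟩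
      · rintro ⟨⟨x, rfl⟩, hyT⟩
        exact ⟨Subgroup.inclusion hRN x, ⟨x.2, (sc_map_mem_iff hT hχ _).1 hyT⟩, rfl⟩
    have hP₀c : centralizerIn T P₀ ≤ P₀ := fun c hc => by
      rw [hP₀eq] at hc ⊢
      exact ⟨tCentric_inf hS hF hT hR₀c hR₀r hc, hc.1⟩
    intro Q hQ
    obtain ⟨θ, hθ, -, hθm⟩ :=
      exists_normalizer_map_fullyNormalized hS hF hP₀n (isConj_trans (isConj_symm hQ) hP₀)
    intro c hc
    have hcN : c ∈ normalizerIn S Q :=
      centralizerIn_le_normalizerIn Q ⟨hT.1 hc.1, hc.2⟩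
    have hQN : Q ≤ normalizerIn S Q := le_normalizerIn (isConj_le_right hQ)
    have h1 : θ ⟨c, hcN⟩ ∈ centralizerIn T P₀ := by
      refine ⟨sc_map_mem hT hθ hc.1, Subgroup.mem_centralizer_iff.2 fun y hy => ?_⟩
      rw [← hθm] at hy
      obtain ⟨x, hx, rfl⟩ := hy
      rw [← map_mul, ← map_mul]
      exact congrArg θ (Subtype.ext (Subgroup.mem_centralizer_iff.1 hc.2 _ hx))
    obtain ⟨x, hx, hxc⟩ := hθm.ge (hP₀c h1)
    have := congrArg Subtype.val (F.injective_of_mem hθ hxc)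
    exact (show (x : Ω) = c from this) ▸ hx
  have key : ∀ a ∈ F.autGroup R, ∀ x : R, (x : Ω) ∈ centE F E → (a x : Ω) ∈ centE F E := by
    intro a ha x hx
    have hle : (R ⊓ T) ⊔ Subgroup.zpowers (x : Ω) ≤ R :=
      sup_le inf_le_left (Subgroup.zpowers_le.2 x.2)
    exact centE_map hS hF hE hP hx (restr_mem F hle (autGroup_mem_hom F hRS ha))
  refine (mem_autGroup V hRS).2 ⟨autGroup_mem_hom F hRS ha, fun x => ⟨key a ha x, fun h => ?_⟩⟩
  have h2 := key a⁻¹ ((F.autGroup R).inv_mem ha) (a x) h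
  rw [MulAut.inv_def, MulEquiv.symm_apply_apply] at h2
  exact h2

end Cfsg.Agent.FusionAlperin
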