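import Cfsg.Agent.FusionAlperin.DirectFactor
import Cfsg.Agent.FusionAlperin.Alperin
import Cfsg.Agent.FusionSys.Centric
import Cfsg.Agent.FusionBatch.Basic

/-!
For a strongly closed subgroup `T` and `Q ≤ T` fully centralized with `C_T(Q) ≤ Q`, every map of
the centralizer system of `Q` extends across `N_T(Q)`.
-/

set_option autoImplicit false

open Cfsg Cfsg.FusionSystem
open Cfsg.Agent.FusionSys

namespace Cfsg.Agent.FusionAlperin

variable {Ω : Type*} [Group Ω] {S T Q : Subgroup Ω} {p : ℕ}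

theorem hom_ext_sup {A B : Subgroup Ω} {f g : ↥(A ⊔ B) →* Ω}
    (hA : ∀ x : A, f ⟨x, Subgroup.mem_sup_left x.2⟩ = g ⟨x, Subgroup.mem_sup_left x.2⟩)
    (hB : ∀ x : B, f ⟨x, Subgroup.mem_sup_right x.2⟩ = g ⟨x, Subgroup.mem_sup_right x.2⟩) :
    f = g := by
  have h : (f.eqLocus g).map (A ⊔ B).subtype = A ⊔ B := by
    refine le_antisymm (Subgroup.map_subtype_le _) (sup_le ?_ ?_)
    · exact fun x hx => ⟨⟨x, Subgroup.mem_sup_left hx⟩, hA ⟨x, hx⟩, rfl⟩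
    · exact fun x hx => ⟨⟨x, Subgroup.mem_sup_right hx⟩, hB ⟨x, hx⟩, rfl⟩
  ext x
  obtain ⟨y, hy, hyx⟩ := h.ge x.2
  exact (Subtype.ext hyx : y = x) ▸ hy

/-- An element carried into `T` by a map fixing `Q` pointwise normalizes `Q`. -/
theorem fix_mem_normalizerT {F : FusionSystem S} (hT : F.StronglyClosed T) {Y : Subgroup Ω}
    {ψ : Y →* Ω} (hψ : ψ ∈ F.Hom Y) (hQY : Q ≤ Y)
    (hfix : ∀ q : Q, ψ ⟨q, hQY q.2⟩ = q) {n : Y} (hn : (n : Ω) ∈ normalizerIn T Q) :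
    ψ n ∈ normalizerIn T Q := by
  refine ⟨sc_map_mem hT hψ hn.1, Subgroup.mem_normalizer_iff.2 fun x => ?_⟩
  have key : ∀ m : Y, (m : Ω) ∈ normalizerIn T Q → ∀ q ∈ Q, ψ m * q * (ψ m)⁻¹ ∈ Q := by
    intro m hm q hq
    have h := (Subgroup.mem_normalizer_iff.1 hm.2 q).1 hq
    have e : ψ m * q * (ψ m)⁻¹ = ψ (m * ⟨q, hQY hq⟩ * m⁻¹) := by
      rw [map_mul, map_mul, map_inv, hfix ⟨q, hq⟩]
    rw [e]
    exact (hfix ⟨_, h⟩).symm ▸ h
  refine ⟨fun hx => key n hn x hx, fun hx => ?_⟩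
  have h := key n⁻¹ ((normalizerIn T Q).inv_mem hn) _ hx
  rw [map_inv] at h
  simpa [mul_assoc] using h

theorem range_le_sup_of_le {A B R : Subgroup Ω} (ψ : ↥(A ⊔ B) →* Ω)
    (hA : ∀ x : ↥(A ⊔ B), (x : Ω) ∈ A → ψ x ∈ R) (hB : ∀ x : ↥(A ⊔ B), (x : Ω) ∈ B → ψ x ∈ R) :
    ψ.range ≤ R := by
  rw [range_sup_eq]
  refine sup_le ?_ ?_
  · rintro _ ⟨x, hx, rfl⟩
    exact hA x hx
  · rintro _ ⟨x, hx, rfl⟩
    exact hB x hx

/-- The maps of `C_F(Q)` that extend across `N_T(Q)`, fixing `Q`. -/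
def extSystem [Finite S] (F : FusionSystem S) (hT : F.StronglyClosed T) (hQT : Q ≤ T) :
    FusionSystem (centralizerIn S Q) :=
  subSystem (centSys F Q (hQT.trans hT.1))
    (fun X γ => ∃ ψ ∈ F.Hom (X ⊔ normalizerIn T Q),
      (∀ x : X, ψ ⟨x, Subgroup.mem_sup_left x.2⟩ = γ x) ∧
      ∀ q : Q, ψ ⟨q, Subgroup.mem_sup_right (le_normalizerIn hQT q.2)⟩ = q)
    (fun {P g} hP hg => ⟨conjHom _ g, F.conj_mem
      (sup_le (hP.trans (centralizerIn_le Q)) ((normalizerIn_le Q).trans hT.1)) hg.1,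
      fun _ => rfl, (mem_centralizerIn_iff_conj.1 hg).2⟩)
    (by
      rintro P R φ ψ hφ - ⟨a, ha, haP, haQ⟩ ⟨b, hb, hbR, hbQ⟩ h
      have hm : ∀ y, a y ∈ R ⊔ normalizerIn T Q := fun y => range_le_sup_of_le a
        (fun x hx => Subgroup.mem_sup_left ((haP ⟨x, hx⟩).symm ▸ h ⟨x, hx⟩))
        (fun x hx => Subgroup.mem_sup_right
          (fix_mem_normalizerT hT ha ((le_normalizerIn hQT).trans le_sup_right) haQ hx))
        ⟨y, rfl⟩
      refine ⟨_, F.comp_mem ha hb hm, fun x => ?_, fun q => ?_⟩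
      · exact (congrArg b (Subtype.ext (haP x))).trans (hbR ⟨φ x, h x⟩)
      · exact (congrArg b (Subtype.ext (haQ q))).trans (hbQ q))
    (by
      rintro P φ hφ ⟨a, ha, haP, haQ⟩ ψ hψ he
      obtain ⟨c, hc, hce⟩ := F.inv_mem ha
      have : Finite ↥(normalizerIn T Q) :=
        finite_of_le ‹_› ((normalizerIn_le Q).trans hT.1)
      have hN : normalizerIn T Q ≤ a.range := by
        have h1 := range_eq_of_image_le (φ := restr le_sup_right a) (Q := normalizerIn T Q)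
          (F.injective_of_mem (restr_mem F le_sup_right ha)) (by
            rintro _ ⟨x, rfl⟩
            exact fix_mem_normalizerT hT ha ((le_normalizerIn hQT).trans le_sup_right) haQ
              (n := Subgroup.inclusion le_sup_right x) x.2) le_rfl
        intro y hy
        obtain ⟨x, hx⟩ := h1.ge hy
        exact ⟨_, hx⟩
      have hle : φ.range ⊔ normalizerIn T Q ≤ a.range := by
        refine sup_le ?_ hN
        rintro _ ⟨x, rfl⟩
        exact ⟨_, haP x⟩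
      refine ⟨restr hle c, restr_mem F hle hc, ?_, fun q => ?_⟩
      · rintro ⟨_, x, rfl⟩
        rw [he x]
        refine Eq.trans ?_ (hce ⟨x, Subgroup.mem_sup_left x.2⟩)
        exact congrArg c (Subtype.ext (haP x).symm)
      · refine Eq.trans ?_ (hce ⟨q, Subgroup.mem_sup_right (le_normalizerIn hQT q.2)⟩)
        exact congrArg c (Subtype.ext (haQ q).symm))

/-- An automorphism of a group with the given subgroups, moving elements by elements of `Q`. -/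
def moveSubgroup (C : FusionSystem S) (X Q : Subgroup Ω) : Subgroup (MulAut X) where
  carrier := {a | a ∈ C.autGroup X ∧ ∀ x : X, (x : Ω)⁻¹ * (a x : Ω) ∈ Q}
  one_mem' := ⟨one_mem _, fun x => by simp⟩
  mul_mem' := fun {a b} ha hb => ⟨mul_mem ha.1 hb.1, fun x => by
    have h := Q.mul_mem (hb.2 x) (ha.2 (b x))
    simpa [mul_assoc] using h⟩
  inv_mem' := fun {a} ha => ⟨(C.autGroup X).inv_mem ha.1, fun x => by
    have h := Q.inv_mem (ha.2 (a.symm x))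
    simpa using h⟩

/-- Maps of the centralizer system of `Q` extend across `N_T(Q)`. -/
theorem exists_ext_normalizerT [Finite S] [Fact p.Prime] (hS : IsPGroup p S) {F : FusionSystem S}
    (hF : F.IsSaturated p) (hT : F.StronglyClosed T) (hQT : Q ≤ T)
    (hQc : centralizerIn T Q ≤ Q) (hQ : F.IsFullyCentralized Q) {X : Subgroup Ω} {γ : X →* Ω}
    (hγ : γ ∈ F.centralizerHom Q X) :
    ∃ ψ ∈ F.Hom (X ⊔ normalizerIn T Q), (∀ x : X, ψ ⟨x, Subgroup.mem_sup_left x.2⟩ = γ x) ∧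
      ∀ q : Q, ψ ⟨q, Subgroup.mem_sup_right (le_normalizerIn hQT q.2)⟩ = q := by
  set C := centSys F Q (hQT.trans hT.1) with hC
  have hCS : IsPGroup p (centralizerIn S Q) := hS.to_le (centralizerIn_le Q)
  have : Finite ↥(centralizerIn S Q) := finite_of_le ‹_› (centralizerIn_le Q)
  have hCsat : C.IsSaturated p := centralizerSystem_saturated hS hF hQ (centSys_spec F Q _)
  suffices h : C ≤ extSystem F hT hQT from (h X hγ).2
  refine Cfsg.Agent.FusionBatch.le_of_centric_radical hCS hCsat _ fun X hXn hXc _ a₀ ha₀ => ?_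
  clear! γ
  refine (mem_autGroup _ hXn.1).2 ⟨autGroup_mem_hom C hXn.1 ha₀, ?_⟩
  obtain ⟨-, -, -, ψ0, hψ0, hψ0X, hψ0Q⟩ := autGroup_mem_hom C hXn.1 ha₀
  have hXQ : X ≤ centralizerIn S Q := hXn.1
  have hWS : X ⊔ Q ≤ S := le_S F hψ0
  have : Finite ↥(X ⊔ Q) := finite_of_le ‹_› hWS
  have hW : ψ0.range = X ⊔ Q := by
    refine range_eq_of_image_le (F.injective_of_mem hψ0) (range_le_sup_of_le ψ0
      (fun x hx => ?_) (fun x hx => ?_)) le_rfl
    · exact Subgroup.mem_sup_left ((hψ0X ⟨x, hx⟩).symm ▸ (a₀ ⟨x, hx⟩).2)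
    · exact Subgroup.mem_sup_right ((hψ0Q ⟨x, hx⟩).symm ▸ hx)
  set α := toIso F hψ0 hW
  have hα : α ∈ F.autGroup (X ⊔ Q) := toIso_mem_autGroup F hψ0 hW
  -- `X ⊔ Q` is centric
  have hcW : F.IsCentric (X ⊔ Q) := by
    refine ⟨hWS, ?_⟩
    rintro _ ⟨f, hf, rfl⟩
    have hfQ := restr_mem F (le_sup_right : Q ≤ X ⊔ Q) hf
    set Q' := (restr (le_sup_right : Q ≤ X ⊔ Q) f).range
    obtain ⟨g, hg, hge⟩ : ∃ g ∈ F.Hom Q', ∀ q : Q, g ⟨restr le_sup_right f q, q, rfl⟩ = q :=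
      F.inv_mem hfQ
    have hgr : g.range = Q := by
      refine le_antisymm ?_ fun q hq => ⟨_, hge ⟨q, hq⟩⟩
      rintro _ ⟨⟨_, q, rfl⟩, rfl⟩
      rw [hge]
      exact q.2
    obtain ⟨H, hH, hHe⟩ := (saturated_fullyCentralized hS hF hQ).2 _ g hg hgr
    have hQ'E : Q' ≤ extender S Q' g := le_extender (le_S F hg) (map_mem_S F hg)
    have hcomm : ∀ (x : X) (q : Q), f ⟨x, Subgroup.mem_sup_left x.2⟩ *
        f ⟨q, Subgroup.mem_sup_right q.2⟩ =
        f ⟨q, Subgroup.mem_sup_right q.2⟩ * f ⟨x, Subgroup.mem_sup_left x.2⟩ := by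
      intro x q
      rw [← map_mul, ← map_mul]
      refine congrArg f (Subtype.ext ?_)
      exact (Subgroup.mem_centralizer_iff.1 (hXQ x.2).2 q q.2).symm
    have hcX : ∀ x : X, f ⟨x, Subgroup.mem_sup_left x.2⟩ ∈ centralizerIn S Q' := fun x => by
      refine ⟨map_mem_S F hf _, Subgroup.mem_centralizer_iff.2 ?_⟩
      rintro _ ⟨q, rfl⟩
      exact (hcomm x q).symm
    have hfE : ∀ y, f y ∈ extender S Q' g := fun y => range_le_sup_of_le f
      (fun x hx => centralizerIn_le_extender g (hcX ⟨x, hx⟩))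
      (fun x hx => hQ'E ⟨⟨x, hx⟩, rfl⟩) ⟨y, rfl⟩
    have hHQ : ∀ q : Q, H ⟨f ⟨q, Subgroup.mem_sup_right q.2⟩, hfE _⟩ = q := fun q =>
      (hHe _ ⟨q, rfl⟩ _).trans (hge q)
    have hHf := F.comp_mem hf hH hfE
    have hcH : ∀ (c : Ω) (hc : c ∈ extender S Q' g), c ∈ centralizerIn S Q' →
        H ⟨c, hc⟩ ∈ centralizerIn S Q := by
      intro c hc hcc
      refine ⟨map_mem_S F hH _, Subgroup.mem_centralizer_iff.2 fun q hq => ?_⟩
      show ((⟨q, hq⟩ : Q) : Ω) * _ = _ * ((⟨q, hq⟩ : Q) : Ω)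
      rw [← hHQ ⟨q, hq⟩, ← map_mul, ← map_mul]
      refine congrArg H (Subtype.ext ?_)
      exact Subgroup.mem_centralizer_iff.1 hcc.2 _ ⟨⟨q, hq⟩, rfl⟩
    have hconj : C.IsConj X
        (restr (le_sup_left : X ≤ X ⊔ Q) (H.comp (f.codRestrict _ hfE))).range :=
      ⟨_, ⟨restr_mem F le_sup_left hHf, hXQ, fun x => hcH _ (hfE _) (hcX x), _, hHf,
        fun _ => rfl, hHQ⟩, rfl⟩
    intro c hc
    have hcQ' : c ∈ centralizerIn S Q' := ⟨hc.1, Subgroup.mem_centralizer_iff.2 (by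
      rintro _ ⟨q, rfl⟩
      exact Subgroup.mem_centralizer_iff.1 hc.2 _ ⟨_, rfl⟩)⟩
    have hcE := centralizerIn_le_extender g hcQ'
    obtain ⟨x, hx⟩ := hXc.2 _ hconj (x := H ⟨c, hcE⟩) ⟨hcH c hcE hcQ',
      Subgroup.mem_centralizer_iff.2 (by
        rintro _ ⟨x, rfl⟩
        show H _ * H _ = H _ * H _
        rw [← map_mul, ← map_mul]
        refine congrArg H (Subtype.ext ?_)
        exact Subgroup.mem_centralizer_iff.1 hc.2 _ ⟨_, rfl⟩)⟩
    exact ⟨_, congrArg Subtype.val (F.injective_of_mem hH hx)⟩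
  have hrec := saturated_fullyCentralized hS hF (centric_fullyCentralized hcW)
  -- automorphisms fixing `Q` and moving `X` only within `Q` come from `C_S(Q)`
  have hkey : ∀ β ∈ F.autGroup (X ⊔ Q),
      (∀ q : Q, (β ⟨q, Subgroup.mem_sup_right q.2⟩ : Ω) = q) →
      (∀ x : X, (x : Ω)⁻¹ * (β ⟨x, Subgroup.mem_sup_left x.2⟩ : Ω) ∈ Q) →
      β ∈ autInducedBy S (X ⊔ Q) := by
    intro β hβ hβQ hβX
    have hβh := autGroup_mem_hom F hWS hβ
    have hβC : ∀ x : X, (β ⟨x, Subgroup.mem_sup_left x.2⟩ : Ω) ∈ centralizerIn S Q := fun x => by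
      refine ⟨hWS (β _).2, Subgroup.mem_centralizer_iff.2 fun q hq => ?_⟩
      show ((⟨q, hq⟩ : Q) : Ω) * _ = _ * ((⟨q, hq⟩ : Q) : Ω)
      rw [← hβQ ⟨q, hq⟩, ← Subgroup.coe_mul, ← Subgroup.coe_mul, ← map_mul, ← map_mul]
      refine congrArg (fun y => ((β y : ↥(X ⊔ Q)) : Ω)) (Subtype.ext ?_)
      exact Subgroup.mem_centralizer_iff.1 (hXQ x.2).2 q hq
    have hZX : ∀ z ∈ Q, z ∈ centralizerIn S Q → z ∈ X := fun z hz hzc =>
      hXc.2 X (isConj_refl C hXQ) ⟨hzc, Subgroup.mem_centralizer_iff.2 fun x hx =>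
        (Subgroup.mem_centralizer_iff.1 (hXQ hx).2 z hz).symm⟩
    have hbC : restr (le_sup_left : X ≤ X ⊔ Q) ((X ⊔ Q).subtype.comp β.toMonoidHom) ∈
        C.Hom X := ⟨restr_mem F le_sup_left hβh, hXQ, hβC, _, hβh, fun _ => rfl, hβQ⟩
    have : Finite ↥X := finite_of_le ‹_› (hXQ.trans (centralizerIn_le Q))
    have hr : (restr (le_sup_left : X ≤ X ⊔ Q) ((X ⊔ Q).subtype.comp β.toMonoidHom)).range =
        X := by
      refine range_eq_of_image_le (C.injective_of_mem hbC) ?_ le_rfl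
      rintro _ ⟨x, rfl⟩
      have hz := hZX _ (hβX x)
        ((centralizerIn S Q).mul_mem ((centralizerIn S Q).inv_mem (hXQ x.2)) (hβC x))
      have := X.mul_mem x.2 hz
      rw [mul_inv_cancel_left] at this
      exact this
    set b := toIso C hbC hr
    have hb : b ∈ moveSubgroup C X Q := ⟨toIso_mem_autGroup C hbC hr, hβX⟩
    -- the subgroup is a normal `p`-subgroup
    have hfixX : ∀ a ∈ C.autGroup X, ∀ z : X, (z : Ω) ∈ Q → (a z : Ω) = z := by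
      intro a ha z hz
      obtain ⟨-, -, -, ψ, -, hψX, hψQ⟩ := autGroup_mem_hom C hXQ ha
      refine (hψX z).symm.trans (Eq.trans ?_ (hψQ ⟨z, hz⟩))
      exact congrArg ψ (Subtype.ext rfl)
    have hQS : Q ≤ S := hQT.trans hT.1
    obtain ⟨k, hk⟩ : ∃ k, Nat.card ↥Q = p ^ k := by
      have : Finite ↥Q := finite_of_le ‹_› hQS
      exact (hS.to_le hQS).exists_card_eq
    have hpow : ∀ a ∈ moveSubgroup C X Q, ∀ (x : X) (n : ℕ),
        ((a ^ n) x : Ω) = x * ((x : Ω)⁻¹ * (a x : Ω)) ^ n := by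
      intro a ha x n
      induction n with
      | zero => simp
      | succ n ih =>
        have hq : (x : Ω)⁻¹ * (a x : Ω) ∈ Q := ha.2 x
        have hqX : (x : Ω)⁻¹ * (a x : Ω) ∈ X := X.mul_mem (X.inv_mem x.2) (a x).2
        have e1 : (a ^ n) x = x * (⟨_, hqX⟩ : X) ^ n := Subtype.ext (by
          rw [ih, Subgroup.coe_mul, Subgroup.coe_pow])
        rw [pow_succ', MulAut.mul_apply, e1, map_mul, map_pow, Subgroup.coe_mul,
          Subgroup.coe_pow, hfixX a ha.1 ⟨_, hqX⟩ hq, pow_succ']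
        simp [mul_assoc]
    have hBp : IsPGroup p ((moveSubgroup C X Q).subgroupOf (C.autGroup X)) := by
      rintro ⟨a, ha⟩
      refine ⟨k, Subtype.ext (Subtype.ext (MulEquiv.ext fun x => Subtype.ext ?_))⟩
      show (((a : MulAut X) ^ p ^ k) x : Ω) = x
      have hq : (x : Ω)⁻¹ * (((a : MulAut X) x : X) : Ω) ∈ Q := ha.2 x
      have : (⟨_, hq⟩ : Q) ^ p ^ k = 1 := hk ▸ pow_card_eq_one'
      have h2 := congrArg Subtype.val this
      rw [Subgroup.coe_pow] at h2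
      rw [hpow a ha x, h2]
      simp
    have hBn : ((moveSubgroup C X Q).subgroupOf (C.autGroup X)).Normal := by
      refine ⟨fun a ha c => ⟨mul_mem (mul_mem c.2 a.2) ((C.autGroup X).inv_mem c.2),
        fun x => ?_⟩⟩
      have h := ha.2 ((c : MulAut X).symm x)
      have hmem : ((c : MulAut X).symm x : Ω)⁻¹ * ((a : MulAut X) ((c : MulAut X).symm x) : Ω)
          ∈ X := X.mul_mem (X.inv_mem (Subtype.mem _)) (Subtype.mem _)
      have h2 := hfixX c c.2 ⟨_, hmem⟩ h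
      have e : (⟨_, hmem⟩ : X) =
          ((c : MulAut X).symm x)⁻¹ * (a : MulAut X) ((c : MulAut X).symm x) := Subtype.ext rfl
      rw [e, map_mul, map_inv, MulEquiv.apply_symm_apply] at h2
      rw [Subgroup.coe_mul, Subgroup.coe_inv] at h2
      show (x : Ω)⁻¹ * _ ∈ Q
      refine Eq.subst (motive := fun z => z ∈ Q) h2.symm ?_
      exact h
    obtain ⟨-, R, hR⟩ := (saturated_fullyNormalized hCS hCsat hXn).2
    have hmem : (⟨b, hb.1⟩ : C.autGroup X) ∈ (R : Subgroup (C.autGroup X)) :=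
      hBp.le_sylow_of_normal R hb
    rw [hR] at hmem
    obtain ⟨y, hy, hye⟩ := mem_autInducedBy.1 hmem
    refine mem_autInducedBy.2 ⟨y, hy.1, fun w => ?_⟩
    exact DFunLike.congr_fun (hom_ext_sup (f := (X ⊔ Q).subtype.comp β.toMonoidHom)
      (g := conjHom (X ⊔ Q) y) (fun x => hye x)
      (fun q => (hβQ q).trans ((mem_centralizerIn_iff_conj.1 hy).2 q).symm)) w
  -- `N_T(Q)` normalizes `X ⊔ Q`
  have hNT := normalizerIn_le (S := T) Q
  have hnx : ∀ g ∈ normalizerIn T Q, ∀ x ∈ X, x⁻¹ * (g * x * g⁻¹) ∈ Q := by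
    intro g hg x hx
    have hxS : x ∈ S := centralizerIn_le Q (hXQ hx)
    have hgc : g * x * g⁻¹ ∈ centralizerIn S Q := by
      refine ⟨S.mul_mem (S.mul_mem (hT.1 hg.1) hxS) (S.inv_mem (hT.1 hg.1)),
        Subgroup.mem_centralizer_iff.2 fun q hq => ?_⟩
      have h1 := (Subgroup.mem_normalizer_iff.1 ((normalizerIn T Q).inv_mem hg).2 q).1 hq
      rw [inv_inv] at h1
      have h2 := Subgroup.mem_centralizer_iff.1 (hXQ hx).2 _ h1
      calc q * (g * x * g⁻¹) = g * ((g⁻¹ * q * g) * x) * g⁻¹ := by group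
        _ = g * (x * (g⁻¹ * q * g)) * g⁻¹ := by rw [h2]
        _ = g * x * g⁻¹ * q := by group
    have h := (centralizerIn S Q).mul_mem ((centralizerIn S Q).inv_mem (hXQ hx)) hgc
    refine hQc ⟨?_, h.2⟩
    have h1 := T.mul_mem (sc_conj_mem hT (S.inv_mem hxS) hg.1) (T.inv_mem hg.1)
    simpa [mul_assoc] using h1
  have hgW : ∀ g ∈ normalizerIn T Q, ∀ w : ↥(X ⊔ Q), g * (w : Ω) * g⁻¹ ∈ X ⊔ Q := fun g hg w =>
    range_le_sup_of_le (conjHom (X ⊔ Q) g) (fun x hx => by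
        have h1 := (X ⊔ Q).mul_mem (Subgroup.mem_sup_left hx)
          (Subgroup.mem_sup_right (hnx g hg x hx))
        simpa [conjHom, mul_assoc] using h1)
      (fun x hx => Subgroup.mem_sup_right ((Subgroup.mem_normalizer_iff.1 hg.2 _).1 hx))
      ⟨w, rfl⟩
  have hNW : normalizerIn T Q ≤ normalizerIn S (X ⊔ Q) := fun g hg =>
    ⟨hT.1 hg.1, Subgroup.mem_normalizer_iff.2 fun w => ⟨fun hw => hgW g hg ⟨w, hw⟩, fun hw => by
      have := hgW g⁻¹ ((normalizerIn T Q).inv_mem hg) ⟨_, hw⟩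
      simpa [mul_assoc] using this⟩⟩
  have hcar : normalizerIn T Q ≤ carried S (X ⊔ Q) α := by
    intro g hg
    refine ⟨⟨g, (hNW hg).2⟩, ?_, rfl⟩
    show α * _ * α⁻¹ ∈ autInducedBy S (X ⊔ Q)
    set cg := (X ⊔ Q).normalizerMonoidHom ⟨g, (hNW hg).2⟩
    have hcg : cg ∈ autInducedBy S (X ⊔ Q) := mem_autInducedBy.2 ⟨g, hT.1 hg.1, fun _ => rfl⟩
    have hαQ : ∀ q : Q, (α ⟨q, Subgroup.mem_sup_right q.2⟩ : Ω) = q := hψ0Q
    have hαQ' : ∀ q : Q, α.symm ⟨q, Subgroup.mem_sup_right q.2⟩ =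
        ⟨q, Subgroup.mem_sup_right q.2⟩ := fun q => by
      rw [MulEquiv.symm_apply_eq]
      exact Subtype.ext (hαQ q).symm
    have hcgQ : ∀ (h : Ω) (hh : h ∈ normalizerIn T Q) (q : Q), (h * q * h⁻¹) ∈ Q := fun h hh q =>
      (Subgroup.mem_normalizer_iff.1 hh.2 _).1 q.2
    suffices hu : α * cg * α⁻¹ * cg⁻¹ ∈ autInducedBy S (X ⊔ Q) by
      simpa using mul_mem hu hcg
    refine hkey _ (mul_mem (mul_mem (mul_mem hα (autInducedBy_le_autGroup F hWS hcg))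
      ((F.autGroup _).inv_mem hα))
      ((F.autGroup _).inv_mem (autInducedBy_le_autGroup F hWS hcg))) (fun q => ?_) fun x => ?_
    · have h1 : cg⁻¹ ⟨q, Subgroup.mem_sup_right q.2⟩ =
          ⟨_, Subgroup.mem_sup_right (hcgQ _ ((normalizerIn T Q).inv_mem hg) q)⟩ := by
        rw [← map_inv]; exact Subtype.ext rfl
      show ((α (cg (α.symm (cg⁻¹ ⟨q, _⟩))) : ↥(X ⊔ Q)) : Ω) = q
      rw [h1, hαQ' ⟨_, hcgQ _ ((normalizerIn T Q).inv_mem hg) q⟩]
      refine Eq.trans ?_ (hαQ q)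
      refine congrArg (fun w => ((α w : ↥(X ⊔ Q)) : Ω)) (Subtype.ext ?_)
      show g * (g⁻¹ * (q : Ω) * g⁻¹⁻¹) * g⁻¹ = q
      group
    · set x₁ : X := a₀.symm x
      have hx₁ : α.symm ⟨x, Subgroup.mem_sup_left x.2⟩ =
          ⟨x₁, Subgroup.mem_sup_left x₁.2⟩ := by
        rw [MulEquiv.symm_apply_eq]
        refine Subtype.ext ?_
        refine Eq.trans ?_ (hψ0X x₁).symm
        exact congrArg Subtype.val (a₀.apply_symm_apply x).symm
      set q1 : Q := ⟨_, hnx _ ((normalizerIn T Q).inv_mem hg) x x.2⟩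
      have h1 : cg⁻¹ ⟨x, Subgroup.mem_sup_left x.2⟩ =
          ⟨x, Subgroup.mem_sup_left x.2⟩ * ⟨q1, Subgroup.mem_sup_right q1.2⟩ := by
        rw [← map_inv]
        refine Subtype.ext ?_
        show g⁻¹ * (x : Ω) * g⁻¹⁻¹ = x * ((x : Ω)⁻¹ * (g⁻¹ * x * g⁻¹⁻¹))
        group
      have h2 : cg (⟨x₁, Subgroup.mem_sup_left x₁.2⟩ * ⟨q1, Subgroup.mem_sup_right q1.2⟩) =
          ⟨x₁, Subgroup.mem_sup_left x₁.2⟩ *
            ⟨_, Subgroup.mem_sup_right (Q.mul_mem (hnx g hg x₁ x₁.2) (hcgQ g hg q1))⟩ := by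
        refine Subtype.ext ?_
        show g * ((x₁ : Ω) * q1) * g⁻¹ =
          x₁ * ((x₁ : Ω)⁻¹ * (g * x₁ * g⁻¹) * (g * q1 * g⁻¹))
        group
      show (x : Ω)⁻¹ * ((α (cg (α.symm (cg⁻¹ ⟨x, _⟩))) : ↥(X ⊔ Q)) : Ω) ∈ Q
      have h3 : (α ⟨x₁, Subgroup.mem_sup_left x₁.2⟩ : Ω) = x := by
        rw [← hx₁, MulEquiv.apply_symm_apply]
      rw [h1, map_mul, hx₁, hαQ' q1, h2, map_mul, Subgroup.coe_mul, h3,
        hαQ ⟨_, Q.mul_mem (hnx g hg x₁ x₁.2) (hcgQ g hg q1)⟩, inv_mul_cancel_left]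
      exact Q.mul_mem (hnx g hg x₁ x₁.2) (hcgQ g hg q1)
  obtain ⟨ψ, hψ, hψe⟩ := exists_ext_aut' hrec hα
    (le_sup_left : X ⊔ Q ≤ (X ⊔ Q) ⊔ normalizerIn T Q)
    (sup_le (le_normalizerIn hWS) hNW) (sup_le (le_carried_self F hWS α) hcar)
  have hle : X ⊔ normalizerIn T Q ≤ (X ⊔ Q) ⊔ normalizerIn T Q :=
    sup_le (le_sup_left.trans le_sup_left) le_sup_right
  refine ⟨restr hle ψ, restr_mem F hle hψ, fun x => ?_, fun q => ?_⟩
  · exact (hψe ⟨x, Subgroup.mem_sup_left x.2⟩).trans (hψ0X x)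
  · exact (hψe ⟨q, Subgroup.mem_sup_right q.2⟩).trans (hψ0Q q)

end Cfsg.Agent.FusionAlperin
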