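import Cfsg.Agent.FusionAlperin.MinimalNormal

/-!
Two weakly normal subsystems over `T` with the same automizer on a strongly closed centric
subgroup of `T` are equal.
-/

set_option autoImplicit false

open Cfsg Cfsg.FusionSystem
open Cfsg.Agent.FusionSys

namespace Cfsg.Agent.FusionAlperin

universe u

variable {Ω : Type u} [Group Ω] {S T : Subgroup Ω} {p : ℕ} [Finite S] [Fact p.Prime]
  {F : FusionSystem S}

theorem autGroup_top_le_of_centric (hS : IsPGroup p S) (hF : F.IsSaturated p)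
    {E D : FusionSystem T} (hE : E.IsInvariantIn F) (hEs : E.IsSaturated p)
    (hD : D.IsInvariantIn F) (hDs : D.IsSaturated p) {R : Subgroup Ω}
    (hR : F.StronglyClosed R) (hRc : TCentric F T R)
    (h : E.autGroup R ≤ D.autGroup R) : E.autGroup T ≤ D.autGroup T := by
  have hTS := hE.2.1.1
  have : Finite T := finite_of_le ‹_› hTS
  have hRT := hRc.1
  have hTn : T ≤ Subgroup.normalizer (R : Set Ω) := hTS.trans (sc_le_normalizer hR)
  have hN : normalizerIn T R = T := inf_eq_left.2 hTn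
  intro a ha
  have haF : T.subtype.comp a.toMonoidHom ∈ F.Hom T := hE.1 T (autGroup_mem_hom E le_rfl ha)
  have hr := restr_mem E hRT (autGroup_mem_hom E le_rfl ha)
  have : Finite R := finite_of_le ‹_› hRT
  have hrange : (restr hRT (T.subtype.comp a.toMonoidHom)).range = R :=
    range_eq_of_image_le (E.injective_of_mem hr)
      (by rintro _ ⟨x, rfl⟩; exact sc_map_mem hR haF x.2) le_rfl
  set b₀ := toIso E hr hrange
  have hb₀ : b₀ ∈ D.autGroup R := h (toIso_mem_autGroup E hr hrange)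
  have hRn : D.IsFullyNormalized R := ⟨hRT, fun Q _ => by
    rw [hN]
    exact Nat.card_le_card_of_injective _ (Subgroup.inclusion_injective (normalizerIn_le Q))⟩
  have hnorm : ∀ r ∈ autInducedBy T R, b₀ * r * b₀⁻¹ ∈ autInducedBy T R := by
    intro r hr'
    obtain ⟨t, ht, hte⟩ := mem_autInducedBy.1 hr'
    refine mem_autInducedBy.2 ⟨(a ⟨t, ht⟩ : T), (a ⟨t, ht⟩).2, fun x => ?_⟩
    obtain ⟨y, rfl⟩ := b₀.surjective x
    rw [MulAut.mul_apply, MulAut.mul_apply, MulAut.inv_def, MulEquiv.symm_apply_apply]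
    show ((a ⟨(r y : R), hRT (r y).2⟩ : T) : Ω) =
      (a ⟨t, ht⟩ : T) * (a ⟨y, hRT y.2⟩ : T) * ((a ⟨t, ht⟩ : T) : Ω)⁻¹
    rw [← Subgroup.coe_inv, ← Subgroup.coe_mul, ← Subgroup.coe_mul, ← map_inv, ← map_mul,
      ← map_mul]
    exact congrArg (fun w => ((a w : T) : Ω)) (Subtype.ext (hte y))
  obtain ⟨b, hb, hbe⟩ := exists_ext_normalizer (hS.to_le hTS) hDs hRn hb₀ hnorm
  have hle : T ≤ normalizerIn T R := hN.ge
  have hbD : restr hle ((normalizerIn T R).subtype.comp b.toMonoidHom) ∈ D.Hom T :=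
    restr_mem D hle (autGroup_mem_hom D (normalizerIn_le R) hb)
  have hbr : (restr hle ((normalizerIn T R).subtype.comp b.toMonoidHom)).range = T :=
    range_eq_of_image_le (D.injective_of_mem hbD)
      (by rintro _ ⟨x, rfl⟩; exact map_mem_S D hbD x) le_rfl
  refine auto_agree hS hF hE hEs hD hDs hRc hRT le_rfl hTn ha
    (toIso_mem_autGroup D hbD hbr) fun x => Subtype.ext ?_
  exact (hbe x).symm

theorem le_of_autGroup_centric (hS : IsPGroup p S) (hF : F.IsSaturated p)
    {E D : FusionSystem T} (hE : E.IsInvariantIn F) (hEs : E.IsSaturated p)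
    (hD : D.IsInvariantIn F) (hDs : D.IsSaturated p) {R : Subgroup Ω}
    (hR : F.StronglyClosed R) (hRc : TCentric F T R)
    (h : E.autGroup R ≤ D.autGroup R) : E ≤ D := by
  have hTS := hE.2.1.1
  have : Finite T := finite_of_le ‹_› hTS
  have hT := autGroup_top_le_of_centric hS hF hE hEs hD hDs hR hRc h
  have hres := residual_le_of_invariant hS hF hE hEs hD hDs
  intro P φ hφ
  obtain ⟨γ, hγ, e₀, he₀, hee⟩ := centricPElem_decomp (hS.to_le hTS) hEs hφ
  have h0 := hres P (centricPElem_le_residual E P he₀)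
  refine comp_mem' D h0 (autGroup_mem_hom D le_rfl (hT hγ)) (map_mem_S D h0) fun x => ?_
  exact (hee x).trans (autExt_of_mem γ _)

end Cfsg.Agent.FusionAlperin
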