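import Cfsg.Agent.FusionBatch.CoreRadical
import Cfsg.Agent.FusionAlperin.SurjImage
import Cfsg.Agent.FusionAlperin.CentralizerExtend
import Cfsg.Agent.FusionSys.Realized

/-!
Constrained systems: weakly normal and subnormal subsystems and central factor systems of
constrained systems are constrained.
-/

set_option autoImplicit false

open Cfsg Cfsg.FusionSystem
open Cfsg.Agent.FusionSys

namespace Cfsg.Agent.FusionAlperin

universe u

variable {Ω : Type u} [Group Ω] {S : Subgroup Ω} {p : ℕ}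

/-- The automorphisms of `Q` fixing `Q ⊓ R` and moving all elements inside `R`. -/
def stabPair (Q R : Subgroup Ω) : Subgroup (MulAut Q) where
  carrier := {a | (∀ x : Q, (x : Ω) ∈ R → a x = x) ∧ ∀ x : Q, (x : Ω)⁻¹ * (a x : Ω) ∈ R}
  one_mem' := ⟨fun x _ => rfl, fun x => by simp⟩
  mul_mem' := fun {a b} ha hb => ⟨fun x hx => by rw [MulAut.mul_apply, hb.1 x hx, ha.1 x hx],
    fun x => by
      have h := R.mul_mem (hb.2 x) (ha.2 (b x))
      simpa [mul_assoc] using h⟩
  inv_mem' := fun {a} ha => ⟨fun x hx => by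
      conv_lhs => rw [← ha.1 x hx]
      exact a.symm_apply_apply x,
    fun x => by
      have h := R.inv_mem (ha.2 (a.symm x))
      simpa using h⟩

theorem isPGroup_stabPair [Fact p.Prime] {Q R : Subgroup Ω} [Finite Q] (hQ : IsPGroup p Q) :
    IsPGroup p (stabPair Q R) := by
  intro a
  obtain ⟨k, hk⟩ : ∃ k, ∀ x : Q, x ^ p ^ k = 1 := by
    obtain ⟨N, hN⟩ := hQ.exists_card_eq
    exact ⟨N, fun x => hN ▸ pow_card_eq_one'⟩
  refine ⟨k, Subtype.ext (MulEquiv.ext fun x => ?_)⟩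
  show ((a : MulAut Q) ^ p ^ k) x = x
  set d : Q := x⁻¹ * (a : MulAut Q) x
  have hd : (a : MulAut Q) d = d := a.2.1 d (a.2.2 x)
  have key : ∀ n : ℕ, ((a : MulAut Q) ^ n) x = x * d ^ n := by
    intro n
    induction n with
    | zero => simp
    | succ n ih =>
      rw [pow_succ', MulAut.mul_apply, ih, map_mul, map_pow, hd, pow_succ' d, ← mul_assoc,
        mul_inv_cancel_left]
  rw [key, hk d, mul_one]

variable [Finite S] [Fact p.Prime]

/-- An element stabilizing the series `Q ≥ Q ⊓ R ≥ 1` of a centric core lies in it. -/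
theorem mem_core_of_stab (hS : IsPGroup p S) {F : FusionSystem S} (hF : F.IsConstrained p)
    {R : Subgroup Ω} (hR : F.StronglyClosed R) {g : Ω} (hg : g ∈ S)
    (hfix : ∀ r ∈ R, g * r * g⁻¹ = r) (hmove : ∀ q ∈ F.core, g * q * g⁻¹ * q⁻¹ ∈ R) :
    g ∈ F.core := by
  obtain ⟨Q₀, hQ₀n, hQ₀c⟩ := hF.2
  have hQn := isNormal_core F
  set Q := F.core
  have hQS := hQn.1
  have : Finite Q := finite_of_le ‹_› hQS
  have hgN : g ∈ normalizerIn S Q := ⟨hg, isNormal_le_normalizer hQn hg⟩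
  refine Cfsg.Agent.FusionBatch.mem_core_of_normal_pGroup hS hF.1 hQn
    (fun W hW => le_sSup (s := {Q | F.IsNormal Q}) hW)
    (Cfsg.Agent.FusionBatch.core_isCentric hQ₀n hQ₀c)
    (stabPair Q R) ?_ (isPGroup_stabPair (hS.to_le hQS)) hgN ?_
  · intro a ha m hm
    have hai := autGroup_mem_hom F hQS ((F.autGroup Q).inv_mem ha)
    have hah := autGroup_mem_hom F hQS ha
    refine ⟨fun x hx => ?_, fun x => ?_⟩
    · rw [MulAut.mul_apply, MulAut.mul_apply]
      refine (congrArg a (hm.1 (a⁻¹ x) (sc_map_mem hR hai (x := x) hx))).trans ?_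
      exact a.apply_symm_apply x
    · have h := sc_map_mem hR hah (x := (a⁻¹ x)⁻¹ * m (a⁻¹ x)) (hm.2 (a⁻¹ x))
      simp only [MonoidHom.comp_apply, MulEquiv.coe_toMonoidHom, Subgroup.coe_subtype, map_mul,
        map_inv, Subgroup.coe_mul, InvMemClass.coe_inv, MulAut.apply_inv_self] at h
      exact h
  · refine ⟨fun x hx => Subtype.ext (hfix x hx), fun x => ?_⟩
    have h := sc_conj_mem hR (S.inv_mem (hQS x.2)) (hmove x x.2)
    show (x : Ω)⁻¹ * (g * x * g⁻¹) ∈ R
    simpa [mul_assoc] using h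

/-- A weakly normal subsystem of a constrained system is constrained. -/
theorem constrained_of_weaklyNormal (hS : IsPGroup p S) {F : FusionSystem S}
    (hF : F.IsConstrained p) {T : Subgroup Ω} {E : FusionSystem T}
    (hE : E.IsWeaklyNormalIn F p) : E.IsConstrained p := by
  obtain ⟨hEs, -, hEsub, hT, -⟩ := hE
  have hTS := hT.1
  have hTp := hS.to_le hTS
  have : Finite T := finite_of_le ‹_› hTS
  have hQn := isNormal_core F
  set Q := F.core with hQ
  set R := T ⊓ Q
  have hQsc := isNormal_stronglyClosed hQn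
  have hRsc : F.StronglyClosed R := sc_inf hT hQsc
  have hRE : E.StronglyClosed R :=
    ⟨inf_le_left, fun P hP φ hφ x => hRsc.2 P hP φ (hEsub P hφ) x⟩
  refine ⟨hEs, R, ?_, inf_le_left, ?_⟩
  · refine Cfsg.Agent.FusionBatch.isNormal_of_mem_radical hTp hEs fun P hPn hPc hPr =>
      ⟨?_, fun α hα x hx => sc_map_mem hRE (autGroup_mem_hom E hPn.1 hα) hx⟩
    refine Cfsg.Agent.FusionBatch.le_radical_of_carried hTp hRE hPc hPr fun γ hγ r hr => ?_
    have hγh := hEsub P (autGroup_mem_hom E hPn.1 hγ)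
    obtain ⟨ψ, hψ, h1, h2⟩ := hQn.2 P _ hγh
    have hrQ : r ∈ P ⊔ Q := Subgroup.mem_sup_right hr.2
    refine ⟨ψ ⟨r, hrQ⟩, ⟨sc_map_mem hT hψ hr.1, sc_map_mem hQsc hψ hr.2⟩, fun x y _ hy => ?_⟩
    have e1 := h1 x
    have e2 := h1 y
    simp only [MonoidHom.comp_apply, MulEquiv.coe_toMonoidHom, Subgroup.coe_subtype] at e1 e2
    rw [← e1, ← e2, show Subgroup.inclusion (le_sup_left : P ≤ P ⊔ Q) y =
      ⟨r, hrQ⟩ * Subgroup.inclusion le_sup_left x * ⟨r, hrQ⟩⁻¹ from Subtype.ext hy,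
      map_mul, map_mul, map_inv]
  · rintro _ ⟨φ, hφ, rfl⟩
    have : Finite R := finite_of_le ‹_› inf_le_left
    rw [range_eq_of_image_le (E.injective_of_mem hφ)
      (by rintro _ ⟨x, rfl⟩; exact sc_map_mem hRE hφ x.2) le_rfl]
    intro t ht
    refine ⟨ht.1, mem_core_of_stab hS hF hRsc (hTS ht.1) (fun r hr => ?_) fun q hq => ⟨?_, ?_⟩⟩
    · rw [← Subgroup.mem_centralizer_iff.1 ht.2 r hr, mul_inv_cancel_right]
    · have h := T.mul_mem ht.1 (sc_conj_mem hT (hQn.1 hq) (T.inv_mem ht.1))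
      simpa [mul_assoc] using h
    · exact Q.mul_mem (sc_conj_mem hQsc (hTS ht.1) hq) (Q.inv_mem hq)

omit [Finite S] [Fact p.Prime] in
theorem subnormal_constrained_aux [hp : Fact p.Prime] {T : Subgroup Ω} {E : FusionSystem T} {F : FusionSystem S}
    (h : E.IsSubnormalIn F p) :
    IsPGroup p S → Finite S → F.IsConstrained p → E.IsConstrained p := by
  revert hp
  induction h with
  | refl F p => intro _ _ _ h; exact h
  | step _ hD ih =>
    intro hp hS hfin hF
    exact ih (hS.to_le hD.1.2.2.2.1.1) (finite_of_le hfin hD.1.2.2.2.1.1)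
      (constrained_of_weaklyNormal hS hF hD.1)

/-- A subnormal subsystem of a constrained system is constrained. -/
theorem constrained_of_subnormal (hS : IsPGroup p S) {F : FusionSystem S}
    (hF : F.IsConstrained p) {T : Subgroup Ω} {E : FusionSystem T} (hE : E.IsSubnormalIn F p) :
    E.IsConstrained p :=
  subnormal_constrained_aux hE hS ‹_› hF

/-- The factor system of a constrained system modulo a central subgroup is constrained. -/
theorem constrained_factor (hS : IsPGroup p S) {F : FusionSystem S} (hF : F.IsConstrained p)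
    {Z : Subgroup Ω} (hZ : F.IsCentral Z) {Ω' : Type*} [Group Ω'] {S' : Subgroup Ω'}
    {θ : S →* Ω'} {E : FusionSystem S'} (hE : F.IsFactorSystem Z θ E) : E.IsConstrained p := by
  have hZn := isNormal_stronglyClosed (isCentral_isNormal hZ)
  have hsurj := isSurjectiveMorphism_factor hS hF.1 hZn hE
  obtain ⟨hZS, hker, hrange, hmem⟩ := hE
  have : Finite S' := hrange ▸ Finite.of_surjective _ θ.rangeRestrict_surjective
  have hQn := isNormal_core F
  set Q := F.core
  have hQS := hQn.1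
  have hQsc := isNormal_stronglyClosed hQn
  set Q' := imageAlong θ Q
  have hQ'S : Q' ≤ S' := hrange ▸ imageAlong_le_range Q
  have hQ'n : E.IsNormal Q' := by
    refine ⟨hQ'S, fun P' φ' hφ' => ?_⟩
    obtain ⟨hP', φ, hφ, hind⟩ := (hmem P' φ').1 hφ'
    obtain ⟨ψ, hψ, hψe, -⟩ := hQn.2 _ φ hφ
    have hle₀ : preimageAlong θ P' ⊔ Q ≤ S := le_S F hψ
    obtain ⟨ψ', hψ', h1, h2, h3, he⟩ := hsurj.1.2 _ ψ hψ
    have hle : P' ⊔ Q' ≤ imageAlong θ (preimageAlong θ P' ⊔ Q) := sup_le (fun x hx => by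
        obtain ⟨y, hy⟩ := exists_preimage (hrange.symm ▸ hP') ⟨x, hx⟩
        exact (show θ ⟨y, _⟩ = x from hy) ▸ h3 ⟨y, Subgroup.mem_sup_left y.2⟩)
      (Subgroup.map_mono (Subgroup.comap_mono le_sup_right))
    refine ⟨restr hle ψ', restr_mem E hle hψ', fun x => ?_, ?_⟩
    · obtain ⟨y, hy⟩ := exists_preimage (hrange.symm ▸ hP') x
      obtain ⟨hyS, hye⟩ := inducedAlong_apply hind y
      have ex : x = ⟨θ ⟨y, preimageAlong_le P' y.2⟩, theta_mem_of_mem_preimage y⟩ :=
        Subtype.ext hy.symm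
      rw [ex, hye]
      refine (he ⟨y, Subgroup.mem_sup_left y.2⟩).trans (congrArg θ (Subtype.ext ?_))
      exact hψe y
    · have : Finite Q' := finite_of_le ‹_› hQ'S
      have hr : (restr (le_sup_right.trans hle : Q' ≤ _) ψ').range = Q' :=
        range_eq_of_image_le (E.injective_of_mem (restr_mem E _ hψ')) (by
          rintro _ ⟨x, rfl⟩
          obtain ⟨z, hz⟩ := imageAlong_exists hQS x
          have hzU : (z : Ω) ∈ preimageAlong θ P' ⊔ Q := Subgroup.mem_sup_right z.2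
          have e : Subgroup.inclusion (le_sup_right.trans hle : Q' ≤ _) x = ⟨_, h3 ⟨z, hzU⟩⟩ :=
            Subtype.ext hz.symm
          rw [restr_apply, e, he]
          exact theta_mem_imageAlong hQS ⟨_, sc_map_mem hQsc hψ (x := ⟨z, hzU⟩) z.2⟩) le_rfl
      conv_rhs => rw [← hr]
      rw [range_restr]
      ext w
      rw [mem_map_subgroupOf, mem_map_subgroupOf]
      exact ⟨fun ⟨x, hx, e⟩ => ⟨⟨x, hle x.2⟩, hx, e⟩,
        fun ⟨x, hx, e⟩ => ⟨⟨x, Subgroup.mem_sup_right hx⟩, hx, e⟩⟩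
  refine ⟨saturated_of_surjective hS hF.1 hsurj, Q', hQ'n, hQ'S, ?_⟩
  rintro _ ⟨φ', hφ', rfl⟩
  have : Finite Q' := finite_of_le ‹_› hQ'S
  rw [range_eq_of_image_le (E.injective_of_mem hφ') (by
    rintro _ ⟨x, rfl⟩; exact sc_map_mem (isNormal_stronglyClosed hQ'n) hφ' x.2) le_rfl]
  intro y hy
  obtain ⟨s, rfl⟩ : y ∈ θ.range := hrange.symm ▸ hy.1
  refine theta_mem_imageAlong hQS ⟨s, mem_core_of_stab hS hF hZn s.2 (fun z hz => ?_)
    fun q hq => ?_⟩
  · have hc := (center_le_centralizer F) (le_sSup (s := {Q | F.IsCentral Q}) hZ hz)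
    rw [Subgroup.mem_centralizer_iff.1 hc s s.2, mul_inv_cancel_right]
  · have hc : θ (s * ⟨q, hQS hq⟩ * s⁻¹ * ⟨q, hQS hq⟩⁻¹) = 1 := by
      rw [map_mul, map_mul, map_mul, map_inv, map_inv,
        ← Subgroup.mem_centralizer_iff.1 hy.2 _ (theta_mem_imageAlong hQS ⟨q, hq⟩)]
      group
    exact (hker _).1 hc

omit [Finite S] [Fact p.Prime] in
/-- A realized system is carried by its embedding onto the fusion system of the group. -/
theorem isFactorSystem_of_realized {F : FusionSystem S} {G : Type*} [Group G] {ι : S →* G}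
    (h : F.IsRealizedBy ι) :
    F.IsFactorSystem ⊥ ι (Cfsg.groupFusionSystem ι.range) := by
  refine ⟨bot_le, fun s => ?_, rfl, fun P' φ' => ⟨?_, ?_⟩⟩
  · rw [Subgroup.mem_bot]
    exact ⟨fun hs => congrArg Subtype.val (h.1 (hs.trans (map_one ι).symm)),
      fun hs => by rw [show s = 1 from Subtype.ext hs, map_one]⟩
  · rintro ⟨hP', hval, g, hg⟩
    refine ⟨hP', ?_⟩
    set e := MonoidHom.ofInjective h.1
    set P := preimageAlong ι P'
    have hP : P ≤ S := preimageAlong_le P'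
    let φ : P →* Ω := S.subtype.comp (e.symm.toMonoidHom.comp
      ((φ'.comp (MonoidHom.mk' (fun x : P => (⟨ι ⟨x, hP x.2⟩, theta_mem_of_mem_preimage x⟩ : P'))
        fun a b => Subtype.ext (map_mul ι ⟨a, hP a.2⟩ ⟨b, hP b.2⟩))).codRestrict ι.range fun x => hval _))
    have hφS : ∀ x : P, φ x ∈ S := fun x => Subtype.mem _
    have key : ∀ x : P, ι ⟨φ x, hφS x⟩ = φ' ⟨ι ⟨x, hP x.2⟩, theta_mem_of_mem_preimage x⟩ :=
      fun x => congrArg Subtype.val (e.apply_symm_apply _)
    exact ⟨φ, (h.2 P hP φ hφS).2 ⟨g, fun x => (key x).trans (hg _)⟩, hP, hφS,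
      theta_mem_of_mem_preimage, fun x => (key x).symm⟩
  · rintro ⟨hP', φ, hφ, hP, hφS, hm, he⟩
    obtain ⟨g, hg⟩ := (h.2 _ hP φ hφS).1 hφ
    have key : ∀ x : P', ∃ y : preimageAlong ι P', x = ⟨_, hm y⟩ := fun x => by
      obtain ⟨y, hy⟩ := exists_preimage hP' x
      exact ⟨y, Subtype.ext hy.symm⟩
    refine ⟨hP', fun x => ?_, g, fun x => ?_⟩
    · obtain ⟨y, rfl⟩ := key x
      rw [he y]
      exact ⟨_, rfl⟩
    · obtain ⟨y, rfl⟩ := key x
      rw [he y, hg y]

/-- Constrained systems stay constrained in a group realizing them. -/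
theorem constrained_of_realized (hS : IsPGroup p S) {F : FusionSystem S} (hF : F.IsConstrained p)
    {G : Type*} [Group G] {ι : S →* G} (h : F.IsRealizedBy ι) {T : Subgroup G}
    (hT : ι.range = T) : (Cfsg.groupFusionSystem T).IsConstrained p := by
  subst hT
  exact constrained_factor hS hF (isCentral_bot F) (isFactorSystem_of_realized h)

end Cfsg.Agent.FusionAlperin
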