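import Cfsg.Agent.FusionAlperin.Quasisimple
import Cfsg.Agent.FusionAlperin.ConstrainedCore
import Cfsg.Agent.FusionAlperin.Pullback.Normal
import Cfsg.Agent.FusionModel.Functor
import Cfsg.Agent.S5113
import Cfsg.Agent.S5120
import Cfsg.Agent.S5083

/-!
A saturated system without components is constrained.
-/

set_option autoImplicit false

open Cfsg Cfsg.FusionSystem
open Cfsg.Agent.FusionSys

namespace Cfsg.Agent.FusionAlperin

universe u

variable {Ω : Type u} [Group Ω] {S T : Subgroup Ω} {p : ℕ}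

/-- An automorphism of `T` in `F` moves a normal subgroup of an invariant subsystem to a normal
one. -/
theorem autImage_isNormal [Finite S] {F : FusionSystem S} {E : FusionSystem T}
    (hE : E.IsInvariantIn F) {N : Subgroup Ω} (hN : E.IsNormal N) {α : MulAut T}
    (hα : α ∈ F.autGroup T) : E.IsNormal (autImage α N) := by
  have : Finite T := finite_of_le ‹_› hE.2.1.1
  have hNT := hN.1
  have hinv : ∀ β ∈ F.autGroup T, ∀ (P : Subgroup Ω) (φ : P →* Ω), φ ∈ E.Hom P →
      ∃ χ ∈ E.Hom (autImage β P), ∀ (x : P) (h : autExt β x ∈ autImage β P),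
        χ ⟨autExt β x, h⟩ = autExt β (φ x) := by
    intro β hβ P φ hφ
    obtain ⟨χ, hχ, he⟩ := hE.2.2.1 P (le_S E hφ) φ hφ β hβ
    refine ⟨χ, hχ, fun x h => ?_⟩
    have hx : x.1 ∈ T := le_S E hφ x.2
    have e : (⟨_, h⟩ : autImage β P) = ⟨(β ⟨x, hx⟩ : T),
        (autExt_of_mem β hx) ▸ h⟩ := Subtype.ext (autExt_of_mem β hx)
    rw [e, autExt_of_mem β (map_mem_S E hφ x)]
    exact he x (map_mem_S E hφ x) _
  refine ⟨autImage_le α N, fun P φ hφ => ?_⟩
  have hPT := le_S E hφ
  obtain ⟨χ, hχ, hχe⟩ := hinv α⁻¹ ((F.autGroup T).inv_mem hα) P φ hφ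
  obtain ⟨ψ, hψ, hψe, -⟩ := hN.2 _ χ hχ
  obtain ⟨ψ', hψ', hψ'e⟩ := hinv α hα _ ψ hψ
  have hle₀ : autImage α⁻¹ P ⊔ N ≤ T := sup_le (autImage_le α⁻¹ P) hNT
  have hle : P ⊔ autImage α N ≤ autImage α (autImage α⁻¹ P ⊔ N) := by
    refine sup_le (fun x hx => ?_) fun x hx => ?_
    · have h1 := autExt_mem_autImage α hle₀
        (Subgroup.mem_sup_left (autExt_mem_autImage α⁻¹ hPT hx))
      rwa [Cfsg.Agent.S5119.autExt_inv' α (hPT hx)] at h1
    · obtain ⟨z, hz, -, hzx⟩ := exists_autExt_eq α ⟨x, hx⟩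
      have e : autExt α z = x := hzx
      rw [← e]
      exact autExt_mem_autImage α hle₀ (Subgroup.mem_sup_right hz)
  refine ⟨restr hle ψ', restr_mem E hle hψ', fun x => ?_, ?_⟩
  · have hx := autExt_mem_autImage α⁻¹ hPT x.2
    have h1 := hψ'e ⟨autExt α⁻¹ x, Subgroup.mem_sup_left hx⟩
      (autExt_mem_autImage α hle₀ (Subgroup.mem_sup_left hx))
    have e : Subgroup.inclusion hle (Subgroup.inclusion le_sup_left x) =
        ⟨autExt α (autExt α⁻¹ x), autExt_mem_autImage α hle₀ (Subgroup.mem_sup_left hx)⟩ :=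
      Subtype.ext (Cfsg.Agent.S5119.autExt_inv' α (hPT x.2)).symm
    rw [restr_apply, e, h1, show ψ ⟨autExt α⁻¹ x, Subgroup.mem_sup_left hx⟩ =
      χ ⟨autExt α⁻¹ x, hx⟩ from hψe ⟨_, hx⟩, hχe x hx]
    exact Cfsg.Agent.S5119.autExt_inv' α (map_mem_S E hφ x)
  · have hN' : Finite (autImage α N) := finite_of_le ‹_› (autImage_le α N)
    have hsc := isNormal_stronglyClosed hN
    have hm := restr_mem E (le_sup_right.trans hle) hψ'
    have hr : (restr (le_sup_right.trans hle) ψ').range = autImage α N :=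
      range_eq_of_image_le (E.injective_of_mem hm) (by
        rintro _ ⟨x, rfl⟩
        obtain ⟨z, hz, -, hzx⟩ := exists_autExt_eq α x
        have hzU : z ∈ autImage α⁻¹ P ⊔ N := Subgroup.mem_sup_right hz
        have e : Subgroup.inclusion (le_sup_right.trans hle) x =
            ⟨autExt α z, autExt_mem_autImage α hle₀ hzU⟩ := Subtype.ext hzx.symm
        rw [restr_apply, e, hψ'e ⟨z, hzU⟩]
        exact autExt_mem_autImage α hNT (sc_map_mem hsc hψ (x := ⟨z, hzU⟩) hz)) le_rfl
    conv_rhs => rw [← hr]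
    rw [range_restr]
    ext w
    rw [mem_map_subgroupOf, mem_map_subgroupOf]
    exact ⟨fun ⟨x, hx, e⟩ => ⟨⟨x, hle x.2⟩, hx, e⟩,
      fun ⟨x, hx, e⟩ => ⟨⟨x, Subgroup.mem_sup_right hx⟩, hx, e⟩⟩

variable [Finite S] [Fact p.Prime]

/-- The core of a weakly normal subsystem lies in the core. -/
theorem core_le_core (hS : IsPGroup p S) {F : FusionSystem S} {E : FusionSystem T}
    (hE : E.IsWeaklyNormalIn F p) : E.core ≤ F.core := by
  obtain ⟨-, hF, hEi⟩ := hE
  have hT := hEi.2.1
  have hTS := hT.1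
  have : Finite T := finite_of_le ‹_› hTS
  have hR := isNormal_core E
  set R := E.core
  have hRT := hR.1
  have : Finite R := finite_of_le ‹_› hRT
  haveI := ((hS.to_le hTS).to_le hRT).isNilpotent
  have hRinv : ∀ α ∈ F.autGroup T, ∀ x : T, (x : Ω) ∈ R → (α x : Ω) ∈ R := by
    intro α hα x hx
    have h := autExt_mem_autImage α hRT hx
    rw [autExt_of_mem α x.2] at h
    exact (le_sSup (s := {Q | E.IsNormal Q}) (autImage_isNormal hEi hR hα) :
      autImage α R ≤ R) h
  obtain ⟨n, hn⟩ := Subgroup.nilpotent_iff_lowerCentralSeries.1 (inferInstance : Group.IsNilpotent R)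
  set L := fun i : ℕ => (Subgroup.lowerCentralSeries (⊤ : Subgroup R) i).map R.subtype
  have hsc : ∀ i, F.StronglyClosed (L i) := by
    intro i
    have hLR : L i ≤ R := Subgroup.map_subtype_le _
    refine sc_of_elements ((hLR.trans hRT).trans hTS) fun P φ hφ x hx => ?_
    set P₀ := P ⊓ T
    have hx₀ : (x : Ω) ∈ P₀ := ⟨x.2, hRT (hLR hx)⟩
    obtain ⟨α, hα, φ₀, hφ₀, hφe⟩ :=
      hEi.2.2.2 P₀ inf_le_right _ (restr_mem F inf_le_left hφ)
    obtain ⟨ψ, hψ, hψe, hψm⟩ := hR.2 P₀ φ₀ hφ₀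
    have hψR := restr_mem E (le_sup_right : R ≤ P₀ ⊔ R) hψ
    have hr : (restr (le_sup_right : R ≤ P₀ ⊔ R) ψ).range = R := by rw [range_restr, hψm]
    have hαR := restr_mem F hRT (autGroup_mem_hom F hTS hα)
    have hrα : (restr hRT (T.subtype.comp α.toMonoidHom)).range = R :=
      range_eq_of_image_le (F.injective_of_mem hαR) (by
        rintro _ ⟨y, rfl⟩
        exact hRinv α hα _ y.2) le_rfl
    set μ : MulAut R := (toIso E hψR hr).trans (toIso F hαR hrα)
    have hchar : (Subgroup.lowerCentralSeries (⊤ : Subgroup R) i).Characteristic := inferInstance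
    obtain ⟨y, hy, hyx⟩ := hx
    have hμ : μ y ∈ Subgroup.lowerCentralSeries (⊤ : Subgroup R) i :=
      (Subgroup.characteristic_iff_le_comap.1 hchar μ) hy
    refine ⟨μ y, hμ, ?_⟩
    have h0 := hφe ⟨x, hx₀⟩ (map_mem_S E hφ₀ _)
    refine Eq.trans ?_ h0.symm
    show ((α ⟨ψ (Subgroup.inclusion le_sup_right y), _⟩ : T) : Ω) = _
    refine congrArg (fun w : T => ((α w : T) : Ω)) (Subtype.ext ?_)
    show ψ (Subgroup.inclusion le_sup_right y) = φ₀ ⟨x, hx₀⟩
    rw [← hψe ⟨x, hx₀⟩]
    exact congrArg ψ (Subtype.ext hyx)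
  have hanti := fun a b (hab : a ≤ b) => Subgroup.lowerCentralSeries_antitone (⊤ : Subgroup R) hab
  refine le_sSup (isNormal_of_series hS hF (Q := R)
    (Qs := fun i : Fin (n + 1) => L (n - i.val)) ?_ ?_
    (fun i j hij => Subgroup.map_mono (hanti _ _ (Nat.sub_le_sub_left hij n)))
    (fun i => hsc _) fun i => ?_)
  · show (Subgroup.lowerCentralSeries (⊤ : Subgroup R) (n - 0)).map R.subtype = ⊥
    rw [Nat.sub_zero, hn, Subgroup.map_bot]
  · simp [L, ← MonoidHom.range_eq_map]
  · have hi := i.isLt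
    have e : n - (i.castSucc : Fin (n + 1)).val = (n - (i.succ : Fin (n + 1)).val) + 1 := by
      simp only [Fin.val_castSucc, Fin.val_succ]
      omega
    show _ ≤ (Subgroup.lowerCentralSeries (⊤ : Subgroup R) (n - (i.castSucc : Fin (n + 1)).val)).map
      R.subtype
    rw [e, Subgroup.lowerCentralSeries_succ, Subgroup.map_commutator, ← MonoidHom.range_eq_map,
      Subgroup.range_subtype, Subgroup.commutator_comm]

/-- A quasisimple system is not constrained. -/
theorem not_constrained_of_quasisimple (hS : IsPGroup p S) {F : FusionSystem S}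
    (hF : F.Quasisimple p) : ¬ F.IsConstrained p := by
  intro hc
  obtain ⟨hFs, hhyp, hsimple⟩ := hF
  have hZ := isCentral_center F
  have hZsc := isNormal_stronglyClosed (isCentral_isNormal hZ)
  set θ := QuotientGroup.mk' ((F.center).subgroupOf S)
  have hker : ∀ s : S, θ s = 1 ↔ (s : Ω) ∈ F.center := fun s => QuotientGroup.eq_one_iff s
  have hrange : θ.range = ⊤ := MonoidHom.range_eq_top.2 (QuotientGroup.mk'_surjective _)
  have hE := factorSystem_isFactorSystem F hZsc θ hker hrange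
  obtain ⟨hEs, hne, hnor⟩ := hsimple _ hE
  have hp' : IsPGroup p (⊤ : Subgroup (S ⧸ (F.center).subgroupOf S)) :=
    (hS.to_quotient _).to_subgroup _
  obtain ⟨-, Q, hQn, hQc⟩ := constrained_factor hS hc hZ hE
  rcases hnor _ _ (innerSystem_normal hp' hEs hQn) with hbot | ⟨htop, hall⟩
  · subst hbot
    apply hne
    rw [eq_bot_iff]
    exact le_trans (le_inf le_rfl fun x _ => Subgroup.mem_centralizer_iff.2 fun q hq => by
      rw [Subgroup.mem_bot.1 hq, one_mul, mul_one]) (hQc.2 ⊥ (isConj_refl _ bot_le))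
  · apply hne
    have hbot : F.hyperfocalSubgroup p = ⊥ := by
      refine hyperfocal_eq_bot_of_inner hS hZ hFs hE fun P' φ' hφ' => ?_
      rw [← hall] at hφ'
      obtain ⟨-, g, hg, h⟩ := hφ'
      exact ⟨g, htop.le hg, h⟩
    rw [hhyp] at hbot
    rw [eq_bot_iff]
    intro x _
    obtain ⟨s, rfl⟩ := QuotientGroup.mk'_surjective _ x
    have : s = 1 := Subtype.ext (Subgroup.mem_bot.1 (hbot.le s.2))
    simp [this]

/-- A constrained system has no component. -/
theorem not_component_of_constrained (hS : IsPGroup p S) {F : FusionSystem S}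
    (hF : F.IsConstrained p) : ¬ ∃ (T : Subgroup Ω) (C : FusionSystem T), C.IsComponentIn F p := by
  rintro ⟨T, C, hsub, hq⟩
  have hC := constrained_of_subnormal hS hF hsub
  have hTS : T ≤ S := by
    clear hC hq hF hS
    induction hsub with
    | refl => exact le_rfl
    | step _ hD ih => exact ih.trans hD.1.2.2.2.1.1
  have : Finite T := finite_of_le ‹_› hTS
  exact not_constrained_of_quasisimple (hS.to_le hTS) hq hC

theorem morph_lt {F : FusionSystem S} {E : FusionSystem T} (hE : E.IsSubsystemOf F)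
    (hne : ¬ (T = S ∧ ∀ P, F.Hom P ⊆ E.Hom P)) :
    (FusionModel.morph E).ncard < (FusionModel.morph F).ncard := by
  refine Set.ncard_lt_ncard ⟨fun x hx => hE x.1 hx, fun hle => hne ?_⟩ (FusionModel.morph_finite F)
  have hall : ∀ P, F.Hom P ⊆ E.Hom P := fun P φ hφ => hle (a := ⟨P, φ⟩) hφ
  refine ⟨le_antisymm ?_ (le_S E (hall S (subtype_mem F le_rfl))), hall⟩
  intro t ht
  exact le_S F (hE T (subtype_mem E le_rfl)) ht

/-- A saturated system without components is constrained. -/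
theorem constrained_or_component (hS : IsPGroup p S) {F : FusionSystem S} (hF : F.IsSaturated p) :
    F.IsConstrained p ∨ ∃ (T : Subgroup Ω) (C : FusionSystem T), C.IsComponentIn F p := by
  induction hn : (FusionModel.morph F).ncard using Nat.strong_induction_on generalizing S with
  | _ n IH =>
  by_contra hcon
  rw [not_or] at hcon
  obtain ⟨hnc, hnone⟩ := hcon
  -- proper normal subsystems are constrained
  have hprop : ∀ (T : Subgroup Ω) (E : FusionSystem T), E.IsNormalIn F p →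
      ¬ (T = S ∧ ∀ P, F.Hom P ⊆ E.Hom P) → E.IsConstrained p := by
    intro T E hE hne
    have hTS := hE.1.2.2.2.1.1
    have : Finite T := finite_of_le ‹_› hTS
    rcases IH _ (hn ▸ morph_lt hE.1.2.2.1 hne) (hS.to_le hTS) hE.1.1 rfl with h | ⟨U, C, hC⟩
    · exact h
    · exact absurd ⟨U, C, .step hC.1 hE, hC.2⟩ hnone
  have hQn := isNormal_core F
  have hZ := isCentral_center F
  -- the core is central
  have hQZ : F.core ≤ F.center := by
    refine le_sSup ?_
    have hC := centSys_normal hS hF hQn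
    by_cases hall : centralizerIn S F.core = S ∧ ∀ P, F.Hom P ⊆ (centSys F F.core hQn.1).Hom P
    · refine ⟨hQn.1, fun P φ hφ => ?_⟩
      obtain ⟨-, -, -, ψ, hψ, h1, h2⟩ := hall.2 P hφ
      exact ⟨ψ, hψ, h1, h2⟩
    · exfalso
      have : Finite (centralizerIn S F.core) := finite_of_le ‹_› (centralizerIn_le _)
      obtain ⟨-, R, hRn, hRc⟩ := hprop _ _ hC hall
      have hRQ : R ≤ F.core :=
        (le_sSup (s := {Q | (centSys F F.core hQn.1).IsNormal Q}) hRn).trans (core_le_core hS hC.1)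
      have hCQ : centralizerIn S F.core ≤ F.core := fun x hx => hRQ (hRc.2 R (isConj_refl _ hRn.1)
        ⟨hx, Subgroup.mem_centralizer_iff.2 fun r hr =>
          Subgroup.mem_centralizer_iff.1 hx.2 r (hRQ hr)⟩)
      refine hnc ⟨hF, F.core, hQn, hQn.1, ?_⟩
      rintro _ ⟨φ, hφ, rfl⟩
      have : Finite F.core := finite_of_le ‹_› hQn.1
      rw [range_eq_of_image_le (F.injective_of_mem hφ) (by
        rintro _ ⟨x, rfl⟩
        exact sc_map_mem (isNormal_stronglyClosed hQn) hφ x.2) le_rfl]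
      exact hCQ
  -- proper normal subsystems are over central subgroups
  have hsmall : ∀ (T : Subgroup Ω) (E : FusionSystem T), E.IsNormalIn F p →
      ¬ (T = S ∧ ∀ P, F.Hom P ⊆ E.Hom P) → T ≤ F.center := by
    intro T E hE hne
    have hTS := hE.1.2.2.2.1.1
    obtain ⟨-, R, hRn, hRc⟩ := hprop T E hE hne
    have hRZ : R ≤ F.center :=
      (le_sSup (s := {Q | E.IsNormal Q}) hRn).trans ((core_le_core hS hE.1).trans hQZ)
    refine fun t ht => hRZ (hRc.2 R (isConj_refl _ hRn.1) ⟨ht, Subgroup.mem_centralizer_iff.2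
      fun r hr => (Subgroup.mem_centralizer_iff.1 (F.center_le_centralizer (hRZ hr)) t
        (hTS ht)).symm⟩)
  have hZne : ¬ S ≤ F.center := fun h => hnc ⟨hF, S, by
    have e : F.center = S := le_antisymm hZ.1 h
    have := isCentral_isNormal hZ
    rwa [e] at this, Cfsg.Agent.FusionBatch.isCentric_self hS hF⟩
  -- the hyperfocal subgroup is everything
  have hhyp : F.hyperfocalSubgroup p = S := by
    by_contra hne
    set H := F.hyperfocalSubgroup p
    have hHS : H ≤ S := by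
      refine (Subgroup.closure_le _).2 ?_
      rintro _ ⟨P, α, x, hP, -, rfl⟩
      exact S.mul_mem (S.inv_mem (hP x.2)) (hP (Subtype.mem _))
    obtain ⟨D, ⟨hDs, hDi⟩, -⟩ := Cfsg.Agent.S5113.result p hS F hF H hHS le_rfl
    have hHn : (H.subgroupOf S).Normal :=
      ⟨fun x hx g => hyperfocal_conj_mem F g.2 hx⟩
    have hD := Cfsg.Agent.S5120.result p hS F hF H hHS hHn le_rfl D hDs hDi
    have hHZ := hsmall H D hD fun h => hne h.1
    have hpgrp : ∀ P : Subgroup Ω, P ≤ S → IsPGroup p (F.autGroup P) := by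
      intro P hP a
      have : Finite P := finite_of_le ‹_› hP
      obtain ⟨k, m, hm, ho⟩ := Nat.exists_eq_pow_mul_and_not_dvd (orderOf_pos a).ne' p
        (Fact.out : p.Prime).ne_one
      set b := a ^ p ^ k
      have hbo : Nat.Coprime (orderOf b) p := by
        refine Nat.Coprime.coprime_dvd_left (orderOf_dvd_of_pow_eq_one (n := m) ?_)
          (((Fact.out : p.Prime).coprime_iff_not_dvd).2 hm).symm
        rw [← pow_mul, ← ho, pow_orderOf_eq_one]
      refine ⟨k, Subtype.ext (MulEquiv.ext fun x => ?_)⟩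
      have hbH : ∀ y : P, (y : Ω)⁻¹ * ((b : MulAut P) y : P) ∈ F.center := fun y =>
        hHZ (Subgroup.subset_closure ⟨P, b, y, hP, Subgroup.subset_closure hbo, rfl⟩)
      set c := x⁻¹ * (b : MulAut P) x
      have hfix : (b : MulAut P) c = c := by
        obtain ⟨ψ, hψ, h1, h2⟩ := hZ.2 P _ (autGroup_mem_hom F hP b.2)
        refine Subtype.ext ((h1 c).symm.trans ?_)
        have e : Subgroup.inclusion (le_sup_left : P ≤ P ⊔ F.center) c =
            Subgroup.inclusion (le_sup_right : F.center ≤ P ⊔ F.center) ⟨(c : Ω), hbH x⟩ :=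
          Subtype.ext rfl
        rw [e, h2]
      have hn : ∀ i : ℕ, ((b : MulAut P) ^ i) x = x * c ^ i := by
        intro i
        induction i with
        | zero => simp
        | succ i ih =>
          rw [pow_succ', MulAut.mul_apply, ih, map_mul, map_pow, hfix, pow_succ', ← mul_assoc,
            ← mul_assoc, mul_inv_cancel, one_mul]
      obtain ⟨j, hj⟩ := (hS.to_le hP) c
      have h1 : c ^ orderOf (b : MulAut P) = 1 := by
        have := hn (orderOf (b : MulAut P))
        rw [pow_orderOf_eq_one, MulAut.one_apply] at this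
        exact left_eq_mul.1 this
      have hc1 : c = 1 := coprime_trivial (by rw [Subgroup.orderOf_coe]; exact hbo) h1 hj
      exact (inv_mul_eq_one.1 hc1).symm
    refine hnc ⟨hF, S, ?_, Cfsg.Agent.FusionBatch.isCentric_self hS hF⟩
    rw [Cfsg.Agent.S5083.result p hS F hF hpgrp]
    refine ⟨le_rfl, fun P φ hφ => ?_⟩
    obtain ⟨hP, g, hg, h⟩ := hφ
    have hmem := (Cfsg.innerFusionSystem S).conj_mem (sup_le hP le_rfl : P ⊔ S ≤ S) hg
    refine ⟨_, hmem, fun x => (h x).symm, ?_⟩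
    ext y
    rw [mem_map_subgroupOf]
    constructor
    · rintro ⟨x, hx, rfl⟩
      exact S.mul_mem (S.mul_mem hg hx) (S.inv_mem hg)
    · intro hy
      refine ⟨⟨g⁻¹ * y * g, Subgroup.mem_sup_right ?_⟩, ?_, ?_⟩
      · exact S.mul_mem (S.mul_mem (S.inv_mem hg) hy) hg
      · exact S.mul_mem (S.mul_mem (S.inv_mem hg) hy) hg
      · show g * (g⁻¹ * y * g) * g⁻¹ = y
        group
  -- so `F` is quasisimple
  refine hnone ⟨S, F, .refl F p, hF, hhyp, fun E hE => ?_⟩
  have hZsc := isNormal_stronglyClosed (isCentral_isNormal hZ)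
  refine ⟨saturated_of_surjective hS hF (isSurjectiveMorphism_factor hS hF hZsc hE), ?_, ?_⟩
  · intro hbot
    refine hZne fun s hs => (hE.2.1 ⟨s, hs⟩).1 (Subgroup.mem_bot.1 ?_)
    rw [← hbot, ← hE.2.2.1]
    exact ⟨_, rfl⟩
  intro V B hB
  let d : CentralData S (⊤ : Subgroup (S ⧸ (F.center).subgroupOf S)) V p :=
    ⟨F, E, B, F.center, _, hS, hF, hZ, hE, hB⟩
  obtain ⟨D, hD, hDB⟩ := d.exists_normal_pullback
  by_cases hne : d.U = S ∧ ∀ P, F.Hom P ⊆ D.Hom P
  · have hV : V = ⊤ := by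
      rw [eq_top_iff]
      intro y hy
      obtain ⟨s, hs, hsy⟩ := d.π_surj hy
      have hsU : s ∈ d.U := hne.1.ge hs
      exact hsy ▸ (d.mem_U.1 hsU).2
    refine Or.inr ⟨hV, fun P' => Set.Subset.antisymm (hB.1.2.2.1 P') fun φ' hφ' => ?_⟩
    obtain ⟨hP', φ, hφ, hind⟩ := (hE.2.2.2 P' φ').1 hφ'
    obtain ⟨ψ', hψ', hre⟩ := hDB _ φ (hne.2 _ hφ)
    have himg : d.img (d.pre P') = P' := d.img_pre le_top
    refine mem_of_restricts B himg.ge hψ' fun y => ?_
    obtain ⟨x, hx, hxy⟩ := d.π_surj (show (y : _) ∈ (⊤ : Subgroup _) from Subgroup.mem_top _)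
    have hxP : x ∈ d.pre P' := d.mem_pre.2 ⟨hx, hxy.symm ▸ y.2⟩
    have e : Subgroup.inclusion himg.ge y =
        ⟨d.π x, d.π_mem_img (d.pre_le P') hxP⟩ := Subtype.ext hxy.symm
    refine Eq.trans ?_ (congrArg ψ' e).symm
    refine Eq.trans ?_ (hre ⟨x, hxP⟩ _).symm
    obtain ⟨hyS, hye⟩ := inducedAlong_apply hind ⟨x, hxP⟩
    rw [d.π_eq hyS]
    refine Eq.trans ?_ hye
    exact congrArg φ' (Subtype.ext (hxy.symm.trans (d.π_eq hx)))
  · refine Or.inl (eq_bot_iff.2 fun y hy => ?_)
    have hU := hsmall d.U D hD hne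
    obtain ⟨s, hs, hsy⟩ := d.π_surj (Subgroup.mem_top y)
    have hsZ : s ∈ F.center := hU (d.mem_U.2 ⟨hs, hsy.symm ▸ hy⟩)
    rw [Subgroup.mem_bot, ← hsy]
    exact (d.π_eq_one_iff hs).2 hsZ

end Cfsg.Agent.FusionAlperin
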