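import Cfsg.Agent.FusionAlperin.IndexPrime
import Cfsg.Agent.FusionSys.SaturationCriterion
import Cfsg.Agent.FusionSys.Centric
import Cfsg.Prelude.Def_FusionComponents

/-!
The `p'`-residual subsystem: the system generated by the `p`-elements of the automizers of centric
subgroups together with the automorphisms of `S` that agree with it on some centric subgroup.
-/

set_option autoImplicit false

open Cfsg Cfsg.FusionSystem
open Cfsg.Agent.FusionSys
open Cfsg.Agent.S5119 (InvT Decomp autExt_inv autExt_inv' autExt_mul)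

namespace Cfsg.Agent.FusionAlperin

variable {Ω : Type*} [Group Ω] {S : Subgroup Ω} {p : ℕ}

/-- A map is an element of `K` composed with a map of `E`. -/
def DecompIn {T : Subgroup Ω} (K : Subgroup (MulAut T)) (E : FusionSystem T) (P : Subgroup Ω)
    (f : P → Ω) : Prop :=
  ∃ α ∈ K, ∃ φ₀ ∈ E.Hom P, ∀ x : P, f x = autExt α (φ₀ x)

theorem decompIn_comp {T : Subgroup Ω} {F : FusionSystem S} {E : FusionSystem T}
    {K : Subgroup (MulAut T)} (hK : K ≤ F.autGroup T) (hI : InvT F E) {P Q : Subgroup Ω}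
    {f : P → Ω} {g : Q → Ω} (hf : DecompIn K E P f) (hg : DecompIn K E Q g) (h : ∀ x, f x ∈ Q) :
    DecompIn K E P (fun x => g ⟨f x, h x⟩) := by
  obtain ⟨α, hα, a, ha, hae⟩ := hf
  obtain ⟨β, hβ, b, hb, hbe⟩ := hg
  obtain ⟨χ, hχ, hχe⟩ := hI α⁻¹ (hK (K.inv_mem hα)) Q b hb
  have hm : ∀ x, a x ∈ autImage α⁻¹ Q := by
    intro x
    have h1 := autExt_mem_autImage α⁻¹ (le_S E hb) (h x)
    rwa [hae, autExt_inv α (map_mem_S E ha x)] at h1
  refine ⟨β * α, mul_mem hβ hα, _, E.comp_mem ha hχ hm, fun x => ?_⟩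
  show _ = autExt _ (χ ⟨a x, hm x⟩)
  have e : (⟨a x, hm x⟩ : autImage α⁻¹ Q) =
      ⟨_, autExt_mem_autImage α⁻¹ (le_S E hb) (h x)⟩ := by
    refine Subtype.ext ?_
    show a x = autExt α⁻¹ (f x)
    rw [hae, autExt_inv α (map_mem_S E ha x)]
  have hbT := map_mem_S E hb ⟨f x, h x⟩
  rw [e, hχe ⟨f x, h x⟩ _, autExt_mul β α (by rw [autExt_of_mem _ hbT]; exact (α⁻¹ _).2),
    autExt_inv' α hbT]
  exact hbe _

theorem decompIn_symm {T : Subgroup Ω} {F : FusionSystem S} {E : FusionSystem T}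
    {K : Subgroup (MulAut T)} (hK : K ≤ F.autGroup T) (hI : InvT F E) {P Q : Subgroup Ω}
    (e : P ≃* Q) (hf : DecompIn K E P (fun x => (e x : Ω))) :
    DecompIn K E Q (fun y => (e.symm y : Ω)) := by
  obtain ⟨α, hα, a, ha, hae⟩ := hf
  obtain ⟨c, hc, hce⟩ := E.inv_mem ha
  obtain ⟨χ, hχ, hχe⟩ := hI α (hK hα) _ c hc
  have hle : Q ≤ autImage α a.range := by
    intro y hy
    have h1 := autExt_mem_autImage α (range_le_S E ha) (x := a (e.symm ⟨y, hy⟩)) ⟨_, rfl⟩
    rw [← hae] at h1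
    simpa using h1
  refine ⟨α⁻¹, K.inv_mem hα, _, restr_mem E hle hχ, fun y => ?_⟩
  obtain ⟨x, rfl⟩ := e.surjective y
  show ((e.symm (e x) : P) : Ω) = _
  rw [MulEquiv.symm_apply_apply]
  show (x : Ω) = autExt α⁻¹ (χ ⟨(e x : Ω), _⟩)
  have h2 := hχe ⟨a x, x, rfl⟩ (autExt_mem_autImage α (range_le_S E ha) ⟨_, rfl⟩)
  rw [hce x] at h2
  have e2 : (⟨(e x : Ω), hle (e x).2⟩ : autImage α a.range) =
      ⟨_, autExt_mem_autImage α (range_le_S E ha) (x := a x) ⟨_, rfl⟩⟩ := Subtype.ext (hae x)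
  rw [e2, h2, autExt_inv α (le_S E ha x.2)]

/-- Automorphisms of `S` agreeing on some centric subgroup with the generated subsystem. -/
def residualAutSet (F : FusionSystem S) (p : ℕ) : Set (MulAut S) :=
  {β | β ∈ F.autGroup S ∧ ∃ (P : Subgroup Ω) (φ : P →* Ω), F.IsCentric P ∧
    φ ∈ (centricPElemSystem F p).Hom P ∧ ∀ x : P, φ x = autExt β x}

/-- The subgroup of `Aut_F(S)` they generate. -/
def residualAut (F : FusionSystem S) (p : ℕ) : Subgroup (MulAut S) :=
  Subgroup.closure (residualAutSet F p)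

theorem residualAut_le (F : FusionSystem S) : residualAut F p ≤ F.autGroup S :=
  (Subgroup.closure_le _).2 fun _ h => h.1

/-- The `p'`-residual subsystem. -/
def residualSystem (F : FusionSystem S) (p : ℕ) : FusionSystem S :=
  subSystem F (fun P φ => DecompIn (residualAut F p) (centricPElemSystem F p) P φ)
    (fun hP hg => ⟨1, one_mem _, _, (centricPElemSystem F p).conj_mem hP hg, fun x =>
      (autExt_of_mem (1 : MulAut S) (map_mem_S (centricPElemSystem F p)
        ((centricPElemSystem F p).conj_mem hP hg) x)).symm⟩)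
    (fun _ _ a b h =>
      decompIn_comp (residualAut_le F) (centricPElemSystem_invariant F) a b h)
    (fun {P φ} hφ a ψ _ he => by
      obtain ⟨α, hα, f, hf, hfe⟩ :=
        decompIn_symm (residualAut_le F) (centricPElemSystem_invariant F) (toIso F hφ rfl) a
      refine ⟨α, hα, f, hf, fun y => ?_⟩
      rw [← hfe y]
      obtain ⟨x, hx⟩ := y.2
      have hy : y = ⟨φ x, x, rfl⟩ := Subtype.ext hx.symm
      rw [hy, he x]
      exact (congrArg Subtype.val ((toIso F hφ rfl).symm_apply_apply x)).symm)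

theorem centricPElem_le_residual (F : FusionSystem S) :
    centricPElemSystem F p ≤ residualSystem F p := fun _ φ h =>
  ⟨h.1, 1, one_mem _, φ, h, fun x =>
    (autExt_of_mem (1 : MulAut S) (map_mem_S (centricPElemSystem F p) h x)).symm⟩

theorem residualSystem_sub (F : FusionSystem S) :
    (residualSystem F p).IsSubsystemOf F := fun _ _ h => h.1

theorem residualAut_le_autGroup (F : FusionSystem S) :
    residualAut F p ≤ (residualSystem F p).autGroup S := fun α hα =>
  (mem_autGroup _ le_rfl).2 ⟨autGroup_mem_hom F le_rfl (residualAut_le F hα), α, hα, _,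
    subtype_mem _ le_rfl, fun x => (autExt_of_mem α x.2).symm⟩

theorem residual_le_of {F E : FusionSystem S} (h0 : centricPElemSystem F p ≤ E)
    (hH : residualAut F p ≤ E.autGroup S) : residualSystem F p ≤ E := by
  rintro P φ ⟨-, α, hα, φ₀, hφ₀, he⟩
  exact comp_mem' E (h0 P hφ₀) (autGroup_mem_hom E le_rfl (hH hα))
    (map_mem_S (centricPElemSystem F p) hφ₀) fun x => (he x).trans (autExt_of_mem α _)

theorem residual_index [Finite S] [Fact p.Prime] (hS : IsPGroup p S) {F : FusionSystem S}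
    (hF : F.IsSaturated p) : (residualSystem F p).HasPrimeToPIndexIn F p :=
  ⟨residualSystem_sub F, fun P hP α hα => (mem_autGroup _ hP).2
    (centricPElem_le_residual F P (autGroup_mem_hom _ hP (centricPElem_index hS hF hP hα)))⟩

theorem fullyNormalized_of_autExt [Finite S] {F : FusionSystem S} {γ : MulAut S}
    {P R Q : Subgroup Ω} (hQ : F.IsFullyNormalized Q) (hR : R ≤ S) (hconj : F.IsConj R Q)
    (e : P ≃* R) (f : P ≃* Q) (he : ∀ z : P, (f z : Ω) = autExt γ (e z)) :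
    F.IsFullyNormalized R := by
  refine ⟨hR, fun Q' hQ' => ?_⟩
  refine (hQ.2 Q' (isConj_trans (isConj_symm hconj) hQ')).trans ?_
  haveI : Finite (normalizerIn S R) := finite_of_le ‹_› (normalizerIn_le R)
  have key : ∀ g ∈ normalizerIn S Q, ∀ r ∈ R, ∀ hg : g ∈ S,
      ((γ.symm ⟨g, hg⟩ : S) : Ω) * r * ((γ.symm ⟨g, hg⟩ : S) : Ω)⁻¹ ∈ R := by
    intro g hgN r hr hg
    obtain ⟨z, hz⟩ := e.surjective ⟨r, hr⟩
    obtain ⟨z', hz'⟩ := f.surjective
      ⟨g * f z * g⁻¹, (Subgroup.mem_normalizer_iff.1 hgN.2 _).1 (f z).2⟩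
    have h1 : (⟨g, hg⟩ : S) * ⟨f z, hQ.1 (f z).2⟩ * ⟨g, hg⟩⁻¹ = ⟨f z', hQ.1 (f z').2⟩ :=
      Subtype.ext (congrArg Subtype.val hz').symm
    have hback : ∀ w : P, γ.symm ⟨f w, hQ.1 (f w).2⟩ = ⟨e w, hR (e w).2⟩ := fun w => by
      have : (⟨f w, hQ.1 (f w).2⟩ : S) = γ ⟨e w, hR (e w).2⟩ :=
        Subtype.ext ((he w).trans (autExt_of_mem γ _))
      rw [this, MulEquiv.symm_apply_apply]
    have h2 := congrArg (fun s => ((γ.symm s : S) : Ω)) h1
    simp only [map_mul, map_inv, hback, Subgroup.coe_mul, Subgroup.coe_inv, hz] at h2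
    rw [h2]
    exact (e z').2
  refine Nat.card_le_card_of_injective (fun g : normalizerIn S Q =>
    (⟨((γ.symm ⟨g, (normalizerIn_le Q) g.2⟩ : S) : Ω), (γ.symm _).2, ?_⟩ : normalizerIn S R))
    fun a b h => ?_
  · refine Subgroup.mem_normalizer_iff.2 fun x => ⟨fun hx => key g g.2 x hx _, fun hx => ?_⟩
    have h3 := key _ ((normalizerIn S Q).inv_mem g.2) _ hx (S.inv_mem ((normalizerIn_le Q) g.2))
    have e1 : γ.symm ⟨(g : Ω)⁻¹, S.inv_mem ((normalizerIn_le Q) g.2)⟩ =
        (γ.symm ⟨g, (normalizerIn_le Q) g.2⟩)⁻¹ := by rw [← map_inv]; rfl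
    rw [e1, Subgroup.coe_inv] at h3
    simpa [mul_assoc] using h3
  · have : γ.symm ⟨a, (normalizerIn_le Q) a.2⟩ = γ.symm ⟨b, (normalizerIn_le Q) b.2⟩ :=
      Subtype.ext (congrArg Subtype.val h :)
    exact Subtype.ext (congrArg Subtype.val (γ.symm.injective this) :)

theorem fullyAutomized_of_le [Finite S] [Fact p.Prime] {F E : FusionSystem S} (hEF : E ≤ F)
    {R : Subgroup Ω} (hR : F.IsFullyAutomized p R) : E.IsFullyAutomized p R := by
  obtain ⟨hRS, P₀, hP₀⟩ := hR
  haveI : Finite R := finite_of_le ‹_› hRS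
  have hA := autInducedBy_le_autGroup E hRS
  have hAF := autGroup_mono hEF R
  have hp : IsPGroup p ((autInducedBy S R).subgroupOf (E.autGroup R)) := by
    have h1 : IsPGroup p ((autInducedBy S R).subgroupOf (F.autGroup R)) := hP₀ ▸ P₀.2
    exact (h1.of_equiv (Subgroup.subgroupOfEquivOfLe (hA.trans hAF))).of_equiv
      (Subgroup.subgroupOfEquivOfLe hA).symm
  have hi : ¬ p ∣ ((autInducedBy S R).subgroupOf (E.autGroup R)).index := by
    intro h
    apply P₀.not_dvd_index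
    rw [hP₀]
    change p ∣ (autInducedBy S R).relIndex (F.autGroup R)
    rw [← Subgroup.relIndex_mul_relIndex _ _ _ hA hAF]
    exact Dvd.dvd.mul_right h _
  exact ⟨hRS, hp.toSylow hi, rfl⟩

theorem residual_saturated [Finite S] [Fact p.Prime] (hS : IsPGroup p S) {F : FusionSystem S}
    (hF : F.IsSaturated p) : (residualSystem F p).IsSaturated p := by
  set E₀ := centricPElemSystem F p
  set E₁ := residualSystem F p
  have hconjF : ∀ {P Q : Subgroup Ω}, E₁.IsConj P Q → F.IsConj P Q :=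
    fun ⟨φ, hφ, h⟩ => ⟨φ, hφ.1, h⟩
  refine saturated_of_generated hS (ℋ := {P | F.IsCentric P})
    (fun P hP Q hQ => isCentric_of_isConj hP (hconjF hQ)) (fun P hP => ?_)
    (fun E' hE' => residual_le_of ?_ ?_) (fun P hP hPn => absurd ?_ hPn)
  · obtain ⟨Q, hPQ, hQ⟩ := exists_fullyNormalized F hP.1
    obtain ⟨f, hf⟩ := (isConj_iff_exists_iso F).1 hPQ
    obtain ⟨γ, -, e, he, hfe⟩ := centricPElem_decomp hS hF hf
    have heF := centricPElemSystem_sub F P he
    have hPR : F.IsConj P e.range := ⟨e, heF, rfl⟩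
    have hRn : F.IsFullyNormalized e.range :=
      fullyNormalized_of_autExt hQ (range_le_S E₀ he)
        (isConj_trans (isConj_symm hPR) hPQ) (toIso E₀ he rfl) f hfe
    refine ⟨e.range, ⟨e, centricPElem_le_residual F P he, rfl⟩,
      fullyAutomized_of_le (residualSystem_sub F) (saturated_fullyNormalized hS hF hRn).2,
      hRn.1, fun P' φ hφ hrange => ?_⟩
    have hP' : F.IsCentric P' := isCentric_of_isConj hP
      (isConj_trans hPR (isConj_symm ⟨φ, hφ.1, hrange⟩))
    obtain ⟨ψ, hψ, hψe⟩ := (saturated_fullyCentralized hS hF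
      (saturated_fullyNormalized hS hF hRn).1).2 P' φ hφ.1 hrange
    refine ⟨ψ, ⟨hψ, ?_⟩, hψe⟩
    obtain ⟨α, hα, ψ₀, hψ₀, hψd⟩ := centricPElem_decomp hS hF hψ
    obtain ⟨η, hη, φ₀, hφ₀, hφd⟩ := hφ.2
    refine ⟨α, ?_, ψ₀, hψ₀, hψd⟩
    have hle : P' ≤ extender S P' φ := le_extender (le_S F hφ.1) (map_mem_S F hφ.1)
    have hψr := restr_mem E₀ hle hψ₀
    obtain ⟨c, hc, hce⟩ := E₀.inv_mem hψr
    have hcP : ∀ y, c y ∈ P' := by
      rintro ⟨_, x, rfl⟩
      rw [hce]
      exact x.2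
    have h0 := E₀.comp_mem hc hφ₀ hcP
    have hmem : η⁻¹ * α ∈ residualAutSet F p := by
      refine ⟨mul_mem ((F.autGroup S).inv_mem (residualAut_le F hη)) hα, _, _,
        isCentric_of_isConj hP' ⟨_, centricPElemSystem_sub F P' hψr, rfl⟩, h0, ?_⟩
      rintro ⟨_, x, rfl⟩
      show φ₀ ⟨c _, _⟩ = _
      have e1 : (⟨c ⟨restr hle ψ₀ x, x, rfl⟩, hcP _⟩ : P') = x := Subtype.ext (hce x)
      rw [e1, autExt_mul _ _ (map_mem_S E₀ hψr x)]
      show φ₀ x = autExt η⁻¹ (autExt α (ψ₀ ⟨x, hle x.2⟩))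
      rw [← hψd, hψe x x.2 (hle x.2), hφd, autExt_inv η (map_mem_S E₀ hφ₀ x)]
    have := mul_mem hη (Subgroup.subset_closure hmem : η⁻¹ * α ∈ residualAut F p)
    rwa [mul_inv_cancel_left] at this
  · refine centricPElemSystem_le fun Q hQ α hα => (mem_autGroup E' hQ.1).2 ?_
    refine hE' Q hQ (centricPElem_le_residual F Q ?_)
    exact autGroup_mem_hom E₀ hQ.1 (centricPElemSystem_contains F Q hQ hα)
  · intro α hα
    refine (mem_autGroup E' le_rfl).2 (hE' S ⟨le_rfl, fun Q hQ => ?_⟩ ?_)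
    · rw [eq_of_le_of_card_le (isConj_le_right hQ) (isConj_card_eq hQ).le]
      exact centralizerIn_le S
    · exact autGroup_mem_hom E₁ le_rfl (residualAut_le_autGroup F hα)
  · show F.IsCentric P
    refine ⟨hP.1, ?_⟩
    rintro Q ⟨f, hf, rfl⟩ c hc
    obtain ⟨α, -, e, he, hfe⟩ := centricPElem_decomp hS hF hf
    have hcR : ((α.symm ⟨c, hc.1⟩ : S) : Ω) ∈ centralizerIn S e.range := by
      refine ⟨(α.symm _).2, Subgroup.mem_centralizer_iff.2 ?_⟩
      rintro _ ⟨z, rfl⟩
      have h1 : α ⟨e z, map_mem_S E₀ he z⟩ * ⟨c, hc.1⟩ =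
          ⟨c, hc.1⟩ * α ⟨e z, map_mem_S E₀ he z⟩ := by
        refine Subtype.ext ?_
        show _ * c = c * _
        rw [← autExt_of_mem, ← hfe]
        exact Subgroup.mem_centralizer_iff.1 hc.2 _ ⟨z, rfl⟩
      have h2 := congrArg (fun s => ((α.symm s : S) : Ω)) h1
      simpa using h2
    obtain ⟨z, hz⟩ := hP.2 e.range ⟨e, centricPElem_le_residual F P he, rfl⟩ hcR
    refine ⟨z, ?_⟩
    rw [hfe, autExt_of_mem α (map_mem_S E₀ he z)]
    have : (⟨e z, map_mem_S E₀ he z⟩ : S) = α.symm ⟨c, hc.1⟩ := Subtype.ext hz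
    rw [this, MulEquiv.apply_symm_apply]

theorem residual_least [Finite S] [Fact p.Prime] (hS : IsPGroup p S) {F D : FusionSystem S}
    (hF : F.IsSaturated p) (hD : D.IsSaturated p) (hDi : D.HasPrimeToPIndexIn F p) :
    residualSystem F p ≤ D := by
  have h0 : centricPElemSystem F p ≤ D := centricPElemSystem_le fun Q hQ => hDi.2 Q hQ.1
  refine residual_le_of h0 ((Subgroup.closure_le _).2 ?_)
  rintro β ⟨hβ, P, φ, hP, hφ, he⟩
  have key : ∀ P, P ≤ S → F.IsCentric P →
      (∀ χ : P →* Ω, (∀ x : P, χ x = autExt β x) → χ ∈ D.Hom P) → β ∈ D.autGroup S := by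
    intro P hPS
    refine downward_induction (S := S) (motive := fun P => F.IsCentric P →
      (∀ χ : P →* Ω, (∀ x : P, χ x = autExt β x) → χ ∈ D.Hom P) → β ∈ D.autGroup S) ?_ hPS
    clear! P
    intro P hPS ih hP hmap
    rcases hPS.eq_or_lt with rfl | hlt
    · exact (mem_autGroup D le_rfl).2 (hmap _ fun x => (autExt_of_mem β x.2).symm)
    let b : S →* Ω := S.subtype.comp β.toMonoidHom
    have hb : b ∈ F.Hom S := autGroup_mem_hom F le_rfl hβ
    have hψ : restr hPS b ∈ D.Hom P := hmap _ fun x => (autExt_of_mem β _).symm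
    have hQc : D.IsCentric (restr hPS b).range :=
      ⟨range_le_S D hψ, fun R hR => (isCentric_of_isConj hP ⟨_, hDi.1 P hψ, rfl⟩).2 R
        (by obtain ⟨χ, hχ, h⟩ := hR; exact ⟨χ, hDi.1 _ hχ, h⟩)⟩
    obtain ⟨θ, hθ, hθe⟩ := (saturated_fullyCentralized hS hD
      (centric_fullyCentralized hQc)).2 P _ hψ rfl
    have hN : normalizerIn S P ≤ extender S P (restr hPS b) := by
      intro g hg
      refine mem_extender.2 ⟨hg.1, hg.2, b ⟨g, hg.1⟩, map_mem_S F hb _, fun x hx => ?_⟩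
      show b ⟨_, _⟩ = _ * b ⟨x, hPS x.2⟩ * _
      rw [← map_inv, ← map_mul, ← map_mul]
      rfl
    have hPN := le_normalizerIn (S := S) hPS
    refine ih (normalizerIn S P) (normalizerIn_le P)
      (card_lt_of_lt (normalizerIn_le P) (lt_normalizerIn hS hlt))
      (isCentric_mono hP hPN (normalizerIn_le P)) fun χ hχ => ?_
    obtain ⟨z, hzP, -, hze⟩ := maps_agree_on_centric hS hF hPN hP
      (hDi.1 _ (restr_mem D hN hθ)) (restr_mem F (normalizerIn_le P) hb)
      (fun x hx => hθe x hx (hN x.2))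
    have hzS : (z : Ω) ∈ S := normalizerIn_le P z.2
    refine comp_mem' D (D.conj_mem (normalizerIn_le P) hzS) (restr_mem D hN hθ)
      (fun x => (normalizerIn S P).mul_mem ((normalizerIn S P).mul_mem z.2 x.2)
        ((normalizerIn S P).inv_mem z.2)) fun x => ?_
    rw [hχ x]
    exact (autExt_of_mem β (normalizerIn_le P x.2)).trans (hze x)
  refine key P hP.1 hP fun χ hχ => mem_hom_congr D (h0 P hφ) fun x => ?_
  rw [hχ, he]

theorem residual_isPPrimeResidual [Finite S] [Fact p.Prime] (hS : IsPGroup p S)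
    {F : FusionSystem S} (hF : F.IsSaturated p) : F.IsPPrimeResidual p (residualSystem F p) :=
  ⟨residual_saturated hS hF, residual_index hS hF, fun _ h1 h2 => residual_least hS hF h1 h2⟩

theorem residual_unique [Finite S] [Fact p.Prime] (hS : IsPGroup p S) {F D : FusionSystem S}
    (hF : F.IsSaturated p) (hD : F.IsPPrimeResidual p D) : D = residualSystem F p :=
  fusionSystem_antisymm (hD.2.2 _ (residual_saturated hS hF) (residual_index hS hF))
    (residual_least hS hF hD.1 hD.2.1)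

end Cfsg.Agent.FusionAlperin
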