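import Cfsg.Agent.FusionAlperin.GoodExtension
import Cfsg.Agent.FusionAlperin.PPrimeResidual

/-!
The `p'`-residual of a weakly normal subsystem satisfies the extension condition.
-/

set_option autoImplicit false

open Cfsg Cfsg.FusionSystem
open Cfsg.Agent.FusionSys
open Cfsg.Agent.S5119 (InvT autExt_inv autExt_inv' autExt_mul)

namespace Cfsg.Agent.FusionAlperin

variable {Ω : Type*} [Group Ω] {S T : Subgroup Ω} {p : ℕ} {F : FusionSystem S}

theorem exists_exponent {o m₀ : ℕ} (ho : o ≠ 0) (hp : p.Prime) (hm₀ : Nat.Coprime m₀ p) :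
    ∃ k, ∃ a, ∃ m, o = p ^ a * m ∧ Nat.Coprime m p ∧ p ^ a ∣ k ∧ k ≡ 1 [MOD m₀] := by
  obtain ⟨a, m, hm, rfl⟩ := Nat.exists_eq_pow_mul_and_not_dvd ho p hp.ne_one
  have hcop : Nat.Coprime m p := ((hp.coprime_iff_not_dvd).2 hm).symm
  obtain ⟨k, hk1, hk2⟩ := Nat.chineseRemainder (Nat.Coprime.pow_left a hm₀.symm) 0 1
  exact ⟨k, a, m, rfl, hcop, Nat.modEq_zero_iff_dvd.1 hk1, hk2⟩

theorem good_step [Finite S] [Fact p.Prime] (hS : IsPGroup p S) (hF : F.IsSaturated p)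
    {E : FusionSystem T} (hE : E.IsInvariantIn F) {β : MulAut T} (hβ : β ∈ E.autGroup T)
    {Θ : MulAut ↥(T ⊔ centralizerIn S T)} (hΘ : Θ ∈ F.autGroup (T ⊔ centralizerIn S T))
    (hΘT : ∀ x : T, (Θ ⟨x, Subgroup.mem_sup_left x.2⟩ : Ω) = β x)
    (hΘo : Nat.Coprime (orderOf Θ) p) {P : Subgroup Ω} (hP : TCentric F T P)
    (hgood : restr hP.1 (T.subtype.comp β.toMonoidHom) ∈
      (goodExtSystem F E hE.1 hE.2.1).Hom P) :
    restr (normalizerIn_le P) (T.subtype.comp β.toMonoidHom) ∈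
      (goodExtSystem F E hE.1 hE.2.1).Hom (normalizerIn T P) := by
  have hT := hE.2.1
  have hTS := hT.1
  refine ⟨restr_mem E (normalizerIn_le P) (autGroup_mem_hom E le_rfl hβ), fun _ => ?_⟩
  have hUS : T ⊔ (centralizerIn S T) ≤ S := sup_le hTS (centralizerIn_le T)
  have : Finite T := finite_of_le ‹_› hTS
  set bT : P →* Ω := restr hP.1 (T.subtype.comp β.toMonoidHom) with hbT
  obtain ⟨ψ, hψ, hψe, hψc⟩ := hgood.2 hP
  have hbF : bT ∈ F.Hom P := hE.1 P hgood.1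
  have hQconj : F.IsConj P bT.range := ⟨bT, hbF, rfl⟩
  set Q := bT.range with hQdef
  have hQc : TCentric F T Q := tCentric_of_isConj hT hP hQconj
  have hQT : Q ≤ T := hQc.1
  have ht := good_value hT hbF hP hψ hψe hψc
  set θ := (T ⊔ (centralizerIn S T)).subtype.comp Θ.toMonoidHom with hθdef
  have hθ : θ ∈ F.Hom (T ⊔ (centralizerIn S T)) := autGroup_mem_hom F hUS hΘ
  have hPC : P ⊔ (centralizerIn S T) ≤ T ⊔ (centralizerIn S T) := sup_le_sup_right hP.1 _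
  have hθP : ∀ (x : ↥(P ⊔ (centralizerIn S T))) (hx : (x : Ω) ∈ P), restr hPC θ x = bT ⟨x, hx⟩ :=
    fun x hx => hΘT ⟨x, hP.1 hx⟩
  have hθC : ∀ (x : ↥(T ⊔ (centralizerIn S T))), (x : Ω) ∈ (centralizerIn S T) → θ x ∈ (centralizerIn S T) := by
    intro x hx
    refine ⟨hUS (Θ x).2, Subgroup.mem_centralizer_iff.2 fun t htT => ?_⟩
    obtain ⟨t', ht'⟩ := β.surjective ⟨t, htT⟩
    have e : t = θ ⟨t', Subgroup.mem_sup_left t'.2⟩ := by
      show t = (Θ _ : Ω)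
      rw [hΘT, ht']
    rw [e, ← map_mul, ← map_mul]
    exact congrArg θ (Subtype.ext (Subgroup.mem_centralizer_iff.1 hx.2 _ t'.2))
  have hPS : P ≤ S := hP.1.trans hTS
  have hQC : Q ⊔ (centralizerIn S T) ≤ S := sup_le (hQT.trans hTS) (centralizerIn_le T)
  have : Finite ↥(Q ⊔ (centralizerIn S T)) := finite_of_le ‹_› hQC
  have hθr : (restr hPC θ).range = Q ⊔ (centralizerIn S T) := by
    have hle : (restr hPC θ).range ≤ Q ⊔ (centralizerIn S T) := range_le_sup_of_le _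
      (fun x hx => Subgroup.mem_sup_left ((hθP x hx).symm ▸ ⟨⟨x, hx⟩, rfl⟩))
      (fun x hx => Subgroup.mem_sup_right (hθC ⟨x, hPC x.2⟩ hx))
    refine le_antisymm hle ?_
    refine sup_le ?_ fun c hc => ?_
    · rintro _ ⟨x, rfl⟩
      exact ⟨⟨x, Subgroup.mem_sup_left x.2⟩, hθP _ x.2⟩
    · have : Finite (centralizerIn S T) := finite_of_le ‹_› (centralizerIn_le T)
      have h1 := range_eq_of_image_le (φ := restr (le_sup_right : (centralizerIn S T) ≤ T ⊔ (centralizerIn S T)) θ) (Q := (centralizerIn S T))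
        (F.injective_of_mem (restr_mem F le_sup_right hθ))
        (by rintro _ ⟨x, rfl⟩; exact hθC (Subgroup.inclusion le_sup_right x) x.2) le_rfl
      obtain ⟨x, hx⟩ := h1.ge hc
      exact ⟨⟨x, Subgroup.mem_sup_right x.2⟩, hx⟩
  have hψr : ψ.range = Q ⊔ (centralizerIn S T) := by
    refine le_antisymm (range_le_sup_of_le ψ
      (fun x hx => Subgroup.mem_sup_left ((hψe ⟨x, hx⟩).symm ▸ ⟨⟨x, hx⟩, rfl⟩)) fun x hx => ?_) ?_
    · have h1 := (Q ⊔ (centralizerIn S T)).mul_mem (Subgroup.mem_sup_right hx)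
        (Subgroup.mem_sup_left (ht ⟨x, hx⟩))
      rw [mul_inv_cancel_left] at h1
      exact h1
    · have hQψ : Q ≤ ψ.range := by
        rintro _ ⟨x, rfl⟩
        exact ⟨_, hψe x⟩
      refine sup_le hQψ fun c hc => ?_
      have h1 : ψ ⟨c, Subgroup.mem_sup_right hc⟩ ∈ ψ.range := ⟨_, rfl⟩
      have h2 := ψ.range.mul_mem h1 (ψ.range.inv_mem (hQψ (ht ⟨c, hc⟩)))
      simpa using h2
  -- the deviation `γ` on `Q (centralizerIn S T)`
  set eθ := toIso F (restr_mem F hPC hθ) hθr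
  set eψ := toIso F hψ hψr
  set γ : MulAut ↥(Q ⊔ (centralizerIn S T)) := eψ.symm.trans eθ with hγdef
  have hγ : γ ∈ F.autGroup (Q ⊔ (centralizerIn S T)) :=
    (mem_autGroup F hQC).2 ((toIso_isIso F _ _).symm.trans (toIso_isIso F _ _))
  have hγQ : ∀ q : Q, (γ ⟨q, Subgroup.mem_sup_left q.2⟩ : Ω) = q := by
    rintro ⟨_, x, rfl⟩
    have h1 : eψ.symm ⟨bT x, Subgroup.mem_sup_left ⟨x, rfl⟩⟩ = ⟨x, Subgroup.mem_sup_left x.2⟩ := by
      rw [MulEquiv.symm_apply_eq]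
      exact Subtype.ext (hψe x).symm
    show ((eθ (eψ.symm _) : ↥(Q ⊔ (centralizerIn S T))) : Ω) = bT x
    rw [h1]
    exact hθP _ x.2
  have hγC : ∀ c : (centralizerIn S T), (θ ⟨c, Subgroup.mem_sup_right c.2⟩)⁻¹ *
      (γ ⟨c, Subgroup.mem_sup_right c.2⟩ : Ω) ∈ T := by
    intro c
    obtain ⟨z, hz⟩ := ht c
    have h1 : eψ.symm ⟨c, Subgroup.mem_sup_right c.2⟩ =
        ⟨c, Subgroup.mem_sup_right c.2⟩ * ⟨z, Subgroup.mem_sup_left z.2⟩⁻¹ := by
      rw [MulEquiv.symm_apply_eq]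
      refine Subtype.ext ?_
      show (c : Ω) = ψ (_ * _)
      rw [map_mul, map_inv, hψe z, hz]
      group
    show _ * ((eθ (eψ.symm _) : ↥(Q ⊔ (centralizerIn S T))) : Ω) ∈ T
    rw [h1, map_mul, map_inv, Subgroup.coe_mul, Subgroup.coe_inv, toIso_coe, toIso_coe,
      hθP ⟨z, Subgroup.mem_sup_left z.2⟩ z.2]
    show (θ ⟨(c : Ω), Subgroup.mem_sup_right c.2⟩)⁻¹ *
      (θ ⟨(c : Ω), Subgroup.mem_sup_right c.2⟩ * _) ∈ T
    rw [inv_mul_cancel_left]
    exact T.inv_mem (β _).2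
  -- transport to a fully normalized conjugate of `Q`
  obtain ⟨Qs, hQQs, hQs⟩ := exists_fullyNormalized F (hQT.trans hTS)
  obtain ⟨χ, hχ, hχN, hχQ⟩ := exists_normalizer_map_fullyNormalized hS hF hQs hQQs
  have hQsc := tCentric_of_isConj hT hQc hQQs
  have hW : normalizerIn T Q ⊔ (centralizerIn S T) ≤ normalizerIn S Q :=
    sup_le (inf_le_inf_right _ hTS)
      ((centralizerIn_antitone hQT).trans (centralizerIn_le_normalizerIn Q))
  have hQN : Q ≤ normalizerIn T Q := le_normalizerIn hQT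
  have hY : Q ⊔ (centralizerIn S T) ≤ normalizerIn T Q ⊔ (centralizerIn S T) := sup_le_sup_right hQN _
  have hWS : normalizerIn T Q ⊔ (centralizerIn S T) ≤ S := hW.trans (normalizerIn_le Q)
  set χW := restr hW χ with hχWdef
  have hχW : χW ∈ F.Hom _ := restr_mem F hW hχ
  set χY := restr hY χW with hχYdef
  have hχY : χY ∈ F.Hom _ := restr_mem F hY hχW
  set eY := toIso F hχY rfl
  set eW := toIso F hχW rfl
  have hYW : χY.range ≤ χW.range := by
    rintro _ ⟨y, rfl⟩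
    exact ⟨_, rfl⟩
  have hYS : χY.range ≤ S := range_le_S F hχY
  set γs := MulAut.congr eY γ with hγsdef
  have hγs : γs ∈ F.autGroup χY.range := autCongr_mem F (toIso_isIso F hχY rfl) hγ
  have hγh := autGroup_mem_hom F hYS hγs
  set X := (restr (le_sup_right : (centralizerIn S T) ≤ Q ⊔ (centralizerIn S T)) χY).range with hXdef
  have hXY : X ≤ χY.range := by
    rintro _ ⟨c, rfl⟩
    exact ⟨_, rfl⟩
  have hQsY : Qs ≤ χY.range := fun q hq => by
    rw [← hχQ] at hq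
    obtain ⟨y, hy, rfl⟩ := hq
    exact ⟨⟨y, Subgroup.mem_sup_left hy⟩, rfl⟩
  have hγsQ : ∀ q : Qs, (γs ⟨q, hQsY q.2⟩ : Ω) = q := by
    rintro ⟨q, hq⟩
    obtain ⟨y, hy, hyq⟩ := hχQ.ge hq
    have e : (⟨q, hQsY hq⟩ : χY.range) = eY ⟨y, Subgroup.mem_sup_left hy⟩ := Subtype.ext hyq.symm
    rw [e, hγsdef, autCongr_apply, MulEquiv.symm_apply_apply]
    have e2 : γ ⟨y, Subgroup.mem_sup_left hy⟩ = ⟨y, Subgroup.mem_sup_left hy⟩ :=
      Subtype.ext (hγQ ⟨y, hy⟩)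
    rw [e2]
    exact hyq
  have hXc : ∀ (x : Ω) (hx : x ∈ χY.range), x ∈ X → (γs ⟨x, hx⟩ : Ω) ∈ centralizerIn S Qs := by
    intro x hx hxX
    refine ⟨hYS (γs _).2, Subgroup.mem_centralizer_iff.2 fun q hq => ?_⟩
    show ((⟨q, hq⟩ : Qs) : Ω) * _ = _ * ((⟨q, hq⟩ : Qs) : Ω)
    rw [← hγsQ ⟨q, hq⟩, ← Subgroup.coe_mul, ← Subgroup.coe_mul, ← map_mul, ← map_mul]
    refine congrArg (fun w => ((γs w : χY.range) : Ω)) (Subtype.ext ?_)
    obtain ⟨c, rfl⟩ := hxX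
    obtain ⟨y, hy, rfl⟩ := hχQ.ge hq
    show χ _ * χ _ = χ _ * χ _
    rw [← map_mul, ← map_mul]
    exact congrArg χ (Subtype.ext (Subgroup.mem_centralizer_iff.1 c.2.2 _ (hQT hy)))
  have hXS : X ≤ centralizerIn S Qs := by
    rintro _ ⟨c, rfl⟩
    refine ⟨map_mem_S F hχY _, Subgroup.mem_centralizer_iff.2 fun q hq => ?_⟩
    obtain ⟨y, hy, rfl⟩ := hχQ.ge hq
    show χ _ * χ _ = χ _ * χ _
    rw [← map_mul, ← map_mul]
    exact congrArg χ (Subtype.ext (Subgroup.mem_centralizer_iff.1 c.2.2 _ (hQT hy)))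
  have hmem : restr hXY (χY.range.subtype.comp γs.toMonoidHom) ∈ F.centralizerHom Qs X :=
    ⟨restr_mem F hXY hγh, hXS, fun x => hXc x (hXY x.2) x.2,
      restr (sup_le hXY hQsY) (χY.range.subtype.comp γs.toMonoidHom),
      restr_mem F (sup_le hXY hQsY) hγh, fun _ => rfl, hγsQ⟩
  obtain ⟨Ψ, hΨ, hΨX, hΨQ⟩ := exists_ext_normalizerT hS hF hT hQsc.1
    (isConj_rfl_T hT hQsc) (saturated_fullyNormalized hS hF hQs).1 hmem
  -- pull back to `N_T(Q) (centralizerIn S T)`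
  have hWle : χW.range ≤ X ⊔ normalizerIn T Qs := range_le_sup_of_le χW
    (fun x hx => Subgroup.mem_sup_right
      ⟨sc_map_mem hT hχW hx.1, (hχN ⟨x, hW x.2⟩).2⟩)
    fun x hx => Subgroup.mem_sup_left ⟨⟨x, hx⟩, rfl⟩
  have hXW : X ≤ χW.range := hXY.trans hYW
  have hQsW : Qs ≤ χW.range := hQsY.trans hYW
  have hnΨ : ∀ n : ↥(normalizerIn T Qs), (n : Ω)⁻¹ * Ψ ⟨n, Subgroup.mem_sup_right n.2⟩ ∈ Qs := by
    intro n
    refine isConj_rfl_T hT hQsc ⟨T.mul_mem (T.inv_mem n.2.1) (sc_map_mem hT hΨ n.2.1),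
      Subgroup.mem_centralizer_iff.2 fun q hq => ?_⟩
    have h1 := (Subgroup.mem_normalizer_iff.1 n.2.2 q).1 hq
    have e1 : Ψ ⟨n, Subgroup.mem_sup_right n.2⟩ * q *
        (Ψ ⟨n, Subgroup.mem_sup_right n.2⟩)⁻¹ = (n : Ω) * q * (n : Ω)⁻¹ := by
      conv_lhs => rw [show q = ((⟨q, hq⟩ : Qs) : Ω) from rfl, ← hΨQ ⟨q, hq⟩, ← map_mul, ← map_inv,
        ← map_mul]
      exact hΨQ ⟨_, h1⟩
    calc q * ((n : Ω)⁻¹ * Ψ ⟨n, _⟩)
        = (n : Ω)⁻¹ * ((n : Ω) * q * (n : Ω)⁻¹) * Ψ ⟨n, Subgroup.mem_sup_right n.2⟩ := by group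
      _ = (n : Ω)⁻¹ * Ψ ⟨n, Subgroup.mem_sup_right n.2⟩ * q := by rw [← e1]; group
  have hΨr : ∀ y : ↥(χW.range), Ψ ⟨y, hWle y.2⟩ ∈ χW.range := by
    rintro ⟨_, y, rfl⟩
    refine range_le_sup_of_le (Ψ.comp ((χW).codRestrict _ fun y => hWle ⟨y, rfl⟩))
      (fun x hx => ?_) (fun x hx => ?_) ⟨y, rfl⟩
    · show Ψ ⟨χW x, _⟩ ∈ χW.range
      have hn : χW x ∈ normalizerIn T Qs := ⟨sc_map_mem hT hχW hx.1, (hχN ⟨x, hW x.2⟩).2⟩
      have h1 : χW x ∈ χW.range := ⟨x, rfl⟩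
      have h2 := χW.range.mul_mem h1 (hQsW (hnΨ ⟨_, hn⟩))
      rw [mul_inv_cancel_left] at h2
      exact h2
    · show Ψ ⟨χW x, _⟩ ∈ χW.range
      have h := hΨX ⟨χW x, ⟨⟨x, hx⟩, rfl⟩⟩
      exact hYW (h.symm ▸ (γs _).2)
  have hΨW : restr hWle Ψ ∈ F.Hom χW.range := restr_mem F hWle hΨ
  have : Finite χW.range := finite_of_le ‹_› (range_le_S F hχW)
  have hΨWr : (restr hWle Ψ).range = χW.range :=
    range_eq_of_image_le (F.injective_of_mem hΨW) (by rintro _ ⟨y, rfl⟩; exact hΨr y) le_rfl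
  set Γ := MulAut.congr eW.symm (toIso F hΨW hΨWr) with hΓdef
  have hΓ : Γ ∈ F.autGroup _ :=
    autCongr_mem F (toIso_isIso F hχW rfl).symm (toIso_mem_autGroup F hΨW hΨWr)
  have hΓapply : ∀ w, (eW (Γ w) : Ω) = Ψ ⟨χW w, hWle ⟨w, rfl⟩⟩ := by
    intro w
    rw [hΓdef, autCongr_apply, MulEquiv.apply_symm_apply]
    rfl
  have hWU : normalizerIn T Q ⊔ (centralizerIn S T) ≤ T ⊔ (centralizerIn S T) := sup_le_sup_right (normalizerIn_le Q) _
  have hΓQ : ∀ q : Q, Γ ⟨q, Subgroup.mem_sup_left (hQN q.2)⟩ =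
      ⟨q, Subgroup.mem_sup_left (hQN q.2)⟩ := by
    intro q
    refine eW.injective (Subtype.ext ?_)
    rw [hΓapply]
    have hq : χW ⟨q, Subgroup.mem_sup_left (hQN q.2)⟩ ∈ Qs :=
      hχQ.le ⟨⟨q, hW (Subgroup.mem_sup_left (hQN q.2))⟩, q.2, rfl⟩
    exact hΨQ ⟨_, hq⟩
  have hΓN : ∀ w : ↥(normalizerIn T Q ⊔ (centralizerIn S T)), (w : Ω) ∈ normalizerIn T Q → (w : Ω)⁻¹ * (Γ w : Ω) ∈ Q := by
    intro w hw
    have hn : χW w ∈ normalizerIn T Qs := ⟨sc_map_mem hT hχW hw.1, (hχN ⟨w, hW w.2⟩).2⟩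
    have h1 := hnΨ ⟨_, hn⟩
    obtain ⟨y, hy, hyq⟩ := hχQ.ge h1
    have e : Γ w = w * ⟨y, Subgroup.mem_sup_left (hQN hy)⟩ := by
      refine eW.injective (Subtype.ext ?_)
      rw [hΓapply, map_mul, Subgroup.coe_mul]
      show _ = χW w * χ _
      refine Eq.trans (mul_inv_cancel_left (χW w) _).symm (congrArg (χW w * ·) ?_)
      exact hyq.symm
    rw [e, Subgroup.coe_mul, inv_mul_cancel_left]
    exact hy
  have hΓC : ∀ w : ↥(normalizerIn T Q ⊔ (centralizerIn S T)), (w : Ω) ∈ (centralizerIn S T) → (θ ⟨w, hWU w.2⟩)⁻¹ * (Γ w : Ω) ∈ T := by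
    intro w hw
    have e : Γ w = ⟨γ ⟨w, Subgroup.mem_sup_right hw⟩, hY (γ _).2⟩ := by
      refine eW.injective (Subtype.ext ?_)
      rw [hΓapply]
      refine Eq.trans (hΨX ⟨χW w, ⟨⟨w, hw⟩, rfl⟩⟩) ?_
      show ((γs ⟨χW w, _⟩ : χY.range) : Ω) = _
      have e1 : (⟨χW w, hXY ⟨⟨w, hw⟩, rfl⟩⟩ : χY.range) = eY ⟨w, Subgroup.mem_sup_right hw⟩ :=
        Subtype.ext rfl
      refine Eq.trans (congrArg (fun v => ((γs v : χY.range) : Ω)) e1) ?_
      rw [hγsdef, autCongr_apply, MulEquiv.symm_apply_apply]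
      rfl
    rw [e]
    exact hγC ⟨w, hw⟩
  have hnT : ∀ y : S, ∀ t ∈ T, (y : Ω)⁻¹ * t * y ∈ T := fun y t ht => by
    simpa using sc_conj_mem hT (S.inv_mem y.2) ht
  -- `Γ` and `Θ` agree modulo `T`
  have hΓθ : ∀ w : ↥(normalizerIn T Q ⊔ (centralizerIn S T)), (θ ⟨w, hWU w.2⟩)⁻¹ * (Γ w : Ω) ∈ T := by
    have key : ∀ a b : ↥(normalizerIn T Q ⊔ (centralizerIn S T)), (θ ⟨a, hWU a.2⟩)⁻¹ * (Γ a : Ω) ∈ T →
        (θ ⟨b, hWU b.2⟩)⁻¹ * (Γ b : Ω) ∈ T →
        (θ ⟨_, hWU (a * b).2⟩)⁻¹ * (Γ (a * b) : Ω) ∈ T := by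
      intro a b ha hb
      have h1 := T.mul_mem (hnT ⟨θ ⟨b, hWU b.2⟩, map_mem_S F hθ _⟩ _ ha) hb
      rw [show (⟨((a * b : ↥(normalizerIn T Q ⊔ (centralizerIn S T))) : Ω), hWU (a * b).2⟩ : ↥(T ⊔ (centralizerIn S T))) =
        ⟨a, hWU a.2⟩ * ⟨b, hWU b.2⟩ from rfl, map_mul, map_mul, Subgroup.coe_mul]
      convert h1 using 1
      show _ = (θ ⟨b, _⟩)⁻¹ * _ * θ ⟨b, _⟩ * _
      group
    intro w
    obtain ⟨n, hn, c, hc, hw⟩ := exists_mul_of_mem_sup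
      (T := normalizerIn T Q) (K := (centralizerIn S T))
      (fun a ha b hb => Subgroup.mem_centralizer_iff.1 hb.2 a ha.1) w.2
    have e : w = ⟨n, Subgroup.mem_sup_left hn⟩ * ⟨c, Subgroup.mem_sup_right hc⟩ := Subtype.ext hw
    rw [e]
    refine key _ _ ?_ (hΓC _ hc)
    exact T.mul_mem (T.inv_mem (sc_map_mem hT hθ hn.1))
      (sc_map_mem hT (autGroup_mem_hom F hWS hΓ) (x := ⟨n, Subgroup.mem_sup_left hn⟩) hn.1)
  have hiter : ∀ (i : ℕ) (w : ↥(normalizerIn T Q ⊔ (centralizerIn S T))),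
      (((Θ ^ i) ⟨w, hWU w.2⟩ : ↥(T ⊔ (centralizerIn S T))) : Ω)⁻¹ * ((Γ ^ i) w : Ω) ∈ T := by
    intro i
    induction i with
    | zero => intro w; simp
    | succ i ih =>
      intro w
      rw [pow_succ', pow_succ', MulAut.mul_apply, MulAut.mul_apply]
      have h1 := hΓθ ((Γ ^ i) w)
      have h2 := sc_map_mem hT hθ
        (x := ((Θ ^ i) ⟨w, hWU w.2⟩)⁻¹ * ⟨_, hWU ((Γ ^ i) w).2⟩) (ih w)
      rw [map_mul, map_inv] at h2
      have h3 := T.mul_mem h2 h1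
      simp only [hθdef, MonoidHom.coe_comp, MulEquiv.coe_toMonoidHom, Function.comp_apply,
        Subgroup.coe_subtype] at h3
      convert h3 using 1
      group
  have : Finite ↥(normalizerIn T Q ⊔ (centralizerIn S T)) := finite_of_le ‹_› hWS
  obtain ⟨k, a, m, ho, hmp, hak, hk1⟩ :=
    exists_exponent (o := orderOf Γ) (orderOf_pos Γ).ne' Fact.out hΘo
  set Δ := Γ ^ k with hΔdef
  have hΔm : Δ ^ m = 1 := by
    obtain ⟨j, rfl⟩ := hak
    rw [hΔdef, ← pow_mul, show p ^ a * j * m = orderOf Γ * j by rw [ho]; ring, pow_mul,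
      pow_orderOf_eq_one, one_pow]
  have hΔQ : ∀ q : Q, Δ ⟨q, Subgroup.mem_sup_left (hQN q.2)⟩ =
      ⟨q, Subgroup.mem_sup_left (hQN q.2)⟩ := by
    intro q
    rw [hΔdef]
    clear! k
    intros
    rename_i k
    induction k with
    | zero => rfl
    | succ i ih => rw [pow_succ', MulAut.mul_apply, ih, hΓQ]
  have hΔN : ∀ w : ↥(normalizerIn T Q ⊔ (centralizerIn S T)), (w : Ω) ∈ normalizerIn T Q → Δ w = w := by
    intro w hw
    have hmove : ∀ (i : ℕ) (w : ↥(normalizerIn T Q ⊔ (centralizerIn S T))), (w : Ω) ∈ normalizerIn T Q →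
        (w : Ω)⁻¹ * ((Γ ^ i) w : Ω) ∈ Q := by
      intro i
      induction i with
      | zero => intro w _; simp
      | succ i ih =>
        intro w hw
        rw [pow_succ', MulAut.mul_apply]
        have h1 := ih w hw
        have e : (Γ ^ i) w = w * ⟨_, Subgroup.mem_sup_left (hQN h1)⟩ :=
          Subtype.ext (mul_inv_cancel_left _ _).symm
        rw [e, map_mul, hΓQ ⟨_, h1⟩, Subgroup.coe_mul, ← mul_assoc]
        exact Q.mul_mem (hΓN w hw) h1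
    have h1 : (w : Ω)⁻¹ * (Δ w : Ω) ∈ Q := hmove k w hw
    set q : Q := ⟨_, h1⟩
    have hit : ∀ i : ℕ, ((Δ ^ i) w : Ω) = w * ((q ^ i : Q) : Ω) := by
      intro i
      induction i with
      | zero => simp
      | succ i ih =>
        have e : (Δ ^ i) w = w * ⟨((q ^ i : Q) : Ω), Subgroup.mem_sup_left (hQN (q ^ i).2)⟩ :=
          Subtype.ext ih
        rw [pow_succ', MulAut.mul_apply, e, map_mul, hΔQ (q ^ i), Subgroup.coe_mul, pow_succ',
          Subgroup.coe_mul, ← mul_assoc]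
        show _ = (w : Ω) * ((w : Ω)⁻¹ * (Δ w : Ω)) * _
        rw [mul_inv_cancel_left]
    have hqm : q ^ m = 1 := by
      have := hit m
      rw [hΔm] at this
      exact Subtype.ext (mul_left_cancel (a := (w : Ω)) (by simpa using this.symm))
    obtain ⟨j, hj⟩ := (hS.to_le (hQT.trans hTS)) q
    have hq1 : q = 1 := by
      have h2 : orderOf q ∣ Nat.gcd m (p ^ j) :=
        Nat.dvd_gcd (orderOf_dvd_of_pow_eq_one hqm) (orderOf_dvd_of_pow_eq_one hj)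
      rw [Nat.Coprime.gcd_eq_one (hmp.pow_right j)] at h2
      exact orderOf_eq_one_iff.1 (Nat.dvd_one.1 h2)
    have := hit 1
    rw [hq1, one_pow, pow_one] at this
    exact Subtype.ext (by simpa using this)
  have hΘk : Θ ^ k = Θ := by
    conv_rhs => rw [← pow_one Θ]
    exact pow_eq_pow_iff_modEq.2 hk1
  -- the new extension
  have hNC : normalizerIn T P ⊔ (centralizerIn S T) ≤ T ⊔ (centralizerIn S T) := sup_le_sup_right (normalizerIn_le P) _
  have hβN : ∀ n : ↥(normalizerIn T P), ((β ⟨n, normalizerIn_le P n.2⟩ : T) : Ω) ∈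
      normalizerIn T Q := by
    have key : ∀ n : ↥(normalizerIn T P), ∀ z ∈ Q,
        ((β ⟨n, normalizerIn_le P n.2⟩ : T) : Ω) * z *
          ((β ⟨n, normalizerIn_le P n.2⟩ : T) : Ω)⁻¹ ∈ Q := by
      rintro n _ ⟨x, rfl⟩
      have h := (Subgroup.mem_normalizer_iff.1 n.2.2 (x : Ω)).1 x.2
      refine ⟨⟨_, h⟩, ?_⟩
      show ((β (⟨n, normalizerIn_le P n.2⟩ * ⟨x, hP.1 x.2⟩ *
        ⟨n, normalizerIn_le P n.2⟩⁻¹) : T) : Ω) = _
      simp only [map_mul, map_inv, Subgroup.coe_mul, Subgroup.coe_inv]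
      rfl
    intro n
    refine ⟨(β _).2, Subgroup.mem_normalizer_iff.2 fun z => ⟨key n z, fun hz => ?_⟩⟩
    have h := key n⁻¹ _ hz
    have e : (⟨((n⁻¹ : ↥(normalizerIn T P)) : Ω), normalizerIn_le P n⁻¹.2⟩ : T) =
        ⟨n, normalizerIn_le P n.2⟩⁻¹ := rfl
    rw [e, map_inv, Subgroup.coe_inv] at h
    simpa [mul_assoc] using h
  have hθW : ∀ x, restr hNC θ x ∈ normalizerIn T Q ⊔ (centralizerIn S T) := fun x => range_le_sup_of_le (restr hNC θ)
    (fun x hx => Subgroup.mem_sup_left (by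
      show θ ⟨x, _⟩ ∈ normalizerIn T Q
      exact Eq.subst (motive := fun z => z ∈ normalizerIn T Q)
        (hΘT ⟨x, normalizerIn_le P hx⟩).symm (hβN ⟨x, hx⟩)))
    (fun x hx => Subgroup.mem_sup_right (hθC ⟨x, hNC x.2⟩ hx)) ⟨x, rfl⟩
  have hΔF := autGroup_mem_hom F hWS ((F.autGroup (normalizerIn T Q ⊔ (centralizerIn S T))).inv_mem (pow_mem hΓ k : Δ ∈ _))
  refine ⟨_, F.comp_mem (restr_mem F hNC hθ) hΔF hθW, fun n => ?_, fun c => ?_⟩
  · show ((Δ.symm ⟨_, _⟩ : ↥(normalizerIn T Q ⊔ (centralizerIn S T))) : Ω) = β ⟨n, normalizerIn_le P n.2⟩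
    have e : (⟨_, hθW ⟨n, Subgroup.mem_sup_left n.2⟩⟩ : ↥(normalizerIn T Q ⊔ (centralizerIn S T))) =
        ⟨_, Subgroup.mem_sup_left (hβN n)⟩ := Subtype.ext (hΘT ⟨n, normalizerIn_le P n.2⟩)
    rw [e]
    conv_lhs => rw [← hΔN ⟨_, Subgroup.mem_sup_left (hβN n)⟩ (hβN n), MulEquiv.symm_apply_apply]
  · set w := Δ.symm ⟨_, hθW ⟨c, Subgroup.mem_sup_right c.2⟩⟩ with hwdef
    have h1 : (θ ⟨w, hWU w.2⟩)⁻¹ * θ ⟨c, Subgroup.mem_sup_right c.2⟩ ∈ T := by
      have h := hiter k w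
      rw [hΘk, ← hΔdef, hwdef, MulEquiv.apply_symm_apply] at h
      exact h
    rw [← map_inv, ← map_mul, sc_map_mem_iff hT hθ] at h1
    show (c : Ω)⁻¹ * (w : Ω) ∈ T
    have h2 := T.inv_mem h1
    simpa using h2

theorem residual_le_good [Finite S] [Fact p.Prime] (hS : IsPGroup p S) (hF : F.IsSaturated p)
    {E : FusionSystem T} (hE : E.IsInvariantIn F) (hEs : E.IsSaturated p) :
    residualSystem E p ≤ goodExtSystem F E hE.1 hE.2.1 := by
  have hT := hE.2.1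
  have hTS := hT.1
  have : Finite T := finite_of_le ‹_› hTS
  set G := goodExtSystem F E hE.1 hE.2.1
  have h0 : centricPElemSystem E p ≤ G := centricPElemSystem_le fun Q hQ =>
    pElem_mem_good hS hF hE hEs (tCentric_of_centric hE hQ)
  refine residual_le_of h0 ((Subgroup.closure_le _).2 ?_)
  rintro β ⟨hβ, P, φ, hP, hφ, he⟩
  have hβh := autGroup_mem_hom E le_rfl hβ
  have hβF := hE.1 T hβh
  -- extend `β` to `T C_S(T)`
  set C := centralizerIn S T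
  have hTn : F.IsFullyNormalized T := ⟨hTS, fun Q hQ => by
    obtain ⟨χ, hχ, rfl⟩ := hQ
    rw [range_eq_of_image_le (F.injective_of_mem hχ)
      (by rintro _ ⟨x, rfl⟩; exact sc_map_mem hT hχ x.2) le_rfl]⟩
  have hUS : T ⊔ C ≤ S := sup_le hTS (centralizerIn_le T)
  obtain ⟨θ₀, hθ₀, hθ₀e⟩ := exists_ext_aut'
    (saturated_fullyCentralized hS hF (saturated_fullyNormalized hS hF hTn).1)
    ((mem_autGroup F hTS).2 hβF) (le_sup_left : T ≤ T ⊔ C)
    (sup_le (le_normalizerIn hTS) (centralizerIn_le_normalizerIn T))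
    (sup_le (le_carried_self F hTS β) (centralizer_le_carried T β))
  have : Finite ↥(T ⊔ C) := finite_of_le ‹_› hUS
  have hθ₀r : θ₀.range = T ⊔ C := by
    refine range_eq_of_image_le (F.injective_of_mem hθ₀) (range_le_sup_of_le θ₀
      (fun x hx => Subgroup.mem_sup_left ((hθ₀e ⟨x, hx⟩).symm ▸ (β ⟨x, hx⟩).2))
      fun x hx => Subgroup.mem_sup_right ⟨map_mem_S F hθ₀ x,
        Subgroup.mem_centralizer_iff.2 fun r hr => ?_⟩) le_rfl
    obtain ⟨r', hr'⟩ := β.surjective ⟨r, hr⟩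
    have e : r = θ₀ (Subgroup.inclusion le_sup_left r') := by rw [hθ₀e, hr']
    rw [e, ← map_mul, ← map_mul]
    exact congrArg θ₀ (Subtype.ext (Subgroup.mem_centralizer_iff.1 hx.2 _ r'.2))
  set Θ₀ := toIso F hθ₀ hθ₀r
  have hΘ₀ : Θ₀ ∈ F.autGroup (T ⊔ C) := toIso_mem_autGroup F hθ₀ hθ₀r
  obtain ⟨a, m, hm, ho⟩ :=
    Nat.exists_eq_pow_mul_and_not_dvd (orderOf_pos Θ₀).ne' p (Fact.out : p.Prime).ne_one
  have hmp : Nat.Coprime m p := (((Fact.out : p.Prime).coprime_iff_not_dvd).2 hm).symm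
  obtain ⟨j, hj1, hj2⟩ := Nat.chineseRemainder (Nat.Coprime.pow_left a hmp.symm) 0 1
  have hpj : p ^ a ∣ j := Nat.modEq_zero_iff_dvd.1 hj1
  have hpow : ∀ (i : ℕ) (x : T),
      ((Θ₀ ^ i) ⟨x, Subgroup.mem_sup_left x.2⟩ : Ω) = (β ^ i) x := by
    intro i
    induction i with
    | zero => intro x; rfl
    | succ i ih =>
      intro x
      rw [pow_succ', pow_succ', MulAut.mul_apply, MulAut.mul_apply]
      refine Eq.trans ?_ (hθ₀e ((β ^ i) x))
      exact congrArg θ₀ (Subtype.ext (ih x))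
  have hord : Nat.Coprime (orderOf (Θ₀ ^ j)) p := by
    refine Nat.Coprime.coprime_dvd_left (orderOf_dvd_of_pow_eq_one ?_) hmp
    obtain ⟨l, rfl⟩ := hpj
    rw [← pow_mul, show p ^ a * l * m = orderOf Θ₀ * l by rw [ho]; ring, pow_mul,
      pow_orderOf_eq_one, one_pow]
  -- `β` and `β ^ j` differ by an inner automorphism
  have hinn : β ^ j * β⁻¹ ∈ autInducedBy T T := by
    obtain ⟨R, hR⟩ := (saturated_fullyNormalized (hS.to_le hTS) hEs
      (fullyNormalized_self E)).2.2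
    have hn : ((autInducedBy T T).subgroupOf (E.autGroup T)).Normal := by
      rw [← inn_eq_autInducedBy]
      exact inn_normal_autGroup E T
    set g : E.autGroup T := ⟨β ^ j * β⁻¹, mul_mem (pow_mem hβ j) ((E.autGroup T).inv_mem hβ)⟩
    have hg : g ^ p ^ a = 1 := by
      refine Subtype.ext ?_
      show (β ^ j * β⁻¹) ^ p ^ a = 1
      have hc : Commute (β ^ j) β⁻¹ := ((Commute.refl β).pow_left j).inv_right
      rw [hc.mul_pow, ← pow_mul, inv_pow, mul_inv_eq_one]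
      have hβo : β ^ orderOf Θ₀ = 1 := MulEquiv.ext fun x => Subtype.ext (by
        rw [← hpow, pow_orderOf_eq_one]; rfl)
      refine pow_eq_pow_iff_modEq.2 (Nat.ModEq.of_dvd (orderOf_dvd_of_pow_eq_one hβo) ?_)
      rw [ho, mul_comm j]
      nth_rewrite 3 [← mul_one (p ^ a)]
      exact Nat.ModEq.mul_left' _ hj2
    have hgp : IsPGroup p (Subgroup.zpowers g) := by
      obtain ⟨i, -, hi⟩ := (Nat.dvd_prime_pow (Fact.out : p.Prime)).1
        (orderOf_dvd_of_pow_eq_one hg)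
      exact IsPGroup.of_card (n := i) (by rw [Nat.card_zpowers, hi])
    obtain ⟨R', hR'⟩ := hgp.exists_le_sylow
    have hnR : (R : Subgroup (E.autGroup T)).Normal := hR ▸ hn
    let _u := Sylow.unique_of_normal R hnR
    have := hR' (Subgroup.mem_zpowers g)
    rw [Subsingleton.elim R' R, hR] at this
    exact this
  have hδ := autInducedBy_le_autGroup G le_rfl hinn
  have hPT := hP.1
  have hβP : restr hPT (T.subtype.comp β.toMonoidHom) ∈ G.Hom P :=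
    mem_hom_congr G (h0 P hφ) fun x => ((he x).trans (autExt_of_mem β (hPT x.2))).symm
  have hβjP : restr hPT (T.subtype.comp (β ^ j).toMonoidHom) ∈ G.Hom P := by
    refine comp_mem' G hβP (autGroup_mem_hom G le_rfl hδ)
      (fun x => (β ⟨x, hPT x.2⟩).2) fun x => ?_
    show ((β ^ j) ⟨x, hPT x.2⟩ : Ω) = ((β ^ j * β⁻¹) (β ⟨x, hPT x.2⟩) : T)
    rw [MulAut.mul_apply, MulAut.inv_def, MulEquiv.symm_apply_apply]
  have key : ∀ (R : Subgroup Ω) (hR : R ≤ T), TCentric F T R →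
      restr hR (T.subtype.comp (β ^ j).toMonoidHom) ∈ G.Hom R → β ^ j ∈ G.autGroup T := by
    intro R hR
    refine downward_induction (S := T) (motive := fun R => ∀ hR : R ≤ T, TCentric F T R →
      restr hR (T.subtype.comp (β ^ j).toMonoidHom) ∈ G.Hom R → β ^ j ∈ G.autGroup T) ?_ hR hR
    clear hR R
    intro R hR ih hR' hRc hmem
    rcases hR.eq_or_lt with rfl | hlt
    · exact (mem_autGroup G le_rfl).2 hmem
    exact ih (normalizerIn T R) (normalizerIn_le R)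
      (card_lt_of_lt (normalizerIn_le R) (lt_normalizerIn (hS.to_le hTS) hlt)) _
      (tCentric_mono hRc (le_normalizerIn hR) (normalizerIn_le R))
      (good_step hS hF hE (pow_mem hβ j) (pow_mem hΘ₀ j) (hpow j) hord hRc hmem)
  have h2 := key P hPT (tCentric_of_centric hE hP) hβjP
  have h3 := mul_mem ((G.autGroup T).inv_mem hδ) h2
  simpa using h3

end Cfsg.Agent.FusionAlperin
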