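import Cfsg.Agent.FusionAlperin.GoodExtension
import Cfsg.Agent.FusionAlperin.NormalResidual
import Cfsg.Agent.FusionAlperin.SeriesCriteria

/-!
Automorphisms of `R C_S(R)` acting trivially modulo `R`: those of order prime to `p` commute with
the centralizer system of `R`.
-/

set_option autoImplicit false

open Cfsg Cfsg.FusionSystem
open Cfsg.Agent.FusionSys

namespace Cfsg.Agent.FusionAlperin

universe u

variable {Ω : Type u} [Group Ω] {S T : Subgroup Ω} {p : ℕ} [Finite S] [Fact p.Prime]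

theorem isPGroup_moveSubgroup {C : FusionSystem S} {X Q : Subgroup Ω} [Finite Q]
    (hQ : IsPGroup p Q) (hfix : ∀ a ∈ C.autGroup X, ∀ z : X, (z : Ω) ∈ Q → a z = z) :
    IsPGroup p (moveSubgroup C X Q) := by
  obtain ⟨k, hk⟩ := hQ.exists_card_eq
  rintro ⟨a, ha⟩
  refine ⟨k, Subtype.ext (MulEquiv.ext fun x => ?_)⟩
  show (a ^ p ^ k) x = x
  have key : ∀ n : ℕ, ((a ^ n) x : Ω) = x * ((x : Ω)⁻¹ * (a x : Ω)) ^ n := by
    intro n
    induction n with
    | zero => simp
    | succ n ih =>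
      have hq : (x : Ω)⁻¹ * (a x : Ω) ∈ Q := ha.2 x
      have hqX : (x : Ω)⁻¹ * (a x : Ω) ∈ X := X.mul_mem (X.inv_mem x.2) (a x).2
      have e1 : (a ^ n) x = x * (⟨_, hqX⟩ : X) ^ n := Subtype.ext (by
        rw [ih, Subgroup.coe_mul, Subgroup.coe_pow])
      rw [pow_succ', MulAut.mul_apply, e1, map_mul, map_pow, hfix a ha.1 ⟨_, hqX⟩ hq,
        Subgroup.coe_mul, Subgroup.coe_pow, pow_succ']
      simp [mul_assoc]
  refine Subtype.ext ((key _).trans ?_)
  have h2 : (⟨_, ha.2 x⟩ : Q) ^ p ^ k = 1 := hk ▸ pow_card_eq_one'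
  have h3 := congrArg Subtype.val h2
  rw [Subgroup.coe_pow] at h3
  rw [h3]
  simp

theorem moveSubgroup_le_inner (hS : IsPGroup p S) {C : FusionSystem S} (hC : C.IsSaturated p)
    {X Q : Subgroup Ω} [Finite Q] (hX : C.IsFullyNormalized X) (hQ : IsPGroup p Q)
    (hfix : ∀ a ∈ C.autGroup X, ∀ z : X, (z : Ω) ∈ Q → a z = z) :
    moveSubgroup C X Q ≤ autInducedBy S X := by
  intro b hb
  have hn : ((moveSubgroup C X Q).subgroupOf (C.autGroup X)).Normal := by
    refine ⟨fun a ha c => ⟨mul_mem (mul_mem c.2 a.2) ((C.autGroup X).inv_mem c.2), fun x => ?_⟩⟩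
    have h := ha.2 ((c : MulAut X).symm x)
    set q : X := ((c : MulAut X).symm x)⁻¹ * (a : MulAut X) ((c : MulAut X).symm x) with hq
    have h2 := hfix c c.2 q h
    have e : ((c : MulAut X) * (a : MulAut X) * ((c : MulAut X))⁻¹) x = x * q := by
      rw [MulAut.mul_apply, MulAut.mul_apply, MulAut.inv_def]
      have e1 : (a : MulAut X) ((c : MulAut X).symm x) = (c : MulAut X).symm x * q := by
        rw [hq, mul_inv_cancel_left]
      rw [e1, map_mul, h2, MulEquiv.apply_symm_apply]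
    show (x : Ω)⁻¹ * ((((c : MulAut X) * (a : MulAut X) * ((c : MulAut X))⁻¹) x : X) : Ω) ∈ Q
    rw [e, Subgroup.coe_mul, inv_mul_cancel_left]
    exact h
  obtain ⟨-, R, hR⟩ := (saturated_fullyNormalized hS hC hX).2
  have hp : IsPGroup p ((moveSubgroup C X Q).subgroupOf (C.autGroup X)) :=
    (isPGroup_moveSubgroup hQ hfix).of_equiv
      (Subgroup.subgroupOfEquivOfLe
        (fun a ha => ha.1 : moveSubgroup C X Q ≤ C.autGroup X)).symm
  have hmem : (⟨b, hb.1⟩ : C.autGroup X) ∈ (R : Subgroup (C.autGroup X)) :=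
    hp.le_sylow_of_normal R hb
  rw [hR] at hmem
  exact hmem

variable {F : FusionSystem S}

/-- The displacement of an automorphism. -/
noncomputable def disp {U : Subgroup Ω} (A : MulAut U) (x : Ω) : Ω := x⁻¹ * autExt A x

omit [Finite S] [Fact p.Prime] in
theorem coprime_trivial {G : Type*} [Group G] {q : ℕ} {g : G} {m : ℕ} (hm : Nat.Coprime m q)
    (h1 : g ^ m = 1) {k : ℕ} (h2 : g ^ q ^ k = 1) : g = 1 := by
  have h : orderOf g ∣ Nat.gcd m (q ^ k) :=
    Nat.dvd_gcd (orderOf_dvd_of_pow_eq_one h1) (orderOf_dvd_of_pow_eq_one h2)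
  rw [Nat.Coprime.gcd_eq_one (hm.pow_right k)] at h
  exact orderOf_eq_one_iff.1 (Nat.dvd_one.1 h)

/-- A `p'`-automorphism of `R C_S(R)` trivial modulo `R` has displacement invariant under
`C_F(R)`. -/
theorem disp_invariant (hS : IsPGroup p S) (hF : F.IsSaturated p) {R : Subgroup Ω}
    (hR : F.IsFullyCentralized R) {A : MulAut ↥(R ⊔ centralizerIn S R)}
    (hA : A ∈ F.autGroup (R ⊔ centralizerIn S R))
    (hmove : ∀ y : ↥(R ⊔ centralizerIn S R), (y : Ω)⁻¹ * (A y : Ω) ∈ R)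
    (hord : Nat.Coprime (orderOf A) p) {X : Subgroup Ω} {φ : X →* Ω}
    (hφ : φ ∈ F.centralizerHom R X) (x : X) : disp A (φ x) = disp A x := by
  have hRS := hR.1
  have hUS : (R ⊔ centralizerIn S R) ≤ S := sup_le hRS (centralizerIn_le R)
  have hCU : centralizerIn S R ≤ (R ⊔ centralizerIn S R) := le_sup_right
  have : Finite R := finite_of_le ‹_› hRS
  have : Finite ↥(R ⊔ centralizerIn S R) := finite_of_le ‹_› hUS
  have hRU : R ≤ (R ⊔ centralizerIn S R) := le_sup_left
  have hAR : ∀ y : ↥(R ⊔ centralizerIn S R), (y : Ω) ∈ R → (A y : Ω) ∈ R := fun y hy => by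
    simpa using R.mul_mem hy (hmove y)
  have hAR' : ∀ r ∈ R, ∃ z : ↥(R ⊔ centralizerIn S R), (z : Ω) ∈ R ∧ (A z : Ω) = r := fun r hr => by
    refine ⟨A.symm ⟨r, hRU hr⟩, ?_, by rw [MulEquiv.apply_symm_apply]⟩
    have h := hmove (A.symm ⟨r, hRU hr⟩)
    rw [MulEquiv.apply_symm_apply] at h
    simpa using R.mul_mem hr (R.inv_mem h)
  have hAC : ∀ y : ↥(R ⊔ centralizerIn S R), (y : Ω) ∈ centralizerIn S R → (A y : Ω) ∈ centralizerIn S R := fun y hy => by
    refine ⟨hUS (A y).2, Subgroup.mem_centralizer_iff.2 fun r hr => ?_⟩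
    obtain ⟨z, hz, rfl⟩ := hAR' r hr
    rw [← Subgroup.coe_mul, ← Subgroup.coe_mul, ← map_mul, ← map_mul]
    exact congrArg (fun w => ((A w : ↥(R ⊔ centralizerIn S R)) : Ω))
      (Subtype.ext (Subgroup.mem_centralizer_iff.1 hy.2 _ hz))
  have hdR : ∀ y ∈ centralizerIn S R, disp A y ∈ R ∧ disp A y ∈ centralizerIn S R := fun y hy => by
    rw [disp, autExt_of_mem A (hCU hy)]
    exact ⟨hmove ⟨y, hCU hy⟩, (centralizerIn S R).mul_mem ((centralizerIn S R).inv_mem hy)
      (hAC ⟨y, hCU hy⟩ hy)⟩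
  have hmul : ∀ a ∈ centralizerIn S R, ∀ b ∈ centralizerIn S R,
      disp A (a * b) = disp A a * disp A b := fun a ha b hb => by
    have hc : b * disp A a = disp A a * b :=
      (Subgroup.mem_centralizer_iff.1 hb.2 _ (hdR a ha).1).symm
    have hab := (centralizerIn S R).mul_mem ha hb
    have e : autExt A (a * b) = autExt A a * autExt A b := by
      rw [autExt_of_mem A (hCU ha), autExt_of_mem A (hCU hb), autExt_of_mem A (hCU hab),
        ← Subgroup.coe_mul, ← map_mul]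
      rfl
    calc disp A (a * b) = b⁻¹ * (disp A a * b) * disp A b := by
          simp only [disp, e, mul_inv_rev]; group
      _ = disp A a * disp A b := by rw [← hc, inv_mul_cancel_left]
  have hcomm : ∀ a ∈ centralizerIn S R, ∀ b ∈ centralizerIn S R,
      disp A a * disp A b = disp A b * disp A a := fun a ha b hb =>
    Subgroup.mem_centralizer_iff.1 (hdR b hb).2.2 _ (hdR a ha).1
  have hconj : ∀ g ∈ centralizerIn S R, ∀ y ∈ centralizerIn S R,
      disp A (g * y * g⁻¹) = disp A y := fun g hg y hy => by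
    have hgy := (centralizerIn S R).mul_mem hg hy
    have hgi := (centralizerIn S R).inv_mem hg
    rw [hmul _ hgy _ hgi, hmul _ hg _ hy, hcomm g hg y hy, mul_assoc, ← hmul g hg _ hgi,
      mul_inv_cancel]
    have : disp A (1 : Ω) = 1 := by
      rw [disp, autExt_of_mem A (R ⊔ centralizerIn S R).one_mem]
      show (1 : Ω)⁻¹ * ((A 1 : ↥(R ⊔ centralizerIn S R)) : Ω) = 1
      simp
    rw [this, mul_one]
  set C := centSys F R hRS
  have hCS : IsPGroup p (centralizerIn S R) := hS.to_le (centralizerIn_le R)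
  have : Finite ↥(centralizerIn S R) := finite_of_le ‹_› (centralizerIn_le R)
  have hCsat : C.IsSaturated p := centralizerSystem_saturated hS hF hR (centSys_spec F R _)
  let V : FusionSystem (centralizerIn S R) :=
    subSystem C (fun X φ => ∀ x : X, disp A (φ x) = disp A x)
      (fun {P g} hP hg x => hconj g hg x (hP x.2))
      (fun _ _ a b h x => (b ⟨_, h x⟩).trans (a x))
      (fun {P φ} _ a ψ _ he y => by
        obtain ⟨x, hx⟩ := y.2
        have hy : y = ⟨φ x, x, rfl⟩ := Subtype.ext hx.symm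
        rw [hy, he x]
        exact (a x).symm)
  suffices h : C ≤ V from (h X hφ).2 x
  refine Cfsg.Agent.FusionBatch.le_of_centric_radical hCS hCsat _ fun X hXn hXc _ a ha => ?_
  clear! φ
  clear x
  have hXC : X ≤ centralizerIn S R := hXn.1
  have hXU : X ≤ (R ⊔ centralizerIn S R) := hXC.trans hCU
  have hXS : X ≤ S := hXU.trans hUS
  have : Finite X := finite_of_le ‹_› hXS
  have hfix : ∀ a ∈ C.autGroup X, ∀ z : X, (z : Ω) ∈ R → a z = z := fun a ha z hz => by
    obtain ⟨-, -, -, ψ, -, hψX, hψR⟩ := autGroup_mem_hom C hXC ha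
    exact Subtype.ext ((hψX z).symm.trans
      (Eq.trans (congrArg ψ (Subtype.ext rfl)) (hψR ⟨z, hz⟩)))
  have hZX : ∀ z ∈ R, z ∈ centralizerIn S R → z ∈ X := fun z hz hzc =>
    hXc.2 X (isConj_refl C hXC) ⟨hzc, Subgroup.mem_centralizer_iff.2 fun x hx =>
      (Subgroup.mem_centralizer_iff.1 (hXC hx).2 z hz).symm⟩
  have hAX : ∀ x : X, (A ⟨x, hXU x.2⟩ : Ω) ∈ X := fun x => by
    have hd := hdR x (hXC x.2)
    rw [disp, autExt_of_mem A (hXU x.2)] at hd
    simpa using X.mul_mem x.2 (hZX _ hd.1 hd.2)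
  have hAh := autGroup_mem_hom F hUS hA
  have hAXr := restr_mem F hXU hAh
  have hr : (restr hXU ((R ⊔ centralizerIn S R).subtype.comp A.toMonoidHom)).range = X :=
    range_eq_of_image_le (F.injective_of_mem hAXr)
      (by rintro _ ⟨x, rfl⟩; exact hAX x) le_rfl
  set AX : MulAut X := toIso F hAXr hr
  have hAXF : AX ∈ F.autGroup X := toIso_mem_autGroup F hAXr hr
  have hAXe : ∀ x : X, (AX x : Ω) = x * disp A x := fun x => by
    show (A ⟨x, hXU x.2⟩ : Ω) = _
    rw [disp, autExt_of_mem A (hXU x.2), mul_inv_cancel_left]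
  -- the conjugate of `a` lies in the centralizer system
  have hconjA : AX * a * AX⁻¹ ∈ C.autGroup X := by
    obtain ⟨-, -, -, ψ, hψ, hψX, hψR⟩ := autGroup_mem_hom C hXC ha
    refine (mem_autGroup C hXC).2
      ⟨autGroup_mem_hom F hXS (mul_mem (mul_mem hAXF ?_) ((F.autGroup X).inv_mem hAXF)), hXC,
        fun x => hXC ((AX * a * AX⁻¹) x).2, ?_⟩
    · exact (mem_autGroup F hXS).2 (autGroup_mem_hom C hXC ha).1
    have hsrc : X ⊔ R ≤ (R ⊔ centralizerIn S R) := sup_le hXU hRU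
    have hψv : ∀ y, ψ y ∈ X ⊔ R := fun y => range_le_sup_of_le ψ
      (fun y hy => Subgroup.mem_sup_left ((hψX ⟨y, hy⟩).symm ▸ (a ⟨y, hy⟩).2))
      (fun y hy => Subgroup.mem_sup_right ((hψR ⟨y, hy⟩).symm ▸ hy)) ⟨y, rfl⟩
    have hAi := restr_mem F hsrc (autGroup_mem_hom F hUS ((F.autGroup (R ⊔ centralizerIn S R)).inv_mem hA))
    have hv : ∀ y, restr hsrc ((R ⊔ centralizerIn S R).subtype.comp A⁻¹.toMonoidHom) y ∈ X ⊔ R := fun y =>
      range_le_sup_of_le (restr hsrc ((R ⊔ centralizerIn S R).subtype.comp A⁻¹.toMonoidHom))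
      (fun y hy => Subgroup.mem_sup_left (by
        obtain ⟨w, hw⟩ := AX.surjective ⟨y, hy⟩
        show ((A.symm ⟨y, _⟩ : ↥(R ⊔ centralizerIn S R)) : Ω) ∈ X
        have e : A ⟨w, hXU w.2⟩ = ⟨y, hXU hy⟩ := Subtype.ext (congrArg (fun v : X => (v : Ω)) hw :)
        rw [← e, MulEquiv.symm_apply_apply]
        exact w.2))
      (fun y hy => Subgroup.mem_sup_right (by
        obtain ⟨z, hz, hze⟩ := hAR' _ hy
        show ((A.symm ⟨y, _⟩ : ↥(R ⊔ centralizerIn S R)) : Ω) ∈ R
        have e : A z = ⟨y, hRU hy⟩ := Subtype.ext hze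
        rw [← e, MulEquiv.symm_apply_apply]
        exact hz)) ⟨y, rfl⟩
    refine ⟨_, F.comp_mem (F.comp_mem hAi hψ hv) hAh (fun y => hsrc (hψv _)), fun x => ?_,
      fun r => ?_⟩
    · show ((A ⟨ψ _, _⟩ : ↥(R ⊔ centralizerIn S R)) : Ω) = ((AX (a (AX.symm x)) : X) : Ω)
      refine congrArg (fun w => ((A w : ↥(R ⊔ centralizerIn S R)) : Ω)) (Subtype.ext ?_)
      refine Eq.trans (congrArg ψ (Subtype.ext ?_)) (hψX (AX.symm x))
      show ((A.symm ⟨x, _⟩ : ↥(R ⊔ centralizerIn S R)) : Ω) = (AX.symm x : Ω)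
      have e : A ⟨AX.symm x, hXU (AX.symm x).2⟩ = ⟨x, hXU x.2⟩ :=
        Subtype.ext (congrArg (fun v : X => (v : Ω)) (AX.apply_symm_apply x) :)
      rw [← e, MulEquiv.symm_apply_apply]
    · obtain ⟨z, hz, hze⟩ := hAR' r r.2
      show ((A ⟨ψ _, _⟩ : ↥(R ⊔ centralizerIn S R)) : Ω) = r
      refine Eq.trans (congrArg (fun w => ((A w : ↥(R ⊔ centralizerIn S R)) : Ω)) (Subtype.ext ?_)) hze
      refine Eq.trans (congrArg ψ (Subtype.ext ?_)) (hψR ⟨z, hz⟩)
      show ((A.symm ⟨r, _⟩ : ↥(R ⊔ centralizerIn S R)) : Ω) = z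
      have e : A z = ⟨r, hRU r.2⟩ := Subtype.ext hze
      rw [← e, MulEquiv.symm_apply_apply]
  set u := AX * a * AX⁻¹ * a⁻¹ with hudef
  have hu : u ∈ moveSubgroup C X R := by
    refine ⟨mul_mem hconjA ((C.autGroup X).inv_mem ha), fun x => ?_⟩
    obtain ⟨z, rfl⟩ := a.surjective x
    have e1 : u (a z) = AX (a (AX.symm z)) := by
      simp [hudef, MulAut.mul_apply, MulAut.inv_def]
    obtain ⟨w, rfl⟩ := AX.surjective z
    rw [e1, MulEquiv.symm_apply_apply]
    set q : X := w⁻¹ * AX w with hq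
    have hqR : (q : Ω) ∈ R := by
      rw [hq, Subgroup.coe_mul, Subgroup.coe_inv, hAXe, inv_mul_cancel_left]
      exact (hdR w (hXC w.2)).1
    have e2 : AX w = w * q := by rw [hq, mul_inv_cancel_left]
    rw [e2, map_mul, hfix a ha q hqR, Subgroup.coe_mul, hAXe, mul_inv_rev]
    have := R.mul_mem (R.inv_mem hqR) (hdR (a w) (hXC (a w).2)).1
    simpa [mul_assoc] using this
  have : Finite ↥R := finite_of_le ‹_› hRS
  obtain ⟨y, hy, hye⟩ :=
    mem_autInducedBy.1 (moveSubgroup_le_inner hCS hCsat hXn (hS.to_le hRS) hfix hu)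
  have hucomm : AX * u = u * AX := by
    refine MulEquiv.ext fun w => Subtype.ext ?_
    show ((AX (u w) : X) : Ω) = (u (AX w) : Ω)
    rw [hye (AX w)]
    show (A ⟨(u w : Ω), hXU (u w).2⟩ : Ω) = _
    have e : (⟨(u w : Ω), hXU (u w).2⟩ : ↥(R ⊔ centralizerIn S R)) = ⟨y, hCU hy⟩ * ⟨w, hXU w.2⟩ * ⟨y, hCU hy⟩⁻¹ :=
      Subtype.ext (hye w)
    rw [e, map_mul, map_mul, map_inv]
    show (A ⟨y, hCU hy⟩ : Ω) * (AX w : Ω) * (A ⟨y, hCU hy⟩ : Ω)⁻¹ = _
    have e2 : (A ⟨y, hCU hy⟩ : Ω) = y * disp A y := by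
      rw [disp, autExt_of_mem A (hCU hy), mul_inv_cancel_left]
    have hc : disp A y * (AX w : Ω) = (AX w : Ω) * disp A y :=
      Subgroup.mem_centralizer_iff.1 (hXC (AX w).2).2 _ (hdR y hy).1
    rw [e2, mul_inv_rev, mul_assoc y, hc]
    group
  have hiter : ∀ i : ℕ, AX ^ i * a = u ^ i * a * AX ^ i := by
    intro i
    induction i with
    | zero => simp
    | succ i ih =>
      have h1 : AX * a = u * a * AX := by rw [hudef]; group
      have h2 : AX * u ^ i = u ^ i * AX := (Commute.pow_right (hucomm : Commute AX u) i).eq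
      calc AX ^ (i + 1) * a = AX * (u ^ i * a * AX ^ i) := by rw [pow_succ', mul_assoc, ih]
        _ = AX * u ^ i * a * AX ^ i := by group
        _ = u ^ i * (AX * a) * AX ^ i := by rw [h2]; group
        _ = u ^ (i + 1) * a * AX ^ (i + 1) := by rw [h1, pow_succ, pow_succ']; group
  have hAXpow : AX ^ orderOf A = 1 := by
    have key : ∀ (i : ℕ) (w : X), ((AX ^ i) w : Ω) = (A ^ i) ⟨w, hXU w.2⟩ := by
      intro i
      induction i with
      | zero => intro w; rfl
      | succ i ih =>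
        intro w
        rw [pow_succ', pow_succ', MulAut.mul_apply, MulAut.mul_apply]
        exact congrArg (fun v => ((A v : ↥(R ⊔ centralizerIn S R)) : Ω)) (Subtype.ext (ih w))
    exact MulEquiv.ext fun w => Subtype.ext (by rw [key, pow_orderOf_eq_one]; rfl)
  have hum : u ^ orderOf A = 1 := by
    have h := hiter (orderOf A)
    rw [hAXpow, one_mul, mul_one] at h
    exact mul_eq_right.1 h.symm
  obtain ⟨k, hk⟩ := isPGroup_moveSubgroup (hS.to_le hRS) hfix ⟨u, hu⟩
  have hu1 : u = 1 := coprime_trivial hord hum (congrArg Subtype.val hk)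
  refine (mem_autGroup V hXC).2 ⟨autGroup_mem_hom C hXC ha, fun x => ?_⟩
  have hax : AX (a x) = a (AX x) := by
    have h1 := DFunLike.congr_fun hu1 (a (AX x))
    simpa [hudef, MulAut.mul_apply, MulAut.inv_def] using h1
  have h2 := congrArg Subtype.val hax
  set q : X := x⁻¹ * AX x with hq
  have hqd : (q : Ω) = disp A x := by
    rw [hq, Subgroup.coe_mul, Subgroup.coe_inv, hAXe, inv_mul_cancel_left]
  have e2 : AX x = x * q := by rw [hq, mul_inv_cancel_left]
  rw [e2, map_mul, hfix a ha q (hqd ▸ (hdR x (hXC x.2)).1), hAXe, Subgroup.coe_mul, hqd] at h2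
  exact mul_left_cancel h2

/-- Such an automorphism fixes an element moved only as `C_F(R)` moves it. -/
theorem fixed_of_centralizerHom (hS : IsPGroup p S) (hF : F.IsSaturated p) {R : Subgroup Ω}
    (hR : F.IsFullyCentralized R) {A : MulAut ↥(R ⊔ centralizerIn S R)}
    (hA : A ∈ F.autGroup (R ⊔ centralizerIn S R))
    (hmove : ∀ y : ↥(R ⊔ centralizerIn S R), (y : Ω)⁻¹ * (A y : Ω) ∈ R)
    (hord : Nat.Coprime (orderOf A) p) {c : Ω} {φ : Subgroup.zpowers c →* Ω}
    (hφ : φ ∈ F.centralizerHom R (Subgroup.zpowers c))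
    (hφc : φ ⟨c, Subgroup.mem_zpowers c⟩ = autExt A c) : autExt A c = c := by
  have hC := hφ.2.1 (Subgroup.mem_zpowers c)
  have hU : c ∈ R ⊔ centralizerIn S R := Subgroup.mem_sup_right hC
  have hRS := hR.1
  set r := disp A c with hrdef
  have hr1 : r ∈ R := by
    rw [hrdef, disp, autExt_of_mem A hU]
    exact hmove ⟨c, hU⟩
  have hAc : autExt A c = c * r := by rw [hrdef, disp, mul_inv_cancel_left]
  have hd := disp_invariant hS hF hR hA hmove hord hφ ⟨c, Subgroup.mem_zpowers c⟩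
  rw [hφc, hAc] at hd
  have hrU : r ∈ R ⊔ centralizerIn S R := Subgroup.mem_sup_left hr1
  have hfr : autExt A r = r := by
    change (c * r)⁻¹ * autExt A (c * r) = r at hd
    have e : autExt A (c * r) = autExt A c * autExt A r := by
      rw [autExt_of_mem A hU, autExt_of_mem A hrU,
        autExt_of_mem A ((R ⊔ centralizerIn S R).mul_mem hU hrU), ← Subgroup.coe_mul, ← map_mul]
      rfl
    rw [e, hAc] at hd
    simpa [mul_assoc] using hd
  set q : ↥(R ⊔ centralizerIn S R) := ⟨r, hrU⟩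
  have hAq : A q = q := Subtype.ext ((autExt_of_mem A hrU).symm.trans hfr)
  have hit : ∀ i : ℕ, (A ^ i) ⟨c, hU⟩ = ⟨c, hU⟩ * q ^ i := by
    intro i
    induction i with
    | zero => simp
    | succ i ih =>
      rw [pow_succ', MulAut.mul_apply, ih, map_mul, map_pow, hAq, pow_succ', ← mul_assoc]
      congr 1
      exact Subtype.ext ((autExt_of_mem A hU).symm.trans hAc)
  have h1 : q ^ orderOf A = 1 := by
    have h := hit (orderOf A)
    rw [pow_orderOf_eq_one, MulAut.one_apply] at h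
    exact left_eq_mul.1 h
  obtain ⟨k, hk⟩ := hS ⟨r, hRS hr1⟩
  have h2 : q ^ p ^ k = 1 := by
    have h3 := congrArg Subtype.val hk
    rw [Subgroup.coe_pow] at h3
    exact Subtype.ext (((R ⊔ centralizerIn S R).coe_pow q _).trans h3)
  have hq1 := congrArg Subtype.val (coprime_trivial hord h1 h2)
  rw [hAc, show r = 1 from hq1, mul_one]

/-- The automorphisms of `R` with a lift to `R C_S(R)` trivial modulo `R`. -/
def goodLift (F : FusionSystem S) (R : Subgroup Ω) : Subgroup (MulAut R) where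
  carrier := {a | ∃ A ∈ F.autGroup (R ⊔ centralizerIn S R),
    (∀ x : R, (A ⟨x, Subgroup.mem_sup_left x.2⟩ : Ω) = a x) ∧
    ∀ y : ↥(R ⊔ centralizerIn S R), (y : Ω)⁻¹ * (A y : Ω) ∈ R}
  one_mem' := ⟨1, one_mem _, fun _ => rfl, fun y => by simp⟩
  mul_mem' := by
    rintro a b ⟨A, hA, hAa, hAm⟩ ⟨B, hB, hBb, hBm⟩
    refine ⟨A * B, mul_mem hA hB, fun x => ?_, fun y => ?_⟩
    · rw [MulAut.mul_apply, MulAut.mul_apply]
      exact (congrArg (fun w => ((A w : ↥(R ⊔ centralizerIn S R)) : Ω))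
        (Subtype.ext (hBb x) : B ⟨x, _⟩ = ⟨b x, Subgroup.mem_sup_left (b x).2⟩)).trans (hAa (b x))
    · have h := R.mul_mem (hBm y) (hAm (B y))
      simpa [mul_assoc] using h
  inv_mem' := by
    rintro a ⟨A, hA, hAa, hAm⟩
    refine ⟨A⁻¹, (F.autGroup _).inv_mem hA, fun x => ?_, fun y => ?_⟩
    · have e : A ⟨(a.symm x : R), Subgroup.mem_sup_left (a.symm x).2⟩ =
          ⟨x, Subgroup.mem_sup_left x.2⟩ := Subtype.ext (by rw [hAa, MulEquiv.apply_symm_apply])
      show ((A.symm _ : ↥(R ⊔ centralizerIn S R)) : Ω) = (a.symm x : R)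
      rw [← e, MulEquiv.symm_apply_apply]
    · have h := R.inv_mem (hAm (A.symm y))
      simpa using h

theorem exists_coprime_lift {R : Subgroup Ω} {a : MulAut R} (ha : a ∈ goodLift F R)
    (hord : Nat.Coprime (orderOf a) p) (hUS : R ⊔ centralizerIn S R ≤ S) :
    ∃ A ∈ F.autGroup (R ⊔ centralizerIn S R),
      (∀ x : R, (A ⟨x, Subgroup.mem_sup_left x.2⟩ : Ω) = a x) ∧
      (∀ y : ↥(R ⊔ centralizerIn S R), (y : Ω)⁻¹ * (A y : Ω) ∈ R) ∧
      Nat.Coprime (orderOf A) p := by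
  obtain ⟨A, hA, hAa, hAm⟩ := ha
  have : Finite ↥(R ⊔ centralizerIn S R) := finite_of_le ‹_› hUS
  obtain ⟨k, e, m, ho, hmp, hek, hk1⟩ :=
    exists_exponent (o := orderOf A) (orderOf_pos A).ne' (Fact.out : p.Prime) hord
  refine ⟨A ^ k, pow_mem hA k, fun x => ?_, ?_, Nat.Coprime.coprime_dvd_left
    (orderOf_dvd_of_pow_eq_one (n := m) ?_) hmp⟩
  · have hpow : ∀ (i : ℕ) (x : R),
        ((A ^ i) ⟨x, Subgroup.mem_sup_left x.2⟩ : Ω) = (a ^ i) x := by
      intro i
      induction i with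
      | zero => intro x; rfl
      | succ i ih =>
        intro x
        rw [pow_succ', pow_succ', MulAut.mul_apply, MulAut.mul_apply]
        exact (congrArg (fun w => ((A w : ↥(R ⊔ centralizerIn S R)) : Ω))
          (Subtype.ext (ih x) : (A ^ i) ⟨x, _⟩ =
            ⟨(a ^ i) x, Subgroup.mem_sup_left (Subtype.mem _)⟩)).trans (hAa ((a ^ i) x))
    rw [hpow]
    have : a ^ k = a := by
      conv_rhs => rw [← pow_one a]
      exact pow_eq_pow_iff_modEq.2 hk1
    rw [this]
  · clear hek hk1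
    intro y
    induction k with
    | zero => simp
    | succ i ih =>
      rw [pow_succ', MulAut.mul_apply]
      simpa [mul_assoc] using R.mul_mem ih (hAm ((A ^ i) y))
  · obtain ⟨l, rfl⟩ := hek
    rw [← pow_mul, show p ^ e * l * m = orderOf A * l by rw [ho]; ring, pow_mul, pow_orderOf_eq_one,
      one_pow]

omit [Finite S] in
/-- A finite group is generated by a Sylow subgroup and its elements of order prime to `p`. -/
theorem le_of_sylow_pprime {G : Type*} [Group G] {P O K : Subgroup G} [Finite O]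
    (hP : SylIn p P O) (hPK : P ≤ K) (hK : ∀ x ∈ O, Nat.Coprime (orderOf x) p → x ∈ K) :
    O ≤ K := by
  set H : Subgroup O := Subgroup.closure {x : O | Nat.Coprime (orderOf x) p}
  have hHK : H ≤ K.subgroupOf O := (Subgroup.closure_le _).2 fun x hx => by
    refine hK x x.2 ?_
    rw [Subgroup.orderOf_coe]
    exact hx
  have hHn : H.Normal := by
    refine ⟨fun n hn g => ?_⟩
    induction hn using Subgroup.closure_induction with
    | mem x hx =>
      refine Subgroup.subset_closure ?_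
      show Nat.Coprime (orderOf (g * x * g⁻¹)) p
      rw [show g * x * g⁻¹ = MulAut.conj g x from rfl, MulEquiv.orderOf_eq]
      exact hx
    | one => simp
    | mul a b _ _ ha hb => simpa [mul_assoc] using H.mul_mem ha hb
    | inv a _ ha => simpa [mul_assoc] using H.inv_mem ha
  obtain ⟨-, T₀, hT₀⟩ := hP
  set J : Subgroup O := (T₀ : Subgroup O) ⊔ H
  have hJK : J ≤ K.subgroupOf O := sup_le (hT₀ ▸ fun x hx => hPK hx) hHK
  have hq : IsPGroup p (O ⧸ H) := by
    intro q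
    obtain ⟨x, rfl⟩ := QuotientGroup.mk'_surjective H q
    obtain ⟨a, m, hm, ho⟩ := Nat.exists_eq_pow_mul_and_not_dvd (orderOf_pos x).ne' p
      (Fact.out : p.Prime).ne_one
    refine ⟨a, ?_⟩
    rw [← map_pow]
    refine (QuotientGroup.eq_one_iff _).2 (Subgroup.subset_closure ?_)
    show Nat.Coprime (orderOf (x ^ p ^ a)) p
    refine Nat.Coprime.coprime_dvd_left (orderOf_dvd_of_pow_eq_one (n := m) ?_)
      (((Fact.out : p.Prime).coprime_iff_not_dvd).2 hm).symm
    rw [← pow_mul, ← ho, pow_orderOf_eq_one]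
  have h1 : J.index ∣ (T₀ : Subgroup O).index := Subgroup.index_dvd_of_le le_sup_left
  have h2 : J.index ∣ H.index := Subgroup.index_dvd_of_le le_sup_right
  obtain ⟨n, hn⟩ := hq.exists_card_eq
  rw [Subgroup.index_eq_card H, hn] at h2
  have hJ : J = ⊤ := by
    refine Subgroup.index_eq_one.1 ?_
    obtain ⟨j, -, hj⟩ := (Nat.dvd_prime_pow (Fact.out : p.Prime)).1 h2
    rcases j with _ | j
    · simpa using hj
    · exact absurd ((dvd_pow_self p j.succ_ne_zero).trans (hj ▸ h1)) T₀.not_dvd_index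
  intro x hx
  exact hJK (hJ.ge (Subgroup.mem_top (⟨x, hx⟩ : O)))

/-- The `p`-elements of the automizer in a weakly normal subsystem have good lifts. -/
theorem pElem_le_goodLift (hS : IsPGroup p S) (hF : F.IsSaturated p) {E : FusionSystem T}
    (hE : E.IsInvariantIn F) (hEs : E.IsSaturated p) {R : Subgroup Ω} (hR : F.IsFullyNormalized R)
    (hRc : TCentric F T R) : pElemGroup E p R ≤ goodLift F R := by
  have hT := hE.2.1
  have hTS := hT.1
  have : Finite T := finite_of_le ‹_› hTS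
  have hRS := hR.1
  have hrec := saturated_fullyCentralized hS hF (saturated_fullyNormalized hS hF hR).1
  set U := R ⊔ centralizerIn S R
  have hUS : U ≤ S := sup_le hRS (centralizerIn_le R)
  have : Finite U := finite_of_le ‹_› hUS
  rw [pElemGroup, Subgroup.map_le_iff_le_comap, Subgroup.closure_le]
  rintro a ⟨k, hk⟩
  have hRE : E.IsFullyNormalized R := by
    refine ⟨hRc.1, fun Q ⟨φ, hφ, h⟩ => ?_⟩
    have hQF : F.IsConj Q R := isConj_symm ⟨φ, hE.1 R hφ, h⟩
    obtain ⟨θ, hθ, hθN, -⟩ := exists_normalizer_map_fullyNormalized hS hF hR hQF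
    have : Finite ↥(normalizerIn T R) := finite_of_le ‹_› (normalizerIn_le R)
    have hle : normalizerIn T Q ≤ normalizerIn S Q := inf_le_inf_right _ hTS
    refine Nat.card_le_card_of_injective (fun g : ↥(normalizerIn T Q) =>
      (⟨θ (Subgroup.inclusion hle g), sc_map_mem hT hθ g.2.1, (hθN _).2⟩ : ↥(normalizerIn T R)))
      fun x y h => ?_
    exact Subgroup.inclusion_injective hle (F.injective_of_mem hθ (congrArg Subtype.val h :))
  have hbp : IsPGroup p (Subgroup.zpowers (a : MulAut R)) := by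
    refine IsPGroup.of_card (n := k) ?_
    rw [Nat.card_zpowers, Subgroup.orderOf_coe, hk]
  obtain ⟨χ, hχ, hconj⟩ := exists_conj_le_autInducedBy
    (saturated_fullyNormalized (hS.to_le hTS) hEs hRE).2 hbp (Subgroup.zpowers_le.2 a.2)
  obtain ⟨t, ht, hte⟩ := mem_autInducedBy.1 (hconj a (Subgroup.mem_zpowers _))
  have hχF : χ ∈ F.autGroup R :=
    (mem_autGroup F hRS).2 (hE.1 R (autGroup_mem_hom E hRc.1 hχ))
  obtain ⟨ψ, hψ, hψe⟩ := exists_ext_aut' hrec hχF (le_sup_left : R ≤ U)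
    (sup_le (le_normalizerIn hRS) (centralizerIn_le_normalizerIn R))
    (sup_le (le_carried_self F hRS χ) (centralizer_le_carried R χ))
  have hψr : ψ.range = U := by
    refine range_eq_of_image_le (F.injective_of_mem hψ) (range_le_sup_of_le ψ
      (fun x hx => Subgroup.mem_sup_left ((hψe ⟨x, hx⟩).symm ▸ (χ ⟨x, hx⟩).2))
      fun x hx => Subgroup.mem_sup_right ⟨map_mem_S F hψ x,
        Subgroup.mem_centralizer_iff.2 fun r hr => ?_⟩) le_rfl
    obtain ⟨r', hr'⟩ := χ.surjective ⟨r, hr⟩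
    have e : r = ψ (Subgroup.inclusion le_sup_left r') := by rw [hψe, hr']
    rw [e, ← map_mul, ← map_mul]
    exact congrArg ψ (Subtype.ext (Subgroup.mem_centralizer_iff.1 hx.2 _ r'.2))
  set B := toIso F hψ hψr
  have hB : B ∈ F.autGroup U := toIso_mem_autGroup F hψ hψr
  have htR : t ∈ Subgroup.normalizer (R : Set Ω) :=
    mem_normalizer_of_conj_eq (χ * (a : MulAut R) * χ⁻¹) fun x => hte x
  have key : ∀ g : Ω, g ∈ S → g ∈ Subgroup.normalizer (R : Set Ω) →
      ∀ c ∈ centralizerIn S R, g * c * g⁻¹ ∈ centralizerIn S R := by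
    intro g hgS hg c hc
    refine ⟨S.mul_mem (S.mul_mem hgS hc.1) (S.inv_mem hgS),
      Subgroup.mem_centralizer_iff.2 fun r hr => ?_⟩
    have h1 := (Subgroup.mem_normalizer_iff.1 ((Subgroup.normalizer _).inv_mem hg) r).1 hr
    rw [inv_inv] at h1
    calc r * (g * c * g⁻¹) = g * ((g⁻¹ * r * g) * c) * g⁻¹ := by group
      _ = g * (c * (g⁻¹ * r * g)) * g⁻¹ := by rw [Subgroup.mem_centralizer_iff.1 hc.2 _ h1]
      _ = g * c * g⁻¹ * r := by group
  have htU : t ∈ Subgroup.normalizer (U : Set Ω) := by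
    refine mem_normalizer_sup htR ?_
    refine Subgroup.mem_normalizer_iff.2 fun x => ⟨key t (hTS ht) htR x, fun hx => ?_⟩
    have := key t⁻¹ (S.inv_mem (hTS ht)) ((Subgroup.normalizer _).inv_mem htR) _ hx
    simpa [mul_assoc] using this
  set ct := U.normalizerMonoidHom ⟨t, htU⟩
  have hct : ct ∈ F.autGroup U :=
    autInducedBy_le_autGroup F hUS (mem_autInducedBy.2 ⟨t, hTS ht, fun _ => rfl⟩)
  refine ⟨B⁻¹ * ct * B, mul_mem (mul_mem ((F.autGroup U).inv_mem hB) hct) hB, fun x => ?_, ?_⟩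
  · have h1 : ct (B ⟨x, Subgroup.mem_sup_left x.2⟩) =
        B ⟨(a : MulAut R) x, Subgroup.mem_sup_left ((a : MulAut R) x).2⟩ := by
      refine Subtype.ext ?_
      have h3 := hte (χ x)
      simp only [MulAut.mul_apply, MulAut.inv_def, MulEquiv.symm_apply_apply] at h3
      show t * ψ _ * t⁻¹ = ψ _
      rw [show ψ ⟨x, Subgroup.mem_sup_left x.2⟩ = χ x from hψe x,
        show ψ ⟨(a : MulAut R) x, Subgroup.mem_sup_left ((a : MulAut R) x).2⟩ =
          χ ((a : MulAut R) x) from hψe _]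
      exact h3.symm
    show ((B.symm (ct (B _)) : U) : Ω) = _
    rw [h1, MulEquiv.symm_apply_apply]
    rfl
  · intro y
    set K := B⁻¹ * ct * B with hKdef
    have hKT : ∀ y : U, (y : Ω)⁻¹ * (K y : Ω) ∈ T := by
      intro y
      have hz : ((B y : U) : Ω)⁻¹ * (ct (B y) : Ω) ∈ T := by
        show ((B y : U) : Ω)⁻¹ * (t * (B y : Ω) * t⁻¹) ∈ T
        have hzS : ((B y : U) : Ω)⁻¹ ∈ S := S.inv_mem (hUS (B y).2)
        have h1 := T.mul_mem (sc_conj_mem hT hzS ht) (T.inv_mem ht)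
        simpa [mul_assoc] using h1
      have hBi := autGroup_mem_hom F hUS ((F.autGroup U).inv_mem hB)
      have h2 := sc_map_mem hT hBi (x := (B y)⁻¹ * ct (B y)) hz
      simp only [MonoidHom.coe_comp, MulEquiv.coe_toMonoidHom, Function.comp_apply,
        Subgroup.coe_subtype] at h2
      simpa [hKdef, MulAut.inv_def] using h2
    have hKF : K ∈ F.autGroup U := mul_mem (mul_mem ((F.autGroup U).inv_mem hB) hct) hB
    have hKR : ∀ z : U, (z : Ω) ∈ R → (K z : Ω) ∈ R := fun z hz => by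
      have h1 : ((B z : U) : Ω) ∈ R := by
        show ψ z ∈ R
        exact (hψe ⟨z, hz⟩).symm ▸ (χ ⟨z, hz⟩).2
      have h2 : (ct (B z) : Ω) ∈ R := (Subgroup.mem_normalizer_iff.1 htR _).1 h1
      obtain ⟨w, hw⟩ := χ.surjective ⟨_, h2⟩
      have e : ct (B z) = B ⟨w, Subgroup.mem_sup_left w.2⟩ :=
        Subtype.ext ((congrArg Subtype.val hw).symm.trans (hψe w).symm)
      show ((B.symm (ct (B z)) : U) : Ω) ∈ R
      rw [e, MulEquiv.symm_apply_apply]
      exact w.2
    obtain ⟨r, hr, c, hc, hy⟩ := exists_mul_of_mem_sup (T := R) (K := centralizerIn S R)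
      (fun x hx b hb => Subgroup.mem_centralizer_iff.1 hb.2 x hx) y.2
    have e : y = ⟨r, Subgroup.mem_sup_left hr⟩ * ⟨c, Subgroup.mem_sup_right hc⟩ := Subtype.ext hy
    have hcc : (c : Ω)⁻¹ * (K ⟨c, Subgroup.mem_sup_right hc⟩ : Ω) ∈ R := by
      refine isConj_rfl_T hT hRc ⟨hKT ⟨c, _⟩, (Subgroup.centralizer _).mul_mem
        ((Subgroup.centralizer _).inv_mem hc.2) (Subgroup.mem_centralizer_iff.2 fun z hz => ?_)⟩
      have hKh := autGroup_mem_hom F hUS hKF
      have hKr := restr_mem F (le_sup_left : R ≤ U) hKh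
      have : Finite R := finite_of_le ‹_› hRS
      have hr := range_eq_of_image_le (F.injective_of_mem hKr) (Q := R)
        (by rintro _ ⟨w, rfl⟩; exact hKR (Subgroup.inclusion le_sup_left w) w.2) le_rfl
      obtain ⟨w, rfl⟩ := hr.ge hz
      show ((K _ : U) : Ω) * _ = _ * ((K _ : U) : Ω)
      rw [← Subgroup.coe_mul, ← Subgroup.coe_mul, ← map_mul, ← map_mul]
      exact congrArg (fun v => ((K v : U) : Ω))
        (Subtype.ext (Subgroup.mem_centralizer_iff.1 hc.2 _ w.2))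
    have hrr : (r : Ω)⁻¹ * (K ⟨r, Subgroup.mem_sup_left hr⟩ : Ω) ∈ R :=
      R.mul_mem (R.inv_mem hr) (hKR ⟨r, _⟩ hr)
    rw [e, map_mul, Subgroup.coe_mul, Subgroup.coe_mul]
    have hcomm : c⁻¹ * ((r : Ω)⁻¹ * (K ⟨r, Subgroup.mem_sup_left hr⟩ : Ω)) =
        ((r : Ω)⁻¹ * (K ⟨r, Subgroup.mem_sup_left hr⟩ : Ω)) * c⁻¹ :=
      (Subgroup.mem_centralizer_iff.1 ((Subgroup.centralizer _).inv_mem hc.2) _ hrr).symm
    have := R.mul_mem hrr hcc
    rw [show (r * c)⁻¹ * ((K ⟨r, Subgroup.mem_sup_left hr⟩ : Ω) *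
      (K ⟨c, Subgroup.mem_sup_right hc⟩ : Ω)) = c⁻¹ * ((r : Ω)⁻¹ *
        (K ⟨r, Subgroup.mem_sup_left hr⟩ : Ω)) * (K ⟨c, Subgroup.mem_sup_right hc⟩ : Ω) by group,
      hcomm, mul_assoc]
    exact this

end Cfsg.Agent.FusionAlperin
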