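import Cfsg.Agent.FusionAlperin.CompareCentric
import Cfsg.Agent.FusionAlperin.GoodLift
import Cfsg.Agent.FusionAlperin.SubgroupSystem
import Cfsg.Agent.Cores.Basic
import Cfsg.Agent.S5118
import Mathlib.GroupTheory.Focal

/-!
Normal subsystems of the fusion system of a group `G` with `C_G(O_p(G)) ≤ O_p(G)` come from
normal subgroups of `G`.
-/

set_option autoImplicit false

open Cfsg Cfsg.FusionSystem
open Cfsg.Agent.FusionSys

namespace Cfsg.Agent.FusionAlperin

universe u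

variable {G : Type u} [Group G]

/-- `g` moves the elements of `W` only by elements of `R`. -/
def Moves (R W : Subgroup G) (g : G) : Prop := ∀ w ∈ W, g * w * g⁻¹ * w⁻¹ ∈ R

theorem Moves.one {R W : Subgroup G} : Moves R W (1 : G) := fun w _ => by simp

theorem Moves.mul {R W : Subgroup G} [hR : R.Normal] {g h : G} (hg : Moves R W g)
    (hh : Moves R W h) : Moves R W (g * h) := fun w hw => by
  have := R.mul_mem (hR.conj_mem _ (hh w hw) g) (hg w hw)
  have e : g * h * w * (g * h)⁻¹ * w⁻¹ =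
      g * (h * w * h⁻¹ * w⁻¹) * g⁻¹ * (g * w * g⁻¹ * w⁻¹) := by group
  rwa [e]

theorem Moves.pow {R W : Subgroup G} [R.Normal] {g : G} (hg : Moves R W g) (n : ℕ) :
    Moves R W (g ^ n) := by
  induction n with
  | zero => rw [pow_zero]; exact Moves.one
  | succ n ih => rw [pow_succ]; exact ih.mul hg

/-- The elements moving the elements of `W` only by elements of `R`. -/
def moveGroup (R W : Subgroup G) [hR : R.Normal] [hW : W.Normal] : Subgroup G where
  carrier := {g | Moves R W g}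
  one_mem' := Moves.one
  mul_mem' := fun hg hh => hg.mul hh
  inv_mem' := by
    intro g hg w hw
    have h1 := R.inv_mem (hg (g⁻¹ * w * g) (by simpa using hW.conj_mem w hw g⁻¹))
    have e : g⁻¹ * w * g⁻¹⁻¹ * w⁻¹ = (g * (g⁻¹ * w * g) * g⁻¹ * (g⁻¹ * w * g)⁻¹)⁻¹ := by group
    rwa [e]

theorem moveGroup_conj {R W : Subgroup G} [hR : R.Normal] [hW : W.Normal] {g : G}
    (hg : g ∈ moveGroup R W) (x : G) : x * g * x⁻¹ ∈ moveGroup R W := fun w hw => by
  have h1 := hR.conj_mem _ (hg (x⁻¹ * w * x) (by simpa using hW.conj_mem w hw x⁻¹)) x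
  have e : x * g * x⁻¹ * w * (x * g * x⁻¹)⁻¹ * w⁻¹ =
      x * (g * (x⁻¹ * w * x) * g⁻¹ * (x⁻¹ * w * x)⁻¹) * x⁻¹ := by group
  rwa [e]

/-- A `p'`-element `x` moving `q` by `c` modulo `R`, where `c` is a `p`-element fixed by `x`
modulo `R`, moves `q` inside `R`. -/
theorem mem_of_coprime_move {p : ℕ} {R : Subgroup G} [R.Normal] {x q c : G} {k : ℕ}
    (hx : Nat.Coprime (orderOf x) p) (hc : c ^ p ^ k = 1)
    (h1 : x * q * x⁻¹ * q⁻¹ * c⁻¹ ∈ R) (h2 : x * c * x⁻¹ * c⁻¹ ∈ R) : c ∈ R := by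
  set π := QuotientGroup.mk' R
  have e1 : π x * π q * (π x)⁻¹ = π c * π q := by
    have h := (QuotientGroup.eq_one_iff (N := R) _).2 h1
    change π (x * q * x⁻¹ * q⁻¹ * c⁻¹) = 1 at h
    simp only [map_mul, map_inv] at h
    rw [mul_inv_eq_one, mul_inv_eq_iff_eq_mul] at h
    exact h
  have e2 : π x * π c * (π x)⁻¹ = π c := by
    have h := (QuotientGroup.eq_one_iff (N := R) _).2 h2
    change π (x * c * x⁻¹ * c⁻¹) = 1 at h
    simp only [map_mul, map_inv] at h
    exact mul_inv_eq_one.1 h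
  have hit : ∀ n : ℕ, π x ^ n * π q * (π x ^ n)⁻¹ = π c ^ n * π q := by
    intro n
    induction n with
    | zero => simp
    | succ n ih =>
      have e3 : π x * π c ^ n * (π x)⁻¹ = π c ^ n := by rw [← conj_pow, e2]
      calc π x ^ (n + 1) * π q * (π x ^ (n + 1))⁻¹
          = π x * (π x ^ n * π q * (π x ^ n)⁻¹) * (π x)⁻¹ := by rw [pow_succ']; group
        _ = (π x * π c ^ n * (π x)⁻¹) * (π x * π q * (π x)⁻¹) := by rw [ih]; group
        _ = π c ^ (n + 1) * π q := by rw [e3, e1, ← mul_assoc, ← pow_succ]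
  have h3 : π c ^ orderOf x = 1 := by
    have h := hit (orderOf x)
    rw [← map_pow, pow_orderOf_eq_one, map_one] at h
    simpa using h.symm
  have h4 : π c ^ p ^ k = 1 := by rw [← map_pow, hc, map_one]
  exact (QuotientGroup.eq_one_iff c).1 (coprime_trivial hx h3 h4)

variable [Finite G] {p : ℕ} [Fact p.Prime]

/-- A power of `g` of order prime to `p` with the same image, if the image has such order. -/
theorem exists_coprime_pow {H : Type*} [Group H] (f : G →* H) {g : G}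
    (h : Nat.Coprime (orderOf (f g)) p) :
    ∃ k : ℕ, Nat.Coprime (orderOf (g ^ k)) p ∧ f (g ^ k) = f g := by
  obtain ⟨k, a, m, ho, hmp, hak, hk1⟩ :=
    exists_exponent (o := orderOf g) (orderOf_pos g).ne' (Fact.out : p.Prime) h
  refine ⟨k, Nat.Coprime.coprime_dvd_left (orderOf_dvd_of_pow_eq_one (n := m) ?_) hmp, ?_⟩
  · obtain ⟨l, rfl⟩ := hak
    rw [← pow_mul, show p ^ a * l * m = orderOf g * l by rw [ho]; ring, pow_mul,
      pow_orderOf_eq_one, one_pow]
  · rw [map_pow]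
    conv_rhs => rw [← pow_one (f g)]
    exact pow_eq_pow_iff_modEq.2 hk1

section Setup

variable (S : Sylow p G) {T : Subgroup G} {E : FusionSystem T}

local notation "𝓕" => Cfsg.groupFusionSystem (S : Subgroup G)
local notation "𝓠" => Cfsg.pCore p G

theorem groupSystem_saturated : (𝓕).IsSaturated p :=
  saturated_of_realized (groupFusionSystem_isRealizedBy (S : Subgroup G)) S
    (Subgroup.range_subtype _).symm

theorem pCore_le_of_sylow : 𝓠 ≤ (S : Subgroup G) :=
  Cores.pCore_isPGroup.le_sylow_of_normal S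

theorem conj_mem_hom {P : Subgroup G} (hP : P ≤ (S : Subgroup G)) {g : G}
    (h : ∀ x ∈ P, g * x * g⁻¹ ∈ (S : Subgroup G)) : Cfsg.conjHom P g ∈ (𝓕).Hom P :=
  ⟨hP, fun x => h x x.2, g, fun _ => rfl⟩

theorem sc_conj_group (hT : (𝓕).StronglyClosed T) {t g : G} (ht : t ∈ T)
    (h : g * t * g⁻¹ ∈ (S : Subgroup G)) : g * t * g⁻¹ ∈ T := by
  have hz : Subgroup.zpowers t ≤ T := Subgroup.zpowers_le.2 ht
  refine hT.2 _ hz _ (conj_mem_hom S (hz.trans hT.1) (fun x hx => ?_))
    ⟨t, Subgroup.mem_zpowers t⟩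
  obtain ⟨n, rfl⟩ := hx
  show g * t ^ n * g⁻¹ ∈ (S : Subgroup G)
  rw [← conj_zpow]
  exact zpow_mem h n

theorem inf_pCore_normal (hT : (𝓕).StronglyClosed T) : (T ⊓ 𝓠).Normal := by
  refine ⟨fun r hr g => ?_⟩
  have hQ : g * r * g⁻¹ ∈ 𝓠 := (inferInstance : (𝓠).Normal).conj_mem r hr.2 g
  exact ⟨sc_conj_group S hT hr.1 (pCore_le_of_sylow S hQ), hQ⟩

/-- The elements acting on `R` as `E` and on `O_p(G)` trivially modulo `R`. -/
def actGroup (p : ℕ) {T : Subgroup G} (E : FusionSystem T) (R : Subgroup G) [R.Normal] :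
    Subgroup G :=
  moveGroup R (Cfsg.pCore p G) ⊓ (E.autGroup R).comap MulAut.conjNormal

variable {R : Subgroup G} [R.Normal]

omit [Finite G] [Fact p.Prime] in
theorem conjNormal_eq_one_of {z : G} (hz : z ∈ Subgroup.centralizer (R : Set G)) :
    MulAut.conjNormal (H := R) z = 1 := by
  ext x
  rw [MulAut.conjNormal_apply, MulAut.one_apply,
    ← Subgroup.mem_centralizer_iff.1 hz x x.2, mul_inv_cancel_right]

omit [Finite G] [Fact p.Prime] in
theorem mem_centralizer_of_conjNormal {z : G} (hz : MulAut.conjNormal (H := R) z = 1) :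
    z ∈ Subgroup.centralizer (R : Set G) := by
  refine Subgroup.mem_centralizer_iff.2 fun x hx => ?_
  have h := congrArg (fun a : MulAut R => ((a ⟨x, hx⟩ : R) : G)) hz
  simp only [MulAut.conjNormal_apply, MulAut.one_apply] at h
  exact (mul_inv_eq_iff_eq_mul.1 h).symm

variable (hG : Subgroup.centralizer ((Cfsg.pCore p G : Subgroup G) : Set G) ≤ Cfsg.pCore p G)
  (hE : E.IsInvariantIn (Cfsg.groupFusionSystem (S : Subgroup G))) (hEs : E.IsSaturated p)
  (hRe : R = T ⊓ Cfsg.pCore p G)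

omit [Finite G] [Fact p.Prime] in
include hG in
theorem mem_pCore_of_moves [Finite G] [Fact p.Prime] (hRQ : R ≤ 𝓠) {g : G}
    (hg : g ∈ moveGroup R (Cfsg.pCore p G)) (hz : MulAut.conjNormal (H := R) g = 1) :
    g ∈ 𝓠 := by
  set M := moveGroup R (Cfsg.pCore p G) ⊓ (MulAut.conjNormal (H := R)).ker with hM
  have hMn : M.Normal := ⟨fun a ha x =>
    ⟨moveGroup_conj ha.1 x, (inferInstance : ((MulAut.conjNormal (H := R)).ker).Normal).conj_mem
      a ha.2 x⟩⟩
  have hMp : IsPGroup p M := by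
    rintro ⟨a, ha, ha1⟩
    obtain ⟨k, hk⟩ := (Cores.pCore_isPGroup.to_le hRQ).exists_card_eq
    have hc : a ^ p ^ k ∈ Subgroup.centralizer ((Cfsg.pCore p G : Subgroup G) : Set G) := by
      refine Subgroup.mem_centralizer_iff.2 fun q hq => ?_
      set c := a * q * a⁻¹ * q⁻¹ with hc
      have hcR : c ∈ R := ha q hq
      have hac : a * c * a⁻¹ = c := by
        rw [← Subgroup.mem_centralizer_iff.1 (mem_centralizer_of_conjNormal ha1) c hcR,
          mul_inv_cancel_right]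
      have hit : ∀ n : ℕ, a ^ n * q * (a ^ n)⁻¹ = c ^ n * q := by
        intro n
        induction n with
        | zero => simp
        | succ n ih =>
          have e3 : a * c ^ n * a⁻¹ = c ^ n := by rw [← conj_pow, hac]
          calc a ^ (n + 1) * q * (a ^ (n + 1))⁻¹
              = a * (a ^ n * q * (a ^ n)⁻¹) * a⁻¹ := by rw [pow_succ']; group
            _ = (a * c ^ n * a⁻¹) * (a * q * a⁻¹) := by rw [ih]; group
            _ = c ^ (n + 1) * q := by rw [e3, pow_succ, hc]; group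
      have h1 : c ^ p ^ k = 1 := by
        have := congrArg Subtype.val (pow_card_eq_one' (x := (⟨c, hcR⟩ : R)))
        rw [hk] at this
        simpa using this
      have h2 := hit (p ^ k)
      rw [h1, one_mul, mul_inv_eq_iff_eq_mul] at h2
      exact h2.symm
    obtain ⟨j, hj⟩ := Cores.pCore_isPGroup (p := p) (G := G) ⟨_, hG hc⟩
    refine ⟨k + j, Subtype.ext ?_⟩
    have := congrArg Subtype.val hj
    simp only [Subgroup.coe_pow, Subgroup.coe_one] at this ⊢
    rw [pow_add, pow_mul]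
    exact this
  exact Cores.le_pCore hMn hMp ⟨hg, hz⟩

include hRe in
omit [Finite G] [Fact p.Prime] [R.Normal] in
theorem inf_le_T : R ≤ T := hRe.le.trans inf_le_left

include hRe in
omit [Finite G] [Fact p.Prime] [R.Normal] in
theorem inf_le_core : R ≤ 𝓠 := hRe.le.trans inf_le_right

include hE hRe in
omit [R.Normal] in
theorem moves_of_mem_T {t : G} (ht : t ∈ T) : Moves R 𝓠 t := fun q hq => by
  rw [hRe]
  have hT := hE.2.1
  have hn : (Cfsg.pCore p G).Normal := inferInstance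
  refine ⟨?_, (𝓠).mul_mem (hn.conj_mem q hq t) ((𝓠).inv_mem hq)⟩
  have h := sc_conj_mem hT (pCore_le_of_sylow S hq) (T.inv_mem ht)
  have := T.mul_mem ht h
  simpa [mul_assoc] using this

include hE hRe in
theorem conj_mem_autGroup_group (g : G) :
    MulAut.conjNormal (H := R) g ∈ (𝓕).autGroup R := by
  have hRS : R ≤ (S : Subgroup G) := (inf_le_T hRe).trans hE.2.1.1
  refine (mem_autGroup _ hRS).2 ?_
  exact ⟨hRS, fun x => hRS (MulAut.conjNormal g x).2, g, fun x => MulAut.conjNormal_apply _ _⟩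

include hE hRe in
theorem conj_aut_invariant (g : G) {a : MulAut R} (ha : a ∈ E.autGroup R) :
    MulAut.conjNormal g * a * (MulAut.conjNormal g)⁻¹ ∈ E.autGroup R := by
  have hRS : R ≤ (S : Subgroup G) := (inf_le_T hRe).trans hE.2.1.1
  have h := autCongr_mem_of_invariant S.2 (groupSystem_saturated S) hE (inf_le_T hRe)
    (f := MulAut.conjNormal g) ((mem_autGroup _ hRS).1 (conj_mem_autGroup_group S hE hRe g)) ha
  have e : MulAut.congr (MulAut.conjNormal g : R ≃* R) a =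
      MulAut.conjNormal g * a * (MulAut.conjNormal g)⁻¹ := by
    ext x
    simp [autCongr_apply, MulAut.inv_def]
  rwa [e] at h

include hE hRe in
theorem actGroup_normal : (actGroup p E R).Normal := by
  refine ⟨fun a ha x => ⟨moveGroup_conj ha.1 x, ?_⟩⟩
  show MulAut.conjNormal (x * a * x⁻¹) ∈ E.autGroup R
  rw [map_mul, map_mul, map_inv]
  exact conj_aut_invariant S hE hRe x ha.2

include hE hRe in
theorem T_le_actGroup : T ≤ actGroup p E R := fun t ht =>
  ⟨moves_of_mem_T S hE hRe ht, autInducedBy_le_autGroup E (inf_le_T hRe)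
    (mem_autInducedBy.2 ⟨t, ht, fun x => MulAut.conjNormal_apply _ _⟩)⟩

include hG hE hRe in
theorem inf_tCentric : TCentric (𝓕) T R := by
  refine ⟨inf_le_T hRe, ?_⟩
  rintro _ ⟨φ, hφ, rfl⟩
  obtain ⟨-, -, g, hg⟩ := hφ
  have hR : φ.range = R := by
    refine le_antisymm ?_ fun y hy => ?_
    · rintro _ ⟨x, rfl⟩
      rw [hg x]
      exact (inferInstance : R.Normal).conj_mem x x.2 g
    · have h := (inferInstance : R.Normal).conj_mem y hy g⁻¹
      rw [inv_inv] at h
      exact ⟨⟨_, h⟩, by rw [hg]; group⟩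
  rw [hR]
  intro t ht
  have hQ : t ∈ 𝓠 := mem_pCore_of_moves hG (inf_le_core hRe)
    (moves_of_mem_T S hE hRe ht.1) (conjNormal_eq_one_of ht.2)
  exact hRe ▸ ⟨ht.1, hQ⟩

include hE hEs hRe in
theorem sylIn_autT :
    SylIn p (autInducedBy T R) (E.autGroup R) ∧ E.IsFullyNormalized R := by
  have hTS := hE.2.1.1
  have hN : normalizerIn T R = T :=
    inf_eq_left.2 fun t _ => by simp [Subgroup.normalizer_eq_top]
  have hRn : E.IsFullyNormalized R := ⟨inf_le_T hRe, fun Q _ => by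
    rw [hN]
    exact Nat.card_le_card_of_injective _ (Subgroup.inclusion_injective (normalizerIn_le Q))⟩
  exact ⟨⟨autInducedBy_le_autGroup E (inf_le_T hRe),
    (saturated_fullyNormalized (S.2.to_le hTS) hEs hRn).2.2⟩, hRn⟩

include hG hE hEs hRe in
theorem exists_mul_centralizer {g : G} (hg : MulAut.conjNormal (H := R) g ∈ E.autGroup R) {q : G}
    (hq : q ∈ 𝓠) :
    ∃ r ∈ R, r⁻¹ * (g * q * g⁻¹ * q⁻¹) ∈ 𝓠 ⊓ Subgroup.centralizer (R : Set G) := by
  have hn : (Cfsg.pCore p G).Normal := inferInstance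
  set J := E.autGroup R ⊓ (Cfsg.pCore p G).map (MulAut.conjNormal (H := R)) with hJ
  have hJn : ∀ x : G, ∀ a ∈ J,
      MulAut.conjNormal x * a * (MulAut.conjNormal (H := R) x)⁻¹ ∈ J := by
    rintro x a ⟨ha, b, hb, rfl⟩
    refine ⟨conj_aut_invariant S hE hRe x ha, x * b * x⁻¹, hn.conj_mem b hb x, ?_⟩
    rw [map_mul, map_mul, map_inv]
  have hJp : IsPGroup p J :=
    ((Cores.pCore_isPGroup (p := p) (G := G)).map (MulAut.conjNormal (H := R))).to_le inf_le_right
  -- the elements inducing such automorphisms form a normal `p`-subgroup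
  have hN1 : moveGroup R (Cfsg.pCore p G) ⊓ J.comap (MulAut.conjNormal (H := R)) ≤ 𝓠 := by
    refine Cores.le_pCore ⟨fun a ha x => ⟨moveGroup_conj ha.1 x, ?_⟩⟩ ?_
    · show MulAut.conjNormal (x * a * x⁻¹) ∈ J
      rw [map_mul, map_mul, map_inv]
      exact hJn x _ ha.2
    · rintro ⟨a, ha, haJ⟩
      obtain ⟨i, hi⟩ := hJp ⟨_, haJ⟩
      have h1 : a ^ p ^ i ∈ 𝓠 := by
        refine mem_pCore_of_moves hG (inf_le_core hRe) (pow_mem ha _) ?_
        rw [map_pow]
        simpa using congrArg Subtype.val hi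
      obtain ⟨j, hj⟩ := Cores.pCore_isPGroup (p := p) (G := G) ⟨_, h1⟩
      refine ⟨i + j, Subtype.ext ?_⟩
      have := congrArg Subtype.val hj
      simp only [Subgroup.coe_pow, Subgroup.coe_one] at this ⊢
      rw [pow_add, pow_mul]
      exact this
  -- `J` consists of inner automorphisms of `R`
  have hJT : J ≤ autInducedBy T R := by
    obtain ⟨-, P₀, hP₀⟩ := (sylIn_autT S hE hEs hRe).1
    intro a ha
    have hJ' : ((J.subgroupOf (E.autGroup R))).Normal := by
      refine ⟨fun b hb c => ?_⟩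
      obtain ⟨hb1, y, hy, hye⟩ := hb
      refine ⟨mul_mem (mul_mem c.2 hb1) ((E.autGroup R).inv_mem c.2), ?_⟩
      obtain ⟨x, hx⟩ : ∃ x : G, MulAut.conjNormal (H := R) x = (c : MulAut R) := by
        obtain ⟨-, -, x, hx⟩ := (mem_autGroup_iff_hom (𝓕)
          ((inf_le_T hRe).trans hE.2.1.1)).1 ((mem_autGroup _ ((inf_le_T hRe).trans hE.2.1.1)).2
            (hE.1 R (autGroup_mem_hom E (inf_le_T hRe) c.2)))
        exact ⟨x, MulEquiv.ext fun z => Subtype.ext ((MulAut.conjNormal_apply _ _).trans (hx z).symm)⟩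
      refine ⟨x * y * x⁻¹, hn.conj_mem y hy x, ?_⟩
      rw [map_mul, map_mul, map_inv, hx, hye]
      rfl
    have h1 := (hJp.of_equiv (Subgroup.subgroupOfEquivOfLe
      (inf_le_left : J ≤ E.autGroup R)).symm).le_sylow_of_normal P₀
        (show (⟨a, ha.1⟩ : E.autGroup R) ∈ J.subgroupOf _ from ha)
    rw [hP₀] at h1
    exact h1
  set c := g * q * g⁻¹ * q⁻¹ with hc
  have hcQ : c ∈ 𝓠 := (𝓠).mul_mem (hn.conj_mem q hq g) ((𝓠).inv_mem hq)
  have hcJ : MulAut.conjNormal (H := R) c ∈ J := by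
    refine ⟨?_, c, hcQ, rfl⟩
    have h1 := conj_aut_invariant S hE hRe q ((E.autGroup R).inv_mem hg)
    have h2 := mul_mem hg h1
    rw [← map_inv, ← map_inv, ← map_mul, ← map_mul, ← map_mul,
      show g * (q * g⁻¹ * q⁻¹) = c by rw [hc]; group] at h2
    exact h2
  obtain ⟨t, ht, hte⟩ := mem_autInducedBy.1 (hJT hcJ)
  have hte' : MulAut.conjNormal (H := R) t = MulAut.conjNormal c :=
    MulEquiv.ext fun z => Subtype.ext ((MulAut.conjNormal_apply _ _).trans (hte z).symm)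
  have htR : t ∈ R := hRe ▸ ⟨ht, hN1 ⟨moves_of_mem_T S hE hRe ht,
    show MulAut.conjNormal t ∈ J by rw [hte']; exact hcJ⟩⟩
  refine ⟨t, htR, (𝓠).mul_mem ((𝓠).inv_mem (inf_le_core hRe htR)) hcQ,
    mem_centralizer_of_conjNormal ?_⟩
  rw [map_mul, map_inv, hte', inv_mul_cancel]

include hG hE hEs hRe in
theorem mem_moveGroup_of_coprime {x : G} (hx : MulAut.conjNormal (H := R) x ∈ E.autGroup R)
    (ho : Nat.Coprime (orderOf x) p)
    (hm : Moves R (𝓠 ⊓ Subgroup.centralizer (R : Set G)) x) :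
    x ∈ moveGroup R (Cfsg.pCore p G) := fun q hq => by
  obtain ⟨r, hr, hz⟩ := exists_mul_centralizer S hG hE hEs hRe hx hq
  obtain ⟨k, hk⟩ := Cores.pCore_isPGroup (p := p) (G := G) ⟨_, hz.1⟩
  have hk' : (r⁻¹ * (x * q * x⁻¹ * q⁻¹)) ^ p ^ k = 1 := by
    simpa using congrArg Subtype.val hk
  have h1 : x * q * x⁻¹ * q⁻¹ * (r⁻¹ * (x * q * x⁻¹ * q⁻¹))⁻¹ ∈ R := by
    simpa [mul_assoc] using hr
  have := R.mul_mem hr (mem_of_coprime_move ho hk' h1 (hm _ hz))
  simpa using this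

include hG hE hEs hRe in
theorem exists_lift_pElem {a : MulAut R} (ha : a ∈ pElemGroup E p R)
    (ho : Nat.Coprime (orderOf a) p) :
    ∃ x ∈ actGroup p E R, MulAut.conjNormal x = a := by
  have hRS : R ≤ (S : Subgroup G) := (inf_le_T hRe).trans hE.2.1.1
  have hRn : (𝓕).IsFullyNormalized R := ⟨hRS, fun Q _ => by
    rw [show normalizerIn (S : Subgroup G) R = S from
      inf_eq_left.2 fun t _ => by simp [Subgroup.normalizer_eq_top]]
    exact Nat.card_le_card_of_injective _ (Subgroup.inclusion_injective (normalizerIn_le Q))⟩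
  have haE := pElemGroup_le_autGroup E R ha
  obtain ⟨A, hA, hAa, hAm⟩ := pElem_le_goodLift S.2 (groupSystem_saturated S) hE hEs hRn
    (inf_tCentric S hG hE hRe) ha
  obtain ⟨-, -, g, hg⟩ :=
    autGroup_mem_hom (𝓕) (sup_le hRS (centralizerIn_le R)) hA
  have hga : MulAut.conjNormal (H := R) g = a := MulEquiv.ext fun z => Subtype.ext
    ((MulAut.conjNormal_apply _ _).trans ((hg ⟨z, Subgroup.mem_sup_left z.2⟩).symm.trans (hAa z)))
  have hgm : Moves R (𝓠 ⊓ Subgroup.centralizer (R : Set G)) g := fun z hz => by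
    have hzU : z ∈ R ⊔ centralizerIn (S : Subgroup G) R :=
      Subgroup.mem_sup_right ⟨pCore_le_of_sylow S hz.1, hz.2⟩
    have h1 := hAm ⟨z, hzU⟩
    rw [show (A ⟨z, hzU⟩ : G) = g * z * g⁻¹ from hg ⟨z, hzU⟩] at h1
    have := (inferInstance : R.Normal).conj_mem _ h1 z
    simpa [mul_assoc] using this
  obtain ⟨k, hk, hke⟩ := exists_coprime_pow (MulAut.conjNormal (H := R)) (g := g)
    (by rw [hga]; exact ho)
  refine ⟨g ^ k, ⟨mem_moveGroup_of_coprime S hG hE hEs hRe ?_ hk (hgm.pow k), ?_⟩, hke.trans hga⟩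
  · rw [hke, hga]; exact haE
  · show MulAut.conjNormal (g ^ k) ∈ E.autGroup R
    rw [hke, hga]; exact haE

include hG hE hEs hRe in
theorem exists_lift_normalizing (hext : E.IsNormalIn (Cfsg.groupFusionSystem (S : Subgroup G)) p)
    {a : MulAut R} (ha : a ∈ E.autGroup R)
    (hn : ∀ r ∈ autInducedBy T R, a * r * a⁻¹ ∈ autInducedBy T R)
    (ho : Nat.Coprime (orderOf a) p) :
    ∃ x ∈ actGroup p E R, MulAut.conjNormal x = a := by
  have hT := hE.2.1
  have hTS := hT.1
  have hTp : IsPGroup p T := S.2.to_le hTS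
  have hRT := inf_le_T hRe
  have hQn : (Cfsg.pCore p G).Normal := inferInstance
  obtain ⟨a₁, ha₁, ha₁e⟩ :=
    exists_ext_normalizer hTp hEs (sylIn_autT S hE hEs hRe).2 ha hn
  have hle : T ≤ normalizerIn T R := le_inf le_rfl fun t _ => by simp [Subgroup.normalizer_eq_top]
  have hhom : restr hle ((normalizerIn T R).subtype.comp a₁.toMonoidHom) ∈ E.Hom T :=
    restr_mem E hle (autGroup_mem_hom E (normalizerIn_le R) ha₁)
  have hr : (restr hle ((normalizerIn T R).subtype.comp a₁.toMonoidHom)).range = T :=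
    range_eq_of_image_le (E.injective_of_mem hhom)
      (by rintro _ ⟨x, rfl⟩; exact map_mem_S E hhom x) le_rfl
  obtain ⟨β, hβ, hβT, hβC⟩ := hext.2 _ (toIso_mem_autGroup E hhom hr)
  obtain ⟨-, -, g, hg⟩ :=
    autGroup_mem_hom (𝓕) (sup_le hTS (centralizerIn_le T)) hβ
  have hgT : ∀ y : T, g * (y : G) * g⁻¹ = toIso E hhom hr y := fun y =>
    (hg (Subgroup.inclusion le_sup_left y)).symm.trans (hβT y)
  have hga : MulAut.conjNormal (H := R) g = a := MulEquiv.ext fun z => Subtype.ext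
    ((MulAut.conjNormal_apply _ _).trans ((hgT ⟨z, hRT z.2⟩).trans (ha₁e z)))
  -- the conjugations by powers of `g` on `T` lie in `E`
  have hgE : ∀ n : ℕ, Cfsg.conjHom T (g ^ n) ∈ E.Hom T := by
    intro n
    induction n with
    | zero => exact E.conj_mem le_rfl (by simp)
    | succ n ih =>
      have hg1 : Cfsg.conjHom T g ∈ E.Hom T := mem_hom_congr E hhom fun y => hgT y
      refine comp_mem' E hg1 ih (fun y => map_mem_S E hg1 y) fun y => ?_
      show g ^ (n + 1) * (y : G) * (g ^ (n + 1))⁻¹ = g ^ n * (g * y * g⁻¹) * (g ^ n)⁻¹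
      rw [pow_succ]; group
  have hgC : Moves R (𝓠 ⊓ Subgroup.centralizer (T : Set G)) g := fun c hc => by
    have hcC : c ∈ centralizerIn (S : Subgroup G) T := ⟨pCore_le_of_sylow S hc.1, hc.2⟩
    have h1 := (hβC ⟨c, Subgroup.mem_sup_right hcC⟩ hcC).1
    change c⁻¹ * (β ⟨c, _⟩ : G) ∈ T at h1
    rw [show (β ⟨c, Subgroup.mem_sup_right hcC⟩ : G) = g * c * g⁻¹ from
      hg ⟨c, Subgroup.mem_sup_right hcC⟩] at h1
    have h2 : c⁻¹ * (g * c * g⁻¹) ∈ R :=
      hRe ▸ ⟨h1, (𝓠).mul_mem ((𝓠).inv_mem hc.1) (hQn.conj_mem c hc.1 g)⟩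
    have := (inferInstance : R.Normal).conj_mem _ h2 c
    simpa [mul_assoc] using this
  obtain ⟨k, hk, hke⟩ := exists_coprime_pow (MulAut.conjNormal (H := R)) (g := g)
    (by rw [hga]; exact ho)
  set x := g ^ k with hx
  have hxN : x ∈ Subgroup.normalizer (T : Set G) := mem_normalizer_of_conj_eq
    (toIso E (hgE k) (range_eq_of_image_le (E.injective_of_mem (hgE k))
      (by rintro _ ⟨z, rfl⟩; exact map_mem_S E (hgE k) z) le_rfl)) fun z => rfl
  have hxA : T.normalizerMonoidHom ⟨x, hxN⟩ ∈ E.autGroup T :=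
    (mem_autGroup_iff_hom E le_rfl).2 (mem_hom_congr E (hgE k) fun z => rfl)
  refine ⟨x, ⟨mem_moveGroup_of_coprime S hG hE hEs hRe (by rw [hke, hga]; exact ha) hk ?_, ?_⟩,
    hke.trans hga⟩
  swap
  · show MulAut.conjNormal x ∈ E.autGroup R
    rw [hke, hga]; exact ha
  intro z hz
  set d := x * z * x⁻¹ * z⁻¹ with hd
  have hzC : ∀ w : G, w * z * w⁻¹ ∈ 𝓠 ⊓ Subgroup.centralizer (R : Set G) := fun w =>
    ⟨hQn.conj_mem z hz.1 w,
      (inferInstance : (Subgroup.centralizer (R : Set G)).Normal).conj_mem z hz.2 w⟩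
  have hd' : d ∈ 𝓠 ⊓ Subgroup.centralizer (R : Set G) :=
    mul_mem (hzC x) (Subgroup.inv_mem _ hz)
  have hzS := pCore_le_of_sylow S hz.1
  have hzN : z ∈ Subgroup.normalizer (T : Set G) := sc_le_normalizer hT hzS
  have hzA : T.normalizerMonoidHom ⟨z, hzN⟩ ∈ (𝓕).autGroup T :=
    autInducedBy_le_autGroup _ hTS (mem_autInducedBy.2 ⟨z, hzS, fun _ => rfl⟩)
  have hdN : d ∈ Subgroup.normalizer (T : Set G) :=
    mul_mem (mul_mem (mul_mem hxN hzN) (Subgroup.inv_mem _ hxN)) (Subgroup.inv_mem _ hzN)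
  have hdA : T.normalizerMonoidHom ⟨d, hdN⟩ ∈ E.autGroup T := by
    have h1 := autCongr_mem_of_invariant S.2 (groupSystem_saturated S) hE le_rfl
      (f := T.normalizerMonoidHom ⟨z, hzN⟩) ((mem_autGroup _ hTS).1 hzA)
      ((E.autGroup T).inv_mem hxA)
    have e : T.normalizerMonoidHom ⟨d, hdN⟩ = T.normalizerMonoidHom ⟨x, hxN⟩ *
        MulAut.congr (T.normalizerMonoidHom ⟨z, hzN⟩ : T ≃* T)
          (T.normalizerMonoidHom ⟨x, hxN⟩)⁻¹ := by
      have e0 : ∀ (u v : MulAut T), MulAut.congr (u : T ≃* T) v = u * v * u⁻¹ := fun u v => by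
        ext y
        simp [autCongr_apply, MulAut.inv_def]
      rw [e0, ← map_inv, ← map_inv, ← map_mul, ← map_mul, ← map_mul]
      refine congrArg _ (Subtype.ext ?_)
      show d = x * (z * x⁻¹ * z⁻¹)
      rw [hd]; group
    rw [e]
    exact mul_mem hxA h1
  obtain ⟨r, hrC, hr, hre⟩ := centric_aut_inner hTp hEs
    (centric_of_tCentric hE.1 (inf_tCentric S hG hE hRe)) hRT
    (fun t _ => by simp [Subgroup.normalizer_eq_top]) hdA le_rfl fun y hy => Subtype.ext (by
      show d * (y : G) * d⁻¹ = y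
      rw [← Subgroup.mem_centralizer_iff.1 hd'.2 y hy, mul_inv_cancel_right])
  have hc : r⁻¹ * d ∈ 𝓠 ⊓ Subgroup.centralizer (T : Set G) := by
    refine ⟨(𝓠).mul_mem ((𝓠).inv_mem (inf_le_core hRe hr)) hd'.1,
      Subgroup.mem_centralizer_iff.2 fun y hy => ?_⟩
    have h := hre ⟨y, hy⟩
    change d * y * d⁻¹ = r * y * r⁻¹ at h
    calc y * (r⁻¹ * d) = r⁻¹ * (r * y * r⁻¹) * d := by group
      _ = r⁻¹ * d * y := by rw [← h]; group
  obtain ⟨i, hi⟩ := Cores.pCore_isPGroup (p := p) (G := G) ⟨_, hc.1⟩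
  have hi' : (r⁻¹ * d) ^ p ^ i = 1 := by simpa using congrArg Subtype.val hi
  have h1 : x * z * x⁻¹ * z⁻¹ * (r⁻¹ * d)⁻¹ ∈ R := by
    simpa [hd, mul_assoc] using hr
  have := R.mul_mem hr (mem_of_coprime_move hk hi' h1 (hgC.pow k _ hc))
  simpa using this

include hG hE hEs hRe in
theorem autGroup_le_map (hext : E.IsNormalIn (Cfsg.groupFusionSystem (S : Subgroup G)) p) :
    E.autGroup R ≤ (actGroup p E R).map MulAut.conjNormal := by
  have hRT := inf_le_T hRe
  set K := (actGroup p E R).map (MulAut.conjNormal (H := R))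
  set X := autInducedBy T R with hX
  have hsyl := (sylIn_autT S hE hEs hRe).1
  have hXK : X ≤ K := fun b hb => by
    obtain ⟨t, ht, hte⟩ := mem_autInducedBy.1 hb
    exact ⟨t, T_le_actGroup S hE hRe ht,
      MulEquiv.ext fun z => Subtype.ext ((MulAut.conjNormal_apply _ _).trans (hte z).symm)⟩
  set O := pElemGroup E p R
  have hOn : ∀ g ∈ E.autGroup R, ∀ k ∈ O, g * k * g⁻¹ ∈ O := fun g hg k hk => by
    have h := autCongr_mem_pElemGroup E ((mem_autGroup E hRT).1 hg) hk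
    have e : MulAut.congr (g : R ≃* R) k = g * k * g⁻¹ := by
      ext x
      simp [autCongr_apply, MulAut.inv_def]
    rwa [e] at h
  have hXO : X ≤ O := fun c hc => by
    refine ⟨⟨c, hsyl.le hc⟩, Subgroup.subset_closure ?_, rfl⟩
    obtain ⟨m, hm⟩ := hsyl.isPGroup ⟨c, hc⟩
    obtain ⟨j, -, hj⟩ :=
      (Nat.dvd_prime_pow (Fact.out : p.Prime)).1 (orderOf_dvd_of_pow_eq_one hm)
    refine ⟨j, ?_⟩
    rw [Subgroup.orderOf_mk]
    rwa [Subgroup.orderOf_mk] at hj
  have hXOs : SylIn p X O := by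
    have h2 := hsyl.inf_normal (pElemGroup_le_autGroup E R) hOn
    rwa [inf_eq_left.2 hXO] at h2
  have hOK : O ≤ K := le_of_sylow_pprime hXOs hXK fun a ha ho => by
    obtain ⟨x, hx, rfl⟩ := exists_lift_pElem S hG hE hEs hRe ha ho
    exact ⟨x, hx, rfl⟩
  set Nm := E.autGroup R ⊓ Subgroup.normalizer (X : Set (MulAut R))
  have hXN : X ≤ Nm := le_inf hsyl.le Subgroup.le_normalizer
  have hXNs : SylIn p X Nm := by
    obtain ⟨X', hX', hle⟩ := exists_sylIn_ge hXN hsyl.isPGroup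
    rwa [le_antisymm hle (hsyl.le_of_ge (hX'.le.trans inf_le_left) hX'.isPGroup hle)]
  have hNK : Nm ≤ K := le_of_sylow_pprime hXNs hXK fun a ha ho => by
    obtain ⟨x, hx, rfl⟩ := exists_lift_normalizing S hG hE hEs hRe hext ha.1
      (fun r hr => (Subgroup.mem_normalizer_iff.1 ha.2 r).1 hr) ho
    exact ⟨x, hx, rfl⟩
  intro a ha
  obtain ⟨k, hk, hka⟩ := hXOs.frattini (hOn a ha)
  have h1 : k * a ∈ Nm := by
    refine ⟨mul_mem (pElemGroup_le_autGroup E R hk) ha, ?_⟩
    show k * a ∈ Subgroup.normalizer (X : Set (MulAut R))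
    rw [Subgroup.mem_normalizer_iff_map_conj_eq]
    refine eq_of_le_of_card_le ?_ ?_
    · rintro _ ⟨r, hr, rfl⟩
      exact hka r hr
    · exact (card_map_conj (k * a) X).ge
  have := K.mul_mem (K.inv_mem (hOK hk)) (hNK h1)
  rwa [inv_mul_cancel_left] at this

end Setup

end Cfsg.Agent.FusionAlperin
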