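import Cfsg.Agent.FusionAlperin.Normal
import Cfsg.Agent.FusionSys.Saturation
import Cfsg.Agent.FusionSys.CentSys
import Cfsg.Agent.FusionSys.NormCentSaturated

/-!
Direct factors of a fusion system: restriction to a strongly closed subgroup whose centralizer
supplements it, and extension of maps across a commuting strongly closed subgroup.
-/

set_option autoImplicit false

open Cfsg Cfsg.FusionSystem
open Cfsg.Agent.FusionSys

namespace Cfsg.Agent.FusionAlperin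

variable {Ω : Type*} [Group Ω] {S : Subgroup Ω} {p : ℕ}

theorem le_centralizerIn_of_commute {K P : Subgroup Ω} (hK : K ≤ S)
    (h : ∀ a ∈ P, ∀ b ∈ K, a * b = b * a) : K ≤ centralizerIn S P :=
  fun b hb => ⟨hK hb, Subgroup.mem_centralizer_iff.2 fun a ha => h a ha b hb⟩

theorem range_sup_eq {P K : Subgroup Ω} (ψ : ↥(P ⊔ K) →* Ω) :
    ψ.range = (P.subgroupOf (P ⊔ K)).map ψ ⊔ (K.subgroupOf (P ⊔ K)).map ψ := by
  rw [← Subgroup.map_sup, ← Subgroup.subgroupOf_sup le_sup_left le_sup_right,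
    Subgroup.subgroupOf_self, MonoidHom.range_eq_map]

theorem range_sup_eq_sc {F : FusionSystem S} [Finite S] {K : Subgroup Ω} (hK : F.StronglyClosed K)
    {P : Subgroup Ω} {φ : P →* Ω} {ψ : ↥(P ⊔ K) →* Ω} (hψ : ψ ∈ F.Hom (P ⊔ K))
    (he : ∀ x : P, ψ ⟨x, Subgroup.mem_sup_left x.2⟩ = φ x) : ψ.range = φ.range ⊔ K := by
  have : Finite K := finite_of_le ‹_› hK.1
  rw [range_sup_eq]
  congr 1
  · ext y
    rw [mem_map_subgroupOf]
    exact ⟨fun ⟨x, hx, hxy⟩ => ⟨⟨x, hx⟩, (he _).symm.trans hxy⟩,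
      fun ⟨x, hxy⟩ => ⟨_, x.2, (he x).trans hxy⟩⟩
  · refine Eq.trans ?_ (range_eq_of_image_le (φ := restr le_sup_right ψ)
      (F.injective_of_mem (restr_mem F le_sup_right hψ))
      (by
        rintro _ ⟨x, rfl⟩
        exact sc_map_mem hK hψ (x := Subgroup.inclusion le_sup_right x) x.2) le_rfl)
    exact (range_restr _ _).symm

/-- In a saturated system a map extends across a commuting strongly closed subgroup. -/
theorem exists_ext_sup [Finite S] {F : FusionSystem S} (hF : F.IsSaturated p) {K : Subgroup Ω}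
    (hK : F.StronglyClosed K) {P : Subgroup Ω} {φ : P →* Ω} (hφ : φ ∈ F.Hom P)
    (hP : K ≤ centralizerIn S P) (hQ : K ≤ centralizerIn S φ.range) :
    ∃ ψ ∈ F.Hom (P ⊔ K), ∀ x : P, ψ ⟨x, Subgroup.mem_sup_left x.2⟩ = φ x := by
  have ext : ∀ {R Q : Subgroup Ω} {χ : R →* Ω}, χ ∈ F.Hom R → χ.range = Q → F.IsReceptive Q →
      K ≤ centralizerIn S R →
      ∃ ψ ∈ F.Hom (R ⊔ K), ∀ x : R, ψ ⟨x, Subgroup.mem_sup_left x.2⟩ = χ x := by
    intro R Q χ hχ hrange hQ' hR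
    obtain ⟨ψ, hψ, he⟩ := hQ'.2 R χ hχ hrange
    have hle : R ⊔ K ≤ extender S R χ :=
      sup_le (le_extender (le_S F hχ) (map_mem_S F hχ))
        (hR.trans (centralizerIn_le_extender χ))
    exact ⟨restr hle ψ, restr_mem F hle hψ,
      fun x => he x x.2 (hle (Subgroup.mem_sup_left x.2))⟩
  obtain ⟨Q, ⟨χ, hχ, hχQ⟩, -, hrec⟩ := hF φ.range (range_le_S F hφ)
  have hφ' := F.comp_mem hφ hχ (fun x => ⟨x, rfl⟩)
  have hφQ : (χ.comp (φ.codRestrict φ.range fun x => ⟨x, rfl⟩)).range = Q := by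
    rw [← hχQ]
    ext y
    constructor
    · rintro ⟨x, rfl⟩
      exact ⟨_, rfl⟩
    · rintro ⟨⟨_, x, rfl⟩, rfl⟩
      exact ⟨x, rfl⟩
  obtain ⟨ψ₁, hψ₁, he₁⟩ := ext hφ' hφQ hrec hP
  obtain ⟨ψ₂, hψ₂, he₂⟩ := ext hχ hχQ hrec hQ
  have r₁ : ψ₁.range = Q ⊔ K := by rw [range_sup_eq_sc hK hψ₁ he₁, hφQ]
  have r₂ : ψ₂.range = Q ⊔ K := by rw [range_sup_eq_sc hK hψ₂ he₂, hχQ]
  have hi := (toIso_isIso F hψ₁ r₁).trans (toIso_isIso F hψ₂ r₂).symm
  refine ⟨_, hi, fun x => ?_⟩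
  have h : (toIso F hψ₁ r₁) ⟨x, Subgroup.mem_sup_left x.2⟩ =
      (toIso F hψ₂ r₂) ⟨φ x, Subgroup.mem_sup_left ⟨x, rfl⟩⟩ :=
    Subtype.ext ((he₁ x).trans (he₂ ⟨φ x, x, rfl⟩).symm)
  show (((toIso F hψ₂ r₂).symm ((toIso F hψ₁ r₁) ⟨x, Subgroup.mem_sup_left x.2⟩)) : Ω) = φ x
  rw [h, MulEquiv.symm_apply_apply]

/-- A map on a factor `T` of `S` is the restriction of an automorphism of `S`. -/
theorem exists_aut_of_factor [Finite S] {F : FusionSystem S} (hF : F.IsSaturated p)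
    {T K : Subgroup Ω} (hT : F.StronglyClosed T) (hK : F.StronglyClosed K) (hsup : T ⊔ K = S)
    (hc : ∀ a ∈ T, ∀ b ∈ K, a * b = b * a) {φ : T →* Ω} (hφ : φ ∈ F.Hom T) :
    ∃ A : MulAut S, A ∈ F.autGroup S ∧ ∀ x : T, (A ⟨x, hT.1 x.2⟩ : Ω) = φ x := by
  have hr : φ.range ≤ T := by
    rintro _ ⟨x, rfl⟩
    exact sc_map_mem hT hφ x.2
  obtain ⟨ψ, hψ, he⟩ := exists_ext_sup hF hK hφ (le_centralizerIn_of_commute hK.1 hc)
    (le_centralizerIn_of_commute hK.1 fun a ha => hc a (hr ha))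
  have h : restr hsup.ge ψ ∈ F.Hom S := restr_mem F hsup.ge hψ
  have hrS : (restr hsup.ge ψ).range = S :=
    range_eq_of_image_le (F.injective_of_mem h) (range_le_S F h) le_rfl
  exact ⟨toIso F h hrS, toIso_mem_autGroup F h hrS, he⟩

theorem autGroup_congr_hom {T : Subgroup Ω} {F : FusionSystem S} {R : FusionSystem T}
    {P : Subgroup Ω} (h : R.Hom P = F.Hom P) : R.autGroup P = F.autGroup P := by
  unfold autGroup
  rw [h]

theorem exists_mul_of_mem_sup {T K : Subgroup Ω} (hcomm : ∀ a ∈ T, ∀ b ∈ K, a * b = b * a)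
    {g : Ω} (h : g ∈ T ⊔ K) : ∃ t ∈ T, ∃ c ∈ K, g = t * c := by
  rw [Subgroup.sup_eq_closure] at h
  induction h using Subgroup.closure_induction with
  | mem x hx =>
    rcases hx with hx | hx
    · exact ⟨x, hx, 1, one_mem _, (mul_one x).symm⟩
    · exact ⟨1, one_mem _, x, hx, (one_mul x).symm⟩
  | one => exact ⟨1, one_mem _, 1, one_mem _, (one_mul 1).symm⟩
  | mul a b _ _ ha hb =>
    obtain ⟨t, ht, c, hc, rfl⟩ := ha
    obtain ⟨t', ht', c', hc', rfl⟩ := hb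
    refine ⟨t * t', mul_mem ht ht', c * c', mul_mem hc hc', ?_⟩
    rw [mul_assoc, ← mul_assoc c, ← hcomm t' ht' c hc]
    simp [mul_assoc]
  | inv a _ ha =>
    obtain ⟨t, ht, c, hc, rfl⟩ := ha
    exact ⟨t⁻¹, InvMemClass.inv_mem ht, c⁻¹, InvMemClass.inv_mem hc,
      by rw [mul_inv_rev, hcomm _ (InvMemClass.inv_mem ht) _ (InvMemClass.inv_mem hc)]⟩

theorem exists_decomp_of_le_sup {T : Subgroup Ω} (hgen : S ≤ T ⊔ centralizerIn S T) {g : Ω}
    (hg : g ∈ S) : ∃ t ∈ T, ∃ c ∈ centralizerIn S T, g = t * c :=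
  exists_mul_of_mem_sup (K := centralizerIn S T)
    (fun a ha b hb => Subgroup.mem_centralizer_iff.1 (mem_centralizerIn.1 hb).2 a ha) (hgen hg)

theorem autInducedBy_of_supplement {T : Subgroup Ω} (hT : T ≤ S)
    (hgen : S ≤ T ⊔ centralizerIn S T) {Q : Subgroup Ω} (hQ : Q ≤ T) :
    autInducedBy T Q = autInducedBy S Q := by
  refine le_antisymm (autInducedBy_mono hT Q) fun α hα => ?_
  obtain ⟨g, hg, hge⟩ := mem_autInducedBy.1 hα
  obtain ⟨t, ht, c, hc, rfl⟩ := exists_decomp_of_le_sup hgen hg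
  refine mem_autInducedBy.2 ⟨t, ht, fun x => ?_⟩
  rw [hge x]
  have e := (mem_centralizerIn_iff_conj.1 hc).2 ⟨x, hQ x.2⟩
  calc t * c * (x : Ω) * (t * c)⁻¹ = t * (c * x * c⁻¹) * t⁻¹ := by group
    _ = t * (x : Ω) * t⁻¹ := by rw [e]

/-- The restriction of a saturated system to a strongly closed subgroup supplemented by its
centralizer is saturated. -/
theorem saturated_restrict_supplement [Finite S] {F : FusionSystem S} (hF : F.IsSaturated p)
    {T : Subgroup Ω} (hT : F.StronglyClosed T) (hgen : S ≤ T ⊔ centralizerIn S T)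
    (R : FusionSystem T) (hR : ∀ P, P ≤ T → R.Hom P = F.Hom P) : R.IsSaturated p := by
  intro P hP
  obtain ⟨Q, hPQ, hauto, hrec⟩ := hF P (hP.trans hT.1)
  obtain ⟨χ, hχ, hχQ⟩ := hPQ
  have hQT : Q ≤ T := by
    rw [← hχQ]
    rintro _ ⟨x, rfl⟩
    exact sc_map_mem hT hχ (hP x.2)
  refine ⟨Q, ⟨χ, (hR P hP).symm ▸ hχ, hχQ⟩, ⟨hQT, ?_⟩, hQT, fun P' φ hφ hrange => ?_⟩
  · have e1 := autGroup_congr_hom (hR Q hQT)
    have e2 := autInducedBy_of_supplement hT.1 hgen hQT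
    have key : ∀ A : Subgroup (MulAut Q), A = F.autGroup Q →
        ∃ R : Sylow p A, (R : Subgroup A) = (autInducedBy S Q).subgroupOf A := by
      rintro A rfl
      exact hauto.2
    rw [e2]
    exact key _ e1
  · have hP' := le_S R hφ
    rw [hR P' hP'] at hφ
    obtain ⟨ψ, hψ, he⟩ := hrec.2 P' φ hφ hrange
    have hN : extender T P' φ ≤ T := fun g hg => (mem_extender.1 hg).1
    have hle : extender T P' φ ≤ extender S P' φ := fun g hg => by
      obtain ⟨h1, h2, k, hk, h3⟩ := mem_extender.1 hg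
      exact mem_extender.2 ⟨hT.1 h1, h2, k, hT.1 hk, h3⟩
    refine ⟨restr hle ψ, ?_, fun x hx hxN => he x hx (hle hxN)⟩
    rw [hR _ hN]
    exact restr_mem F hle hψ

end Cfsg.Agent.FusionAlperin
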