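import Cfsg.Agent.FusionAlperin.ConstrainedComponent
import Cfsg.Prelude.Def_FusionFitting
import Cfsg.Agent.S5148
import Cfsg.Agent.S5150
import Cfsg.Agent.S5155

/-!
The generalized Fitting subsystem is self-centralizing.
-/

set_option autoImplicit false

open Cfsg Cfsg.FusionSystem
open Cfsg.Agent.FusionSys

namespace Cfsg.Agent.FusionAlperin

universe u

variable {Ω : Type u} [Group Ω] {S : Subgroup Ω} {p : ℕ} {F : FusionSystem S}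
  {T₁ T₂ U : Subgroup Ω}

/-- The multiplication map of a central product. -/
theorem centralProduct_apply {θ : ↥(T₁.prod T₂) →* Ω}
    (h₁ : ∀ (x : Ω) (hx : ((x, 1) : Ω × Ω) ∈ T₁.prod T₂), θ ⟨(x, 1), hx⟩ = x)
    (h₂ : ∀ (y : Ω) (hy : ((1, y) : Ω × Ω) ∈ T₁.prod T₂), θ ⟨(1, y), hy⟩ = y)
    (s : ↥(T₁.prod T₂)) : θ s = (s : Ω × Ω).1 * (s : Ω × Ω).2 := by
  let a : ↥(T₁.prod T₂) := ⟨((s : Ω × Ω).1, 1), s.2.1, one_mem _⟩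
  let b : ↥(T₁.prod T₂) := ⟨(1, (s : Ω × Ω).2), one_mem _, s.2.2⟩
  have e : s = a * b := Subtype.ext (Prod.ext (by simp [a, b]) (by simp [a, b]))
  conv_lhs => rw [e]
  rw [map_mul, h₁ _ a.2, h₂ _ b.2]

theorem centralProduct_comm {θ : ↥(T₁.prod T₂) →* Ω}
    (h₁ : ∀ (x : Ω) (hx : ((x, 1) : Ω × Ω) ∈ T₁.prod T₂), θ ⟨(x, 1), hx⟩ = x)
    (h₂ : ∀ (y : Ω) (hy : ((1, y) : Ω × Ω) ∈ T₁.prod T₂), θ ⟨(1, y), hy⟩ = y)
    {x y : Ω} (hx : x ∈ T₁) (hy : y ∈ T₂) : x * y = y * x := by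
  let a : ↥(T₁.prod T₂) := ⟨(x, 1), hx, one_mem _⟩
  let b : ↥(T₁.prod T₂) := ⟨(1, y), one_mem _, hy⟩
  have e : a * b = b * a := Subtype.ext (Prod.ext (by simp [a, b]) (by simp [a, b]))
  have h := congrArg θ e
  rwa [map_mul, map_mul, h₁ _ a.2, h₂ _ b.2] at h

/-- The second factor lies in a central product. -/
theorem factor_le_centralProduct [Finite T₁] [Finite T₂] {E₁ : FusionSystem T₁}
    {E₂ : FusionSystem T₂} {D₀ : FusionSystem (T₁.prod T₂)} (hD₀ : IsProductSystem E₁ E₂ D₀)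
    {Z : Subgroup (Ω × Ω)} {θ : ↥(T₁.prod T₂) →* Ω} (hZ : Z ≤ D₀.center)
    (h₂ : ∀ (y : Ω) (hy : ((1, y) : Ω × Ω) ∈ T₁.prod T₂), θ ⟨(1, y), hy⟩ = y)
    {D : FusionSystem U} (hfac : D₀.IsFactorSystem Z θ D) : E₂.IsSubsystemOf D := by
  obtain ⟨hZS, hker, hr, hD⟩ := hfac
  intro P ψ hψ
  have hPT := le_S E₂ hψ
  have : Finite ↥(T₁.prod T₂) := Finite.of_injective (fun s : ↥(T₁.prod T₂) =>
    ((⟨s.1.1, s.2.1⟩ : T₁), (⟨s.1.2, s.2.2⟩ : T₂))) fun a b h => by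
      simp only [Prod.mk.injEq, Subtype.mk.injEq] at h
      exact Subtype.ext (Prod.ext h.1 h.2)
  have hPU : P ≤ U := fun y hy => hr.le ⟨⟨(1, y), one_mem _, hPT hy⟩, h₂ y _⟩
  set R₀ : Subgroup (Ω × Ω) := (⊥ : Subgroup Ω).prod P
  have hR₀ : R₀ ≤ T₁.prod T₂ := fun r hr => ⟨bot_le (a := T₁) hr.1, hPT hr.2⟩
  let φ₀ : R₀ →* Ω × Ω := MonoidHom.prod ((MonoidHom.fst Ω Ω).comp R₀.subtype)
    (ψ.comp (((MonoidHom.snd Ω Ω).comp R₀.subtype).codRestrict P fun r => r.2.2))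
  have hfst : R₀.map (MonoidHom.fst Ω Ω) ≤ T₁ := by
    rintro _ ⟨r, hr, rfl⟩
    exact (hR₀ hr).1
  have hsnd : R₀.map (MonoidHom.snd Ω Ω) ≤ P := by
    rintro _ ⟨r, hr, rfl⟩
    exact hr.2
  have hφ₀ : φ₀ ∈ D₀.Hom R₀ := (hD₀ R₀ φ₀).2 ⟨hR₀, _, subtype_mem E₁ hfst, _,
    restr_mem E₂ hsnd hψ, fun x h₁ h₂ => rfl⟩
  obtain ⟨φ₁, hφ₁, h1, h1'⟩ := (isCentral_center D₀).2 R₀ φ₀ hφ₀
  set R := preimageAlong θ P
  have hdec : ∀ x ∈ R, ∃ r ∈ R₀, r⁻¹ * x ∈ Z ∧ ∃ s : ↥(T₁.prod T₂), (s : Ω × Ω) = x ∧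
      θ s = r.2 := by
    rintro _ ⟨s, hs, rfl⟩
    refine ⟨(1, θ s), ⟨one_mem _, hs⟩, ?_, s, rfl, rfl⟩
    let r : ↥(T₁.prod T₂) := ⟨(1, θ s), one_mem _, hPT hs⟩
    refine (hker (r⁻¹ * s)).1 ?_
    rw [map_mul, map_inv, h₂ _ r.2, inv_mul_cancel]
  have hle : R ≤ R₀ ⊔ D₀.center := by
    intro x hx
    obtain ⟨r, hr, hz, -⟩ := hdec x hx
    have := Subgroup.mul_mem _ (Subgroup.mem_sup_left (T := D₀.center) hr)
      (Subgroup.mem_sup_right (hZ hz))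
    rwa [mul_inv_cancel_left] at this
  refine (hD P ψ).2 ⟨hPU, restr hle φ₁, restr_mem D₀ hle hφ₁, ?_⟩
  have hRT : R ≤ T₁.prod T₂ := by
    rintro _ ⟨s, -, rfl⟩
    exact s.2
  refine ⟨hRT, map_mem_S D₀ (restr_mem D₀ hle hφ₁), fun x => ?_, fun x => ?_⟩
  · obtain ⟨s, hs, hsx⟩ := x.2
    show θ ⟨x, hRT x.2⟩ ∈ P
    rw [show (⟨x, hRT x.2⟩ : ↥(T₁.prod T₂)) = s from Subtype.ext hsx.symm]
    exact hs
  · obtain ⟨r, hr, hz, s, hs, hsr⟩ := hdec x x.2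
    have hφx : φ₁ ⟨x, hle x.2⟩ = φ₀ ⟨r, hr⟩ * (r⁻¹ * x) := by
      have e : (⟨(x : Ω × Ω), hle x.2⟩ : ↥(R₀ ⊔ D₀.center)) =
          Subgroup.inclusion le_sup_left ⟨r, hr⟩ *
            Subgroup.inclusion le_sup_right ⟨r⁻¹ * x, hZ hz⟩ :=
        Subtype.ext (mul_inv_cancel_left _ _).symm
      rw [e, map_mul, h1, h1']
    have hv : φ₀ ⟨r, hr⟩ = (1, ψ ⟨r.2, hr.2⟩) := Prod.ext (Subgroup.mem_bot.1 hr.1) rfl
    let u : ↥(T₁.prod T₂) := ⟨(1, ψ ⟨r.2, hr.2⟩), one_mem _, map_mem_S E₂ hψ _⟩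
    let z : ↥(T₁.prod T₂) := ⟨r⁻¹ * x, hZS hz⟩
    have hval : φ₁ ⟨x, hle x.2⟩ = ((u * z : ↥(T₁.prod T₂)) : Ω × Ω) := by
      rw [hφx, hv]
      rfl
    show ψ ⟨θ ⟨x, hRT x.2⟩, _⟩ = θ ⟨φ₁ ⟨x, hle x.2⟩, _⟩
    rw [show θ ⟨φ₁ ⟨x, hle x.2⟩, map_mem_S D₀ hφ₁ _⟩ = θ (u * z) from
      congrArg θ (Subtype.ext hval), map_mul, (hker z).2 hz, mul_one, h₂ _ u.2]
    refine congrArg ψ (Subtype.ext ?_)
    show θ ⟨x, hRT x.2⟩ = r.2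
    rw [← hsr]
    exact congrArg θ (Subtype.ext hs.symm)

/-- The self-centralizing property. -/
theorem fitting_selfCentralizing [Finite S] [Fact p.Prime] (hS : IsPGroup p S)
    (hF : F.IsSaturated p) {D : FusionSystem U} (hD : D.IsGeneralizedFittingOf F p) :
    (D.center ≤ centralizerIn S U ∧ ∀ P : Subgroup Ω, D.Hom P ⊆ F.centralizerHom D.center P) ∧
      ∀ Y : Subgroup Ω, Y ≤ centralizerIn S U →
        (∀ P : Subgroup Ω, D.Hom P ⊆ F.centralizerHom Y P) → Y ≤ D.center := by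
  obtain ⟨T, E, hE, D₀, hD₀, Z, θ, hZ, -, -, h₁, h₂, hfac⟩ := hD
  have hQS : F.core ≤ S := (isNormal_core F).1
  have hT : F.StronglyClosed T := hE.1.1.2.2.2.1
  have hTS := hT.1
  have : Finite F.core := finite_of_le ‹_› hQS
  have : Finite T := finite_of_le ‹_› hTS
  have hED : E.IsSubsystemOf D := factor_le_centralProduct hD₀ hZ h₂ hfac
  obtain ⟨hZS, hker, hr, hDh⟩ := hfac
  have hmul := centralProduct_apply h₁ h₂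
  have hcomm := fun x hx y hy => centralProduct_comm (x := x) (y := y) h₁ h₂ hx hy
  have hQU : F.core ≤ U := fun x hx => hr.le ⟨⟨(x, 1), hx, one_mem _⟩, h₁ x _⟩
  have hTU : T ≤ U := fun y hy => hr.le ⟨⟨(1, y), one_mem _, hy⟩, h₂ y _⟩
  have hUS : U ≤ S := fun u hu => by
    obtain ⟨s, rfl⟩ := hr.ge hu
    rw [hmul]
    exact S.mul_mem (hQS s.2.1) (hTS s.2.2)
  have hsub : D.IsSubsystemOf F := by
    intro P φ' hφ'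
    obtain ⟨hPU, φ, hφ, hR, hv, hval, hind⟩ := (hDh P φ').1 hφ'
    obtain ⟨-, φ₁, ⟨-, g, hg, hg₁⟩, φ₂, hφ₂, hφe⟩ := (hD₀ _ φ).1 hφ
    let R₂ := (preimageAlong θ P).map (MonoidHom.snd Ω Ω)
    obtain ⟨-, -, -, ψ, hψ, hψ1, hψ2⟩ := Cfsg.Agent.S5150.result p hS F hF E hE R₂ hφ₂
    have hdec : ∀ y : P, ∃ x : preimageAlong θ P,
        θ ⟨x, hR x.2⟩ = y ∧ (x : Ω × Ω).1 * (x : Ω × Ω).2 = y := fun y => by
      obtain ⟨s, hs⟩ := hr.ge (hPU y.2)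
      refine ⟨⟨s, s, ?_, rfl⟩, hs, ?_⟩
      · show θ s ∈ P
        rw [hs]
        exact y.2
      · exact (hmul s).symm.trans hs
    have hle : P ≤ R₂ ⊔ F.core := fun y hy => by
      obtain ⟨x, -, hx⟩ := hdec ⟨y, hy⟩
      rw [← show (x : Ω × Ω).1 * (x : Ω × Ω).2 = y from hx]
      exact Subgroup.mul_mem _ (Subgroup.mem_sup_right (hR x.2).1)
        (Subgroup.mem_sup_left ⟨x, x.2, rfl⟩)
    have hm := restr_mem F hle hψ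
    refine comp_mem' F hm (F.conj_mem le_rfl (hQS hg)) (map_mem_S F hm) fun y => ?_
    obtain ⟨x, hxy, hx⟩ := hdec y
    let a : ↥(R₂ ⊔ F.core) := ⟨(x : Ω × Ω).1, Subgroup.mem_sup_right (hR x.2).1⟩
    let b : ↥(R₂ ⊔ F.core) := ⟨(x : Ω × Ω).2, Subgroup.mem_sup_left ⟨x, x.2, rfl⟩⟩
    have ha : ψ a = (x : Ω × Ω).1 := hψ2 ⟨_, (hR x.2).1⟩
    have hb : ψ b = φ₂ ⟨(x : Ω × Ω).2, x, x.2, rfl⟩ := hψ1 ⟨_, x, x.2, rfl⟩
    have hy : restr hle ψ y = ψ (a * b) := congrArg ψ (Subtype.ext hx.symm)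
    show φ' y = g * restr hle ψ y * g⁻¹
    rw [hy, map_mul, ha, hb]
    have hi : φ' y = θ ⟨φ x, hv x⟩ := by
      rw [← hind x]
      exact congrArg φ' (Subtype.ext hxy.symm)
    rw [hi, hmul]
    show (φ x).1 * (φ x).2 = _
    rw [hφe x ⟨x, x.2, rfl⟩ ⟨x, x.2, rfl⟩, hg₁]
    have hc : g⁻¹ * φ₂ ⟨(x : Ω × Ω).2, x, x.2, rfl⟩ = φ₂ ⟨(x : Ω × Ω).2, x, x.2, rfl⟩ * g⁻¹ :=
      hcomm g⁻¹ (inv_mem hg) _ (map_mem_S E hφ₂ _)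
    simp only [mul_assoc, hc]
  have : Finite U := finite_of_le ‹_› hUS
  have hDc : D.center ≤ centralizerIn S U := fun z hz =>
    ⟨hUS ((isCentral_center D).1 hz), D.center_le_centralizer hz⟩
  refine ⟨⟨hDc, fun P φ hφ => ?_⟩, fun Y hY hDY => ?_⟩
  · obtain ⟨ψ, hψ, h1, h2⟩ := (isCentral_center D).2 P φ hφ
    refine mem_centralizerHom (fun x hx => ⟨hUS (le_S D hφ hx), Subgroup.mem_centralizer_iff.2
      fun z hz => ?_⟩) (hsub P hφ) (hsub _ hψ) h1 h2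
    exact (Subgroup.mem_centralizer_iff.1 (hDc hz).2 x (le_S D hφ hx)).symm
  -- `Y` lies in the core
  have hYT : Y ≤ centralizerIn S T := hY.trans (centralizerIn_antitone hTU)
  have hYC : Y ≤ centE F E := mem_centE_of_centralizes hYT fun P φ hφ => hDY P (hED P hφ)
  obtain ⟨K, hK, hKT⟩ := Cfsg.Agent.S5155.result p hS F hF E hE.1 (centE F E) (centE_le F E)
    (centralizes_centE hS hF hE.1) fun _ h1 h2 => mem_centE_of_centralizes h1 h2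
  have hCS : centE F E ≤ S := (centE_le F E).trans (centralizerIn_le T)
  have : Finite (centE F E) := finite_of_le ‹_› hCS
  obtain ⟨-, Q', hQn, hQc⟩ : K.IsConstrained p := by
    refine (constrained_or_component (hS.to_le hCS) hK.1.1).resolve_right ?_
    rintro ⟨V, C, hCsub, hCq⟩
    have hVK : V ≤ centE F E := by
      have key : ∀ {V : Subgroup Ω} {C : FusionSystem V} {W : Subgroup Ω} {G : FusionSystem W}
          {p : ℕ}, C.IsSubnormalIn G p → V ≤ W := by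
        intro V C W G p h
        induction h with
        | refl => exact le_rfl
        | step _ hD ih => exact ih.trans hD.1.2.2.2.1.1
      exact key hCsub
    have hVT : V ≤ T := le_S E (hE.2.1 V C ⟨hCsub.step hK, hCq⟩ V (subtype_mem C le_rfl))
    have : Finite V := finite_of_le ‹_› (hVT.trans hTS)
    refine Cfsg.Agent.S5148.result p (hS.to_le (hVT.trans hTS)) C hCq ⟨⟨fun a b => ?_⟩⟩
    exact Subtype.ext (Subgroup.mem_centralizer_iff.1 (centE_le F E (hVK b.2)).2 a (hVT a.2))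
  have hQ'Q : Q' ≤ F.core :=
    (le_sSup (s := {X | K.IsNormal X}) hQn).trans (core_le_core hS hK.1)
  have hYQ : Y ≤ F.core := fun y hy => hQ'Q (hQc.2 Q' (isConj_refl _ hQn.1)
    ⟨hYC hy, Subgroup.mem_centralizer_iff.2 fun q hq =>
      Subgroup.mem_centralizer_iff.1 (hY hy).2 q (hQU (hQ'Q hq))⟩)
  have hcY : ∀ u ∈ U, ∀ y ∈ Y, u * y = y * u := fun u hu y hy =>
    Subgroup.mem_centralizer_iff.1 (hY hy).2 u hu
  refine le_sSup (s := {X | D.IsCentral X}) ⟨hYQ.trans hQU, fun P φ' hφ' => ?_⟩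
  obtain ⟨-, -, -, χ, hχ, hχ1, hχ2⟩ := hDY P hφ'
  obtain ⟨hPU, φ, hφ, hR, hv, hval, hind⟩ := (hDh P φ').1 hφ'
  obtain ⟨-, φ₁, ⟨-, g, hg, hg₁⟩, φ₂, hφ₂, hφe⟩ := (hD₀ _ φ).1 hφ
  refine ⟨χ, (hDh _ χ).2 ⟨sup_le hPU (hYQ.trans hQU), ?_⟩, hχ1, hχ2⟩
  set R' := preimageAlong θ (P ⊔ Y)
  have hR' : R' ≤ F.core.prod T := by
    rintro _ ⟨s, -, rfl⟩
    exact s.2
  have hsplit : ∀ s : ↥(F.core.prod T), θ s ∈ P ⊔ Y → ∃ (y : Ω) (hy : y ∈ Y),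
      ((s : Ω × Ω) * (y⁻¹, 1)) ∈ preimageAlong θ P := by
    intro s hs
    have hPY : P ≤ Subgroup.normalizer (Y : Set Ω) := fun u hu =>
      Subgroup.centralizer_le_normalizer _ (Subgroup.mem_centralizer_iff.2 fun y hy =>
        (hcY u (hPU hu) y hy).symm)
    rw [← SetLike.mem_coe, Subgroup.coe_mul_of_left_le_normalizer_right P Y hPY] at hs
    obtain ⟨u, hu, y, hy, huy⟩ := hs
    refine ⟨y, hy, s * ⟨(y, 1), hYQ hy, one_mem _⟩⁻¹, ?_, ?_⟩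
    · show θ _ ∈ P
      have hy1 : θ (⟨(y, 1), hYQ hy, one_mem _⟩ : ↥(F.core.prod T)) = y := h₁ y ⟨hYQ hy, one_mem _⟩
      rw [map_mul, map_inv, show θ s = u * y from huy.symm, hy1, mul_inv_cancel_right]
      exact hu
    · exact congrArg ((s : Ω × Ω) * ·) (Prod.ext rfl inv_one)
  have hsnd : R'.map (MonoidHom.snd Ω Ω) ≤ (preimageAlong θ P).map (MonoidHom.snd Ω Ω) := by
    rintro _ ⟨_, ⟨s, hs, rfl⟩, rfl⟩
    obtain ⟨y, hy, hmem⟩ := hsplit s hs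
    exact ⟨_, hmem, by simp⟩
  let fst' : R' →* R'.map (MonoidHom.fst Ω Ω) :=
    ((MonoidHom.fst Ω Ω).comp R'.subtype).codRestrict _ fun r => ⟨r, r.2, rfl⟩
  let snd' : R' →* R'.map (MonoidHom.snd Ω Ω) :=
    ((MonoidHom.snd Ω Ω).comp R'.subtype).codRestrict _ fun r => ⟨r, r.2, rfl⟩
  let ψ : R' →* Ω × Ω := MonoidHom.prod
    ((Cfsg.conjHom (R'.map (MonoidHom.fst Ω Ω)) g).comp fst') ((restr hsnd φ₂).comp snd')
  have hψ : ψ ∈ D₀.Hom R' := by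
    refine (hD₀ R' ψ).2 ⟨hR', Cfsg.conjHom _ g, ⟨?_, g, hg, fun _ => rfl⟩, _, restr_mem E hsnd hφ₂,
      fun x _ _ => rfl⟩
    rintro _ ⟨r, hr, rfl⟩
    exact (hR' hr).1
  refine ⟨ψ, hψ, hR', map_mem_S D₀ hψ, fun x => ?_, fun x => ?_⟩
  · obtain ⟨s, hs, hsx⟩ := x.2
    show θ ⟨x, hR' x.2⟩ ∈ P ⊔ Y
    rw [show (⟨x, hR' x.2⟩ : ↥(F.core.prod T)) = s from Subtype.ext hsx.symm]
    exact hs
  obtain ⟨y, hy, hmem⟩ := hsplit ⟨x, hR' x.2⟩ (by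
    obtain ⟨s, hs, hsx⟩ := x.2
    rw [show (⟨x, hR' x.2⟩ : ↥(F.core.prod T)) = s from Subtype.ext hsx.symm]
    exact hs)
  set r : preimageAlong θ P := ⟨_, hmem⟩
  let y' : ↥(F.core.prod T) := ⟨(y, 1), hYQ hy, one_mem _⟩
  have hxr : (⟨x, hR' x.2⟩ : ↥(F.core.prod T)) = ⟨r, hR r.2⟩ * y' :=
    Subtype.ext (Prod.ext (by simp [r, y']) (by simp [r, y']))
  have hθx : θ ⟨x, hR' x.2⟩ = θ ⟨r, hR r.2⟩ * y := by
    rw [hxr, map_mul, h₁ y y'.2]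
  have hψx : θ ⟨ψ x, map_mem_S D₀ hψ x⟩ = θ ⟨φ r, hv r⟩ * y := by
    rw [hmul, hmul]
    show g * (x : Ω × Ω).1 * g⁻¹ * φ₂ ⟨(x : Ω × Ω).2, _⟩ = (φ r).1 * (φ r).2 * y
    rw [hφe r ⟨r, r.2, rfl⟩ ⟨r, r.2, rfl⟩, hg₁]
    show g * (x : Ω × Ω).1 * g⁻¹ * φ₂ ⟨(x : Ω × Ω).2, _⟩ =
      g * ((x : Ω × Ω).1 * y⁻¹) * g⁻¹ * φ₂ ⟨(x : Ω × Ω).2 * 1, _⟩ * y
    have e : φ₂ ⟨(x : Ω × Ω).2 * 1, ⟨r, r.2, rfl⟩⟩ =
        φ₂ ⟨(x : Ω × Ω).2, hsnd ⟨x, x.2, rfl⟩⟩ := congrArg φ₂ (Subtype.ext (mul_one _))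
    rw [e]
    have c1 : y⁻¹ * g⁻¹ = g⁻¹ * y⁻¹ := (hcY g⁻¹ (hQU (inv_mem hg)) y⁻¹ (inv_mem hy)).symm
    have c2 : ∀ w ∈ T, y⁻¹ * w * y = w := fun w hw => by
      rw [mul_assoc, hcY w (hTU hw) y hy, inv_mul_cancel_left]
    have hw := c2 _ (map_mem_S E hφ₂ ⟨(x : Ω × Ω).2, hsnd ⟨x, x.2, rfl⟩⟩)
    calc _ = g * (x : Ω × Ω).1 * g⁻¹ *
          (y⁻¹ * φ₂ ⟨(x : Ω × Ω).2, hsnd ⟨x, x.2, rfl⟩⟩ * y) := by rw [hw]
      _ = g * (x : Ω × Ω).1 * (g⁻¹ * y⁻¹) *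
          φ₂ ⟨(x : Ω × Ω).2, hsnd ⟨x, x.2, rfl⟩⟩ * y := by group
      _ = _ := by rw [← c1]; group
  let a : ↥(P ⊔ Y) := Subgroup.inclusion le_sup_left ⟨θ ⟨r, hR r.2⟩, hval r⟩
  let b : ↥(P ⊔ Y) := Subgroup.inclusion le_sup_right ⟨y, hy⟩
  rw [hψx, ← hind r]
  refine Eq.trans (congrArg χ (Subtype.ext (a2 := a * b) hθx)) ?_
  rw [map_mul, hχ1, hχ2]

end Cfsg.Agent.FusionAlperin
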