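import Cfsg.Agent.FusionAlperin.Hyperfocal
import Cfsg.Agent.FusionAux.Induction
import Cfsg.Agent.S5119

/-!
The subsystem generated by the `p`-elements of the automizers of centric subgroups.
-/

set_option autoImplicit false

open Cfsg Cfsg.FusionSystem
open Cfsg.Agent.FusionSys
open Cfsg.Agent.S5119 (InvT Decomp decomp_comp decomp_symm decomp_restrict)

namespace Cfsg.Agent.FusionAlperin

variable {Ω : Type*} [Group Ω] {S : Subgroup Ω} {p : ℕ}

/-- The subgroup of `MulAut P` generated by the elements of `p`-power order of `Aut_F(P)`. -/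
def pElemGroup (F : FusionSystem S) (p : ℕ) (P : Subgroup Ω) : Subgroup (MulAut P) :=
  (Subgroup.closure {α : F.autGroup P | ∃ k : ℕ, orderOf α = p ^ k}).map (F.autGroup P).subtype

theorem pElemGroup_le_autGroup (F : FusionSystem S) (P : Subgroup Ω) :
    pElemGroup F p P ≤ F.autGroup P :=
  Subgroup.map_subtype_le _

theorem autGroupCongr_mem_pElem (F : FusionSystem S) {P Q : Subgroup Ω} {e : P ≃* Q}
    (he : IsIso F e) {α : F.autGroup P}
    (hα : α ∈ Subgroup.closure {α : F.autGroup P | ∃ k : ℕ, orderOf α = p ^ k}) :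
    autGroupCongr F he α ∈ Subgroup.closure {α : F.autGroup Q | ∃ k : ℕ, orderOf α = p ^ k} := by
  induction hα using Subgroup.closure_induction with
  | mem a ha =>
    obtain ⟨k, hk⟩ := ha
    exact Subgroup.subset_closure ⟨k, (MulEquiv.orderOf_eq (autGroupCongr F he) a).trans hk⟩
  | one => rw [map_one]; exact one_mem _
  | mul a b _ _ ha hb => rw [map_mul]; exact mul_mem ha hb
  | inv a _ ha => rw [map_inv]; exact (Subgroup.closure _).inv_mem ha

theorem autCongr_mem_pElemGroup (F : FusionSystem S) {P Q : Subgroup Ω} {e : P ≃* Q}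
    (he : IsIso F e) {α : MulAut P} (hα : α ∈ pElemGroup F p P) :
    MulAut.congr e α ∈ pElemGroup F p Q := by
  obtain ⟨a, ha, rfl⟩ := hα
  exact ⟨_, autGroupCongr_mem_pElem F he ha, rfl⟩

/-- `E'` contains the `p`-elements of all automizers of centric subgroups. -/
def ContainsCentricPElems (F : FusionSystem S) (p : ℕ) (E' : FusionSystem S) : Prop :=
  ∀ Q, F.IsCentric Q → pElemGroup F p Q ≤ E'.autGroup Q

/-- The least subsystem containing the `p`-elements of all automizers of centric subgroups. -/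
def centricPElemSystem (F : FusionSystem S) (p : ℕ) : FusionSystem S :=
  subSystem F (fun P φ => ∀ E' : FusionSystem S, ContainsCentricPElems F p E' → φ ∈ E'.Hom P)
    (fun hP hg E' _ => E'.conj_mem hP hg)
    (fun _ _ a b h E' hE' => E'.comp_mem (a E' hE') (b E' hE') h)
    (fun {P φ} _ a ψ _ he E' hE' => by
      obtain ⟨c, hc, hce⟩ := E'.inv_mem (a E' hE')
      refine mem_hom_congr E' hc fun y => ?_
      obtain ⟨x, hx⟩ := y.2
      have hy : y = ⟨φ x, x, rfl⟩ := Subtype.ext hx.symm
      rw [hy, he, hce])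

theorem centricPElemSystem_sub (F : FusionSystem S) :
    (centricPElemSystem F p).IsSubsystemOf F := fun _ _ h => h.1

theorem centricPElemSystem_le {F E : FusionSystem S} (hE : ContainsCentricPElems F p E) :
    centricPElemSystem F p ≤ E := fun _ _ h => h.2 E hE

theorem centricPElemSystem_contains (F : FusionSystem S) :
    ContainsCentricPElems F p (centricPElemSystem F p) := by
  intro Q hQ α hα
  refine (mem_autGroup _ hQ.1).2
    ⟨autGroup_mem_hom F hQ.1 (pElemGroup_le_autGroup F Q hα), fun E' hE' => ?_⟩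
  exact autGroup_mem_hom E' hQ.1 (hE' Q hQ hα)

/-- Transport of a system along an automorphism `β` of `S`. -/
def transportSystem (F E' : FusionSystem S) (β : MulAut S) : FusionSystem S :=
  subSystem F (fun P φ => ∃ χ ∈ E'.Hom (autImage β P), ∀ (x : P) (h : autExt β x ∈ autImage β P),
      χ ⟨autExt β x, h⟩ = autExt β (φ x))
    (fun {P g} hP hg => by
      have hm : ∀ {x y : Ω}, x ∈ S → y ∈ S → autExt β (x * y) = autExt β x * autExt β y := by
        intro x y hx hy
        rw [autExt_of_mem β hx, autExt_of_mem β hy, autExt_of_mem β (S.mul_mem hx hy),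
          ← Subgroup.coe_mul, ← map_mul]
        rfl
      have hi : ∀ {x : Ω}, x ∈ S → autExt β x⁻¹ = (autExt β x)⁻¹ := by
        intro x hx
        rw [autExt_of_mem β hx, autExt_of_mem β (S.inv_mem hx), ← Subgroup.coe_inv, ← map_inv]
        rfl
      refine ⟨conjHom (autImage β P) (autExt β g), E'.conj_mem (autImage_le β P)
        (by rw [autExt_of_mem β hg]; exact (β ⟨g, hg⟩).2), fun x h => ?_⟩
      show _ = autExt β (g * (x : Ω) * g⁻¹)
      rw [hm (S.mul_mem hg (hP x.2)) (S.inv_mem hg), hm hg (hP x.2), hi hg]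
      rfl)
    (fun {P Q φ ψ} hφ hψ ⟨a, ha, hae⟩ ⟨b, hb, hbe⟩ h => by
      have hm : ∀ y, a y ∈ autImage β Q := by
        intro y
        obtain ⟨x, hx, hxT, hxy⟩ := exists_autExt_eq β y
        have hy : y = ⟨autExt β (⟨x, hx⟩ : P), autExt_mem_autImage β (le_S F hφ) hx⟩ :=
          Subtype.ext hxy.symm
        rw [hy, hae]
        exact autExt_mem_autImage β (le_S F hψ) (h _)
      refine ⟨_, E'.comp_mem ha hb hm, fun x hx => ?_⟩
      refine Eq.trans ?_ (hbe ⟨φ x, h x⟩ (autExt_mem_autImage β (le_S F hψ) (h x)))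
      exact congrArg b (Subtype.ext (hae x hx)))
    (fun {P φ} hφ ⟨a, ha, hae⟩ ψ _ he => by
      obtain ⟨c, hc, hce⟩ := E'.inv_mem ha
      have hle : autImage β φ.range ≤ a.range := by
        intro y hy
        obtain ⟨z, ⟨x, hxz⟩, hzT, hzy⟩ := exists_autExt_eq β ⟨y, hy⟩
        refine ⟨⟨_, autExt_mem_autImage β (le_S F hφ) x.2⟩, ?_⟩
        rw [hae, hxz]
        exact hzy
      refine ⟨_, restr_mem E' hle hc, fun y hy => ?_⟩
      obtain ⟨x, hx⟩ := y.2
      have hy' : y = ⟨φ x, x, rfl⟩ := Subtype.ext hx.symm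
      subst hy'
      rw [he x]
      refine Eq.trans ?_ (hce ⟨_, autExt_mem_autImage β (le_S F hφ) x.2⟩)
      exact congrArg c (Subtype.ext (hae x (autExt_mem_autImage β (le_S F hφ) x.2)).symm))

theorem isConj_autImage (F : FusionSystem S) {β : MulAut S} (hβ : β ∈ F.autGroup S)
    {P : Subgroup Ω} (hP : P ≤ S) : F.IsConj P (autImage β P) :=
  ⟨_, restr_mem F hP (autGroup_mem_hom F le_rfl hβ), range_restr hP _⟩

theorem isCentric_autImage (F : FusionSystem S) {β : MulAut S} (hβ : β ∈ F.autGroup S)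
    {P : Subgroup Ω} (hP : F.IsCentric P) : F.IsCentric (autImage β P) :=
  ⟨autImage_le β P, fun Q hQ => hP.2 Q (isConj_trans (isConj_autImage F hβ hP.1) hQ)⟩

theorem centricPElemSystem_invariant (F : FusionSystem S) :
    InvT F (centricPElemSystem F p) := by
  intro β hβ P φ hφ
  have hP : P ≤ S := le_S F hφ.1
  have hcand : ∀ E' : FusionSystem S, ContainsCentricPElems F p E' →
      ContainsCentricPElems F p (transportSystem F E' β) := by
    intro E' hE' Q hQ α hα
    refine (mem_autGroup _ hQ.1).2 ⟨autGroup_mem_hom F hQ.1 (pElemGroup_le_autGroup F Q hα), ?_⟩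
    have hψ := restr_mem F hQ.1 (autGroup_mem_hom F le_rfl hβ)
    have hr : (restr hQ.1 (S.subtype.comp β.toMonoidHom)).range = autImage β Q := range_restr hQ.1 _
    have h1 := hE' _ (isCentric_autImage F hβ hQ)
      (autCongr_mem_pElemGroup F (toIso_isIso F hψ hr) hα)
    refine ⟨_, autGroup_mem_hom E' (autImage_le β Q) h1, fun x h => ?_⟩
    have hx : (⟨autExt β x, h⟩ : autImage β Q) = toIso F hψ hr x :=
      Subtype.ext (autExt_of_mem β (hQ.1 x.2))
    show ((MulAut.congr (toIso F hψ hr) α ⟨autExt β x, h⟩ : autImage β Q) : Ω) = autExt β (α x : Ω)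
    rw [hx, autCongr_apply, MulEquiv.symm_apply_apply]
    exact (autExt_of_mem β (hQ.1 (α x).2)).symm
  -- the transported map, built in `F`
  have hψ := restr_mem F hP (autGroup_mem_hom F le_rfl hβ)
  have hr : (restr hP (S.subtype.comp β.toMonoidHom)).range = autImage β P := range_restr hP _
  set e := toIso F hψ hr
  have hv : ∀ y, φ (e.symm y) ∈ S := fun y => map_mem_S F hφ.1 _
  let χ : autImage β P →* Ω :=
    (S.subtype.comp β.toMonoidHom).comp ((φ.comp e.symm.toMonoidHom).codRestrict S hv)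
  have hχe : ∀ (x : P) (h : autExt β x ∈ autImage β P), χ ⟨autExt β x, h⟩ = autExt β (φ x) := by
    intro x h
    have hx : (⟨autExt β x, h⟩ : autImage β P) = e x := Subtype.ext (autExt_of_mem β (hP x.2))
    rw [hx, autExt_of_mem β (map_mem_S F hφ.1 x)]
    exact congrArg (fun w => ((β w : S) : Ω))
      (Subtype.ext (congrArg φ (e.symm_apply_apply x)))
  refine ⟨χ, ⟨?_, fun E' hE' => ?_⟩, hχe⟩
  · have h1 : (φ.comp e.symm.toMonoidHom) ∈ F.Hom (autImage β P) :=
      comp_mem' F (toIso_isIso F hψ hr).symm hφ.1 (fun y => (e.symm y).2) fun _ => rfl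
    exact comp_mem' F h1 (autGroup_mem_hom F le_rfl hβ) hv fun _ => rfl
  · obtain ⟨-, c, hc, hce⟩ := hφ.2 _ (hcand E' hE')
    refine mem_hom_congr E' hc fun y => ?_
    obtain ⟨x, hx, hxT, hxy⟩ := exists_autExt_eq β y
    have hy : y = ⟨autExt β (⟨x, hx⟩ : P), autExt_mem_autImage β hP hx⟩ := Subtype.ext hxy.symm
    rw [hy, hχe, hce]

/-- Every map is an automorphism of `S` composed with a map of the generated subsystem. -/
theorem centricPElem_decomp [Finite S] [Fact p.Prime] (hS : IsPGroup p S) {F : FusionSystem S}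
    (hF : F.IsSaturated p) {P : Subgroup Ω} {φ : P →* Ω} (hφ : φ ∈ F.Hom P) :
    Decomp F (centricPElemSystem F p) P φ := by
  set E₀ := centricPElemSystem F p
  have hI : InvT F E₀ := centricPElemSystem_invariant F
  have hone : ∀ {P : Subgroup Ω} {f : P →* Ω}, f ∈ E₀.Hom P → Decomp F E₀ P f :=
    fun {P f} hf => ⟨1, one_mem _, f, hf,
      fun x => (autExt_of_mem (1 : MulAut S) (map_mem_S E₀ hf x)).symm⟩
  let D : FusionSystem S := subSystem F (fun P φ => Decomp F E₀ P φ)
    (fun hP hg => hone (E₀.conj_mem hP hg))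
    (fun _ _ a b h => decomp_comp hI a b h)
    (fun {P φ} hφ a ψ hψ he => by
      have h1 := decomp_symm hI (toIso F hφ rfl) a
      obtain ⟨α, hα, f, hf, hfe⟩ := h1
      refine ⟨α, hα, f, hf, fun y => ?_⟩
      rw [← hfe y]
      obtain ⟨x, hx⟩ := y.2
      have hy : y = ⟨φ x, x, rfl⟩ := Subtype.ext hx.symm
      rw [hy, he x]
      exact (congrArg Subtype.val ((toIso F hφ rfl).symm_apply_apply x)).symm)
  suffices h : F ≤ D from (h P hφ).2
  refine hom_subset_of_step hS hF D fun R hR ih α hα => ?_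
  refine (mem_autGroup D hR.1).2 ⟨autGroup_mem_hom F hR.1 hα, ?_⟩
  rcases hR.1.eq_or_lt with rfl | hlt
  · exact ⟨α, hα, _, subtype_mem _ le_rfl, fun x => (autExt_of_mem α x.2).symm⟩
  have hfn := saturated_fullyNormalized hS hF hR
  have hrec := saturated_fullyCentralized hS hF hfn.1
  have hext : ∀ {N : Subgroup Ω} {ψ : N →* Ω} (hRN : R < N) {a : MulAut R},
      ψ ∈ F.Hom N → (∀ x : R, ψ (Subgroup.inclusion hRN.le x) = a x) →
      Decomp F E₀ R (fun x => (a x : Ω)) := by
    intro N ψ hRN a hψ he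
    exact decomp_restrict (ih N (le_S F hψ) (card_lt_of_lt (le_S F hψ) hRN) hψ).2 hRN.le
      fun x => (he x).symm
  by_cases hcl : centralizerIn S R ≤ R
  · -- centric: Frattini argument
    have hcent := isCentric_of_centralizer_le hfn.1 hcl
    set K := Subgroup.closure {α : F.autGroup R | ∃ k : ℕ, orderOf α = p ^ k}
    haveI hKn : K.Normal := by
      refine ⟨fun n hn g => ?_⟩
      induction hn using Subgroup.closure_induction with
      | mem x hx =>
        obtain ⟨k, hk⟩ := hx
        exact Subgroup.subset_closure ⟨k, ((MulAut.conj g).orderOf_eq x).trans hk⟩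
      | one => simp
      | mul x y _ _ hx hy =>
        have h := K.mul_mem hx hy
        have e : g * x * g⁻¹ * (g * y * g⁻¹) = g * (x * y) * g⁻¹ := by group
        rwa [e] at h
      | inv x _ hx =>
        have h := K.inv_mem hx
        have e : (g * x * g⁻¹)⁻¹ = g * x⁻¹ * g⁻¹ := by group
        rwa [e] at h
    obtain ⟨h, k, N, N', en, hRN, hak, hk, hen, -, -, hag, hextK⟩ :=
      Cfsg.Agent.FusionAux.exists_frattini_extend hS hF hR K ⟨α, hα⟩
    have hN : normalizerIn S R ≤ N := fun g hg => by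
      have hc : R.normalizerMonoidHom ⟨g, hg.2⟩ ∈ autInducedBy S R :=
        mem_autInducedBy.2 ⟨g, hg.1, fun _ => rfl⟩
      refine hextK g hg ⟨⟨_, autInducedBy_le_autGroup F hR.1 hc⟩, Subgroup.subset_closure ?_,
        fun _ => rfl⟩
      obtain ⟨m, hm⟩ := isPGroup_autInducedBy hS R ⟨_, hc⟩
      obtain ⟨j, -, hj⟩ := (Nat.dvd_prime_pow (Fact.out : p.Prime)).1 (orderOf_dvd_of_pow_eq_one hm)
      refine ⟨j, ?_⟩
      rw [Subgroup.orderOf_mk]
      rwa [Subgroup.orderOf_mk] at hj
    have hdh : Decomp F E₀ R (fun x => ((h : MulAut R) x : Ω)) :=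
      hext (lt_normalizerIn hS hlt) (restr_mem F hN hen) fun x => hag x
    have hdk : Decomp F E₀ R (fun x => ((k : MulAut R) x : Ω)) :=
      hone (autGroup_mem_hom E₀ hR.1 (centricPElemSystem_contains F R hcent ⟨k, hk, rfl⟩))
    have h3 := decomp_comp hI hdk hdh fun x => ((k : MulAut R) x).2
    refine decomp_restrict h3 le_rfl fun x => ?_
    exact congrArg (fun m : F.autGroup R => (((m : MulAut R) x : R) : Ω)) hak
  · have hlt' : R < R ⊔ centralizerIn S R :=
      lt_of_le_of_ne le_sup_left fun h => hcl (le_sup_right.trans h.ge)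
    obtain ⟨ψ, hψ, he⟩ := exists_ext_aut' hrec hα hlt'.le
      (sup_le (le_normalizerIn hR.1) (centralizerIn_le_normalizerIn R))
      (sup_le (le_carried_self F hR.1 α) (centralizer_le_carried R α))
    exact hext hlt' hψ he

/-- Conjugating an automorphism in the generated subsystem by any map of `F` stays in it. -/
theorem autCongr_mem_centricPElem [Finite S] [Fact p.Prime] (hS : IsPGroup p S)
    {F : FusionSystem S} (hF : F.IsSaturated p) {R P : Subgroup Ω} {f : R ≃* P} (hf : IsIso F f)
    {u : MulAut R} (hu : u ∈ (centricPElemSystem F p).autGroup R) :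
    MulAut.congr f u ∈ (centricPElemSystem F p).autGroup P := by
  have hR := hf.le_left
  have hP := hf.le_right
  set E₀ := centricPElemSystem F p
  obtain ⟨γ, hγ, e, he, hfe⟩ := centricPElem_decomp hS hF hf
  have hr := rfl (a := e.range)
  set ei := toIso E₀ he hr
  have hei : IsIso E₀ ei := toIso_isIso E₀ he hr
  have hc := (hei.symm.trans ((mem_autGroup E₀ hR).1 hu)).trans hei
  obtain ⟨χ, hχ, hχe⟩ := centricPElemSystem_invariant F γ hγ _ _ hc
  have hrS : e.range ≤ S := range_le_S E₀ he
  have hle : P ≤ autImage γ e.range := by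
    intro y hy
    have h1 := autExt_mem_autImage γ hrS (x := e (f.symm ⟨y, hy⟩)) ⟨_, rfl⟩
    rw [← hfe] at h1
    simpa using h1
  refine (mem_autGroup E₀ hP).2 (mem_hom_congr E₀ (restr_mem E₀ hle hχ) fun y => ?_)
  obtain ⟨x, rfl⟩ := f.surjective y
  show ((MulAut.congr f u (f x) : P) : Ω) = χ ⟨(f x : Ω), hle (f x).2⟩
  have e2 : (⟨(f x : Ω), hle (f x).2⟩ : autImage γ e.range) =
      ⟨_, autExt_mem_autImage γ hrS (ei x).2⟩ := Subtype.ext (hfe x)
  rw [e2, hχe (ei x) _, autCongr_apply, MulEquiv.symm_apply_apply]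
  refine (hfe (u x)).trans ?_
  show autExt γ (e (u x)) = autExt γ ((ei (u (ei.symm (ei x))) : e.range) : Ω)
  rw [MulEquiv.symm_apply_apply]
  rfl

/-- The generated subsystem has index prime to `p`. -/
theorem centricPElem_index [Finite S] [Fact p.Prime] (hS : IsPGroup p S) {F : FusionSystem S}
    (hF : F.IsSaturated p) {P : Subgroup Ω} (hP : P ≤ S) :
    pElemGroup F p P ≤ (centricPElemSystem F p).autGroup P := by
  obtain ⟨R, hPR, hR⟩ := exists_fullyNormalized F hP
  obtain ⟨f, hf⟩ := (isConj_iff_exists_iso F).1 hPR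
  suffices hRR : pElemGroup F p R ≤ (centricPElemSystem F p).autGroup R by
    intro α hα
    have h1 := autCongr_mem_centricPElem hS hF hf.symm (hRR (autCongr_mem_pElemGroup F hf hα))
    have e : MulAut.congr f.symm (MulAut.congr f α) = α := by
      ext x
      simp [autCongr_apply]
    rwa [e] at h1
  haveI : Finite R := finite_of_le ‹_› hR.1
  rw [pElemGroup, Subgroup.map_le_iff_le_comap, Subgroup.closure_le]
  intro a ha
  obtain ⟨k, hk⟩ := ha
  have hA : IsPGroup p (Subgroup.zpowers (a : MulAut R)) := by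
    refine IsPGroup.of_card (n := k) ?_
    rw [Nat.card_zpowers, Subgroup.orderOf_coe, hk]
  obtain ⟨χ, hχ, hconj⟩ := exists_conj_le_autInducedBy (saturated_fullyNormalized hS hF hR).2 hA
    (Subgroup.zpowers_le.2 a.2)
  have h1 := autInducedBy_le_autGroup (centricPElemSystem F p) hR.1
    (hconj a (Subgroup.mem_zpowers _))
  have h2 := autCongr_mem_centricPElem hS hF
    ((mem_autGroup F hR.1).1 ((F.autGroup R).inv_mem hχ)) h1
  have e : MulAut.congr χ⁻¹ (χ * (a : MulAut R) * χ⁻¹) = a := by
    ext x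
    simp [autCongr_apply, MulAut.inv_def]
  rwa [e] at h2

end Cfsg.Agent.FusionAlperin
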