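import Cfsg.Agent.FusionAlperin.CentralizerExtend
import Cfsg.Agent.FusionAlperin.IndexPrime
import Cfsg.Agent.S5119

/-!
Maps of an invariant subsystem over `T` that extend across `C_S(T)` acting trivially modulo `T`.
-/

set_option autoImplicit false

open Cfsg Cfsg.FusionSystem
open Cfsg.Agent.FusionSys

namespace Cfsg.Agent.FusionAlperin

variable {Ω : Type*} [Group Ω] {S T : Subgroup Ω} {p : ℕ} {F : FusionSystem S}

/-- All `F`-conjugates of `P ≤ T` contain their centralizer in `T`. -/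
def TCentric (F : FusionSystem S) (T P : Subgroup Ω) : Prop :=
  P ≤ T ∧ ∀ R : Subgroup Ω, F.IsConj P R → centralizerIn T R ≤ R

theorem tCentric_mono {P R : Subgroup Ω} (hP : TCentric F T P) (hPR : P ≤ R) (hR : R ≤ T) :
    TCentric F T R := by
  refine ⟨hR, ?_⟩
  rintro _ ⟨φ, hφ, rfl⟩
  exact ((centralizerIn_antitone (Subgroup.map_le_range _ _)).trans
    (hP.2 _ (isConj_image F hφ hPR))).trans (Subgroup.map_le_range _ _)

theorem tCentric_of_isConj (hT : F.StronglyClosed T) {P R : Subgroup Ω} (hP : TCentric F T P)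
    (h : F.IsConj P R) : TCentric F T R := by
  refine ⟨?_, fun R' hR' => hP.2 R' (isConj_trans h hR')⟩
  obtain ⟨φ, hφ, rfl⟩ := h
  rintro _ ⟨x, rfl⟩
  exact sc_map_mem hT hφ (hP.1 x.2)

theorem centric_of_tCentric {E : FusionSystem T} (hE : E.IsSubsystemOf F) {P : Subgroup Ω}
    (hP : TCentric F T P) : E.IsCentric P :=
  ⟨hP.1, fun R ⟨φ, hφ, h⟩ => hP.2 R ⟨φ, hE P hφ, h⟩⟩

theorem tCentric_of_centric {E : FusionSystem T} (hE : E.IsInvariantIn F) {P : Subgroup Ω}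
    (hP : E.IsCentric P) : TCentric F T P := by
  refine ⟨hP.1, ?_⟩
  rintro _ ⟨φ, hφ, rfl⟩ c hc
  obtain ⟨α, -, e, he, hφe⟩ := hE.2.2.2 P hP.1 φ hφ
  have hcR : ((α.symm ⟨c, hc.1⟩ : T) : Ω) ∈ centralizerIn T e.range := by
    refine ⟨(α.symm _).2, Subgroup.mem_centralizer_iff.2 ?_⟩
    rintro _ ⟨z, rfl⟩
    have h1 : α ⟨e z, map_mem_S E he z⟩ * ⟨c, hc.1⟩ =
        ⟨c, hc.1⟩ * α ⟨e z, map_mem_S E he z⟩ := by
      refine Subtype.ext ?_
      show _ * c = c * _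
      rw [← hφe]
      exact Subgroup.mem_centralizer_iff.1 hc.2 _ ⟨z, rfl⟩
    have h2 := congrArg (fun s => ((α.symm s : T) : Ω)) h1
    simpa using h2
  obtain ⟨z, hz⟩ := hP.2 e.range ⟨e, he, rfl⟩ hcR
  refine ⟨z, ?_⟩
  have : (⟨e z, map_mem_S E he z⟩ : T) = α.symm ⟨c, hc.1⟩ := Subtype.ext hz
  rw [hφe z (map_mem_S E he z), this, MulEquiv.apply_symm_apply]

theorem autCongr_mem_of_invariant [Finite S] [Fact p.Prime] (hS : IsPGroup p S)
    (hF : F.IsSaturated p) {E : FusionSystem T} (hE : E.IsInvariantIn F) {R P : Subgroup Ω}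
    (hR : R ≤ T) {f : R ≃* P} (hf : IsIso F f) {a : MulAut R} (ha : a ∈ E.autGroup R) :
    MulAut.congr f a ∈ E.autGroup P := by
  obtain ⟨χ, hχ, hχe⟩ := (Cfsg.Agent.S5119.result p hS F hF E hE.1 hE.2.1).1 hE R R le_rfl hR
    _ (autGroup_mem_hom E hR ha) (fun x => (a x).2) _ hf
  have hP : P ≤ T := fun y hy => by
    have := sc_map_mem hE.2.1 hf (x := f.symm ⟨y, hy⟩) (hR (f.symm ⟨y, hy⟩).2)
    simpa using this
  have hle : P ≤ (R.subgroupOf R).map (P.subtype.comp f.toMonoidHom) := fun y hy =>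
    ⟨f.symm ⟨y, hy⟩, (f.symm ⟨y, hy⟩).2, by simp⟩
  refine (mem_autGroup E hP).2 (mem_hom_congr E (restr_mem E hle hχ) fun y => ?_)
  obtain ⟨x, rfl⟩ := f.surjective y
  refine Eq.trans ?_ (hχe x ⟨x, x.2, rfl⟩).symm
  show ((MulAut.congr f a (f x) : P) : Ω) = f (a x)
  rw [autCongr_apply, MulEquiv.symm_apply_apply]

theorem isConj_rfl_T (hT : F.StronglyClosed T) {P : Subgroup Ω} (hP : TCentric F T P) :
    centralizerIn T P ≤ P :=
  hP.2 P (isConj_refl F (hP.1.trans hT.1))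

/-- The value of a good extension on `C_S(T)` stays in `φ(P) ⊔ C_S(T)`. -/
theorem good_value (hT : F.StronglyClosed T) {P : Subgroup Ω} {φ : P →* Ω} (hφ : φ ∈ F.Hom P)
    (hP : TCentric F T P) {ψ : ↥(P ⊔ centralizerIn S T) →* Ω}
    (hψ : ψ ∈ F.Hom (P ⊔ centralizerIn S T))
    (he : ∀ x : P, ψ ⟨x, Subgroup.mem_sup_left x.2⟩ = φ x)
    (hc : ∀ c : ↥(centralizerIn S T),
      (c : Ω)⁻¹ * ψ ⟨c, Subgroup.mem_sup_right c.2⟩ ∈ T)
    (c : ↥(centralizerIn S T)) :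
    (c : Ω)⁻¹ * ψ ⟨c, Subgroup.mem_sup_right c.2⟩ ∈ φ.range := by
  refine hP.2 _ ⟨φ, hφ, rfl⟩ ⟨hc c, Subgroup.mem_centralizer_iff.2 ?_⟩
  rintro _ ⟨x, rfl⟩
  have h1 : φ x * (c : Ω) = c * φ x :=
    Subgroup.mem_centralizer_iff.1 c.2.2 _ (sc_map_mem hT hφ (hP.1 x.2))
  have h2 : φ x * ψ ⟨c, Subgroup.mem_sup_right c.2⟩ =
      ψ ⟨c, Subgroup.mem_sup_right c.2⟩ * φ x := by
    rw [← he x, ← map_mul, ← map_mul]
    exact congrArg ψ (Subtype.ext (Subgroup.mem_centralizer_iff.1 c.2.2 _ (hP.1 x.2)))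
  have h3 : φ x * (c : Ω)⁻¹ = (c : Ω)⁻¹ * φ x := ((show Commute (φ x) (c : Ω) from h1).inv_right).eq
  rw [← mul_assoc, h3, mul_assoc, h2, mul_assoc]

/-- The maps of `E` that, on centric sources, extend across `C_S(T)` trivially modulo `T`. -/
def goodExtSystem (F : FusionSystem S) (E : FusionSystem T) (hE : E.IsSubsystemOf F)
    (hT : F.StronglyClosed T) : FusionSystem T :=
  subSystem E
    (fun P φ => TCentric F T P → ∃ ψ ∈ F.Hom (P ⊔ centralizerIn S T),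
      (∀ x : P, ψ ⟨x, Subgroup.mem_sup_left x.2⟩ = φ x) ∧
      ∀ c : ↥(centralizerIn S T), (c : Ω)⁻¹ * ψ ⟨c, Subgroup.mem_sup_right c.2⟩ ∈ T)
    (fun {P g} hP hg _ => by
      refine ⟨conjHom _ g, F.conj_mem (sup_le (hP.trans hT.1) (centralizerIn_le T)) (hT.1 hg),
        fun _ => rfl, fun c => ?_⟩
      show (c : Ω)⁻¹ * (g * c * g⁻¹) ∈ T
      rw [Subgroup.mem_centralizer_iff.1 c.2.2 g hg, mul_inv_cancel_right, inv_mul_cancel]
      exact T.one_mem)
    (by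
      rintro P R φ χ hφ hχ a b h hP
      obtain ⟨ψ, hψ, hψe, hψc⟩ := a hP
      have hφR : φ.range ≤ R := by
        rintro _ ⟨x, rfl⟩
        exact h x
      have hR : TCentric F T R :=
        tCentric_mono (tCentric_of_isConj hT hP ⟨φ, hE P hφ, rfl⟩) hφR (le_S E hχ)
      obtain ⟨ψ', hψ', hψ'e, hψ'c⟩ := b hR
      have ht := fun c => hφR (good_value hT (hE P hφ) hP hψ hψe hψc c)
      have hm : ∀ y, ψ y ∈ R ⊔ centralizerIn S T := fun y => range_le_sup_of_le ψ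
        (fun x hx => Subgroup.mem_sup_left ((hψe ⟨x, hx⟩).symm ▸ h ⟨x, hx⟩))
        (fun x hx => by
          have h1 := (R ⊔ centralizerIn S T).mul_mem (Subgroup.mem_sup_right hx)
            (Subgroup.mem_sup_left (ht ⟨x, hx⟩))
          rw [mul_inv_cancel_left] at h1
          exact h1)
        ⟨y, rfl⟩
      refine ⟨_, F.comp_mem hψ hψ' hm, fun x => ?_, fun c => ?_⟩
      · exact (congrArg ψ' (Subtype.ext (hψe x))).trans (hψ'e ⟨φ x, h x⟩)
      · have e : (⟨ψ ⟨c, Subgroup.mem_sup_right c.2⟩, hm _⟩ : ↥(R ⊔ centralizerIn S T)) =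
            ⟨c, Subgroup.mem_sup_right c.2⟩ * ⟨_, Subgroup.mem_sup_left (ht c)⟩ :=
          Subtype.ext (mul_inv_cancel_left _ _).symm
        show (c : Ω)⁻¹ * ψ' ⟨ψ _, hm _⟩ ∈ T
        rw [e, map_mul, ← mul_assoc]
        exact T.mul_mem (hψ'c c) (sc_map_mem hT hψ' (le_S E hχ (ht c))))
    (by
      rintro P φ hφ a χ hχ he hR
      have hP : TCentric F T P := tCentric_of_isConj hT hR (isConj_symm ⟨φ, hE P hφ, rfl⟩)
      obtain ⟨ψ, hψ, hψe, hψc⟩ := a hP
      obtain ⟨d, hd, hde⟩ := F.inv_mem hψ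
      have ht := good_value hT (hE P hφ) hP hψ hψe hψc
      have hφψ : φ.range ≤ ψ.range := by
        rintro _ ⟨x, rfl⟩
        exact ⟨_, hψe x⟩
      have hle : φ.range ⊔ centralizerIn S T ≤ ψ.range := sup_le hφψ fun c hc => by
        have h1 : ψ ⟨c, Subgroup.mem_sup_right hc⟩ ∈ ψ.range := ⟨_, rfl⟩
        have h2 := ψ.range.mul_mem h1 (ψ.range.inv_mem (hφψ (ht ⟨c, hc⟩)))
        simpa using h2
      refine ⟨restr hle d, restr_mem F hle hd, ?_, fun c => ?_⟩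
      · rintro ⟨_, x, rfl⟩
        rw [he x]
        refine Eq.trans ?_ (hde ⟨x, Subgroup.mem_sup_left x.2⟩)
        exact congrArg d (Subtype.ext (hψe x).symm)
      · obtain ⟨z, hz⟩ := ht c
        have e : (⟨(c : Ω), hle (Subgroup.mem_sup_right c.2)⟩ : ψ.range) =
            ⟨ψ ⟨c, Subgroup.mem_sup_right c.2⟩, _, rfl⟩ *
              ⟨ψ ⟨z, Subgroup.mem_sup_left z.2⟩, _, rfl⟩⁻¹ := by
          refine Subtype.ext ?_
          show (c : Ω) = ψ _ * (ψ _)⁻¹
          rw [hψe z, hz]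
          group
        show (c : Ω)⁻¹ * d ⟨(c : Ω), _⟩ ∈ T
        rw [e, map_mul, map_inv, hde, hde, inv_mul_cancel_left]
        exact T.inv_mem (hP.1 z.2))

theorem mem_normalizer_sup {A B : Subgroup Ω} {g : Ω}
    (hA : g ∈ Subgroup.normalizer (A : Set Ω)) (hB : g ∈ Subgroup.normalizer (B : Set Ω)) :
    g ∈ Subgroup.normalizer ((A ⊔ B : Subgroup Ω) : Set Ω) := by
  have key : ∀ h : Ω, h ∈ Subgroup.normalizer (A : Set Ω) → h ∈ Subgroup.normalizer (B : Set Ω) →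
      ∀ w : ↥(A ⊔ B), h * (w : Ω) * h⁻¹ ∈ A ⊔ B := fun h ha hb w =>
    range_le_sup_of_le (conjHom (A ⊔ B) h)
      (fun x hx => Subgroup.mem_sup_left ((Subgroup.mem_normalizer_iff.1 ha _).1 hx))
      (fun x hx => Subgroup.mem_sup_right ((Subgroup.mem_normalizer_iff.1 hb _).1 hx)) ⟨w, rfl⟩
  refine Subgroup.mem_normalizer_iff.2 fun x => ⟨fun hx => key g hA hB ⟨x, hx⟩, fun hx => ?_⟩
  have := key g⁻¹ (Subgroup.inv_mem _ hA) (Subgroup.inv_mem _ hB) ⟨_, hx⟩
  simpa [mul_assoc] using this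

theorem pElem_mem_good [Finite S] [Fact p.Prime] (hS : IsPGroup p S) (hF : F.IsSaturated p)
    {E : FusionSystem T} (hE : E.IsInvariantIn F) (hEs : E.IsSaturated p) {P : Subgroup Ω}
    (hP : TCentric F T P) :
    pElemGroup E p P ≤ (goodExtSystem F E hE.1 hE.2.1).autGroup P := by
  have hT := hE.2.1
  have hTS := hT.1
  have : Finite T := finite_of_le ‹_› hTS
  have hPS : P ≤ S := hP.1.trans hTS
  rw [pElemGroup, Subgroup.map_le_iff_le_comap, Subgroup.closure_le]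
  rintro a ⟨k, hk⟩
  refine (mem_autGroup _ hP.1).2 ⟨autGroup_mem_hom E hP.1 a.2, fun _ => ?_⟩
  obtain ⟨R, hPR, hR⟩ := exists_fullyNormalized F hPS
  have hRc := tCentric_of_isConj hT hP hPR
  obtain ⟨f, hf⟩ := (isConj_iff_exists_iso F).1 hPR
  have hRfc := (saturated_fullyNormalized hS hF hR).1
  have hrec := saturated_fullyCentralized hS hF hRfc
  -- `R` is fully normalized in `E`
  have hRE : E.IsFullyNormalized R := by
    refine ⟨hRc.1, fun Q hQ => ?_⟩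
    have hQF : F.IsConj Q R :=
      isConj_symm (by obtain ⟨φ, hφ, h⟩ := hQ; exact ⟨φ, hE.1 R hφ, h⟩)
    obtain ⟨θ, hθ, hθN, -⟩ := exists_normalizer_map_fullyNormalized hS hF hR hQF
    have : Finite ↥(normalizerIn T R) := finite_of_le ‹_› (normalizerIn_le R)
    have hle : normalizerIn T Q ≤ normalizerIn S Q := inf_le_inf_right _ hTS
    refine Nat.card_le_card_of_injective (fun g : ↥(normalizerIn T Q) =>
      (⟨θ (Subgroup.inclusion hle g), sc_map_mem hT hθ g.2.1, (hθN _).2⟩ : ↥(normalizerIn T R)))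
      fun x y h => ?_
    exact Subgroup.inclusion_injective hle (F.injective_of_mem hθ (congrArg Subtype.val h :))
  -- conjugate into `Aut_T(R)`
  set b := MulAut.congr f (a : MulAut P) with hbdef
  have hb : b ∈ E.autGroup R := autCongr_mem_of_invariant hS hF hE hP.1 hf a.2
  have hbp : IsPGroup p (Subgroup.zpowers b) := by
    refine IsPGroup.of_card (n := k) ?_
    rw [Nat.card_zpowers, hbdef, MulEquiv.orderOf_eq (MulAut.congr f) (a : MulAut P),
      Subgroup.orderOf_coe, hk]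
  obtain ⟨χ, hχ, hconj⟩ := exists_conj_le_autInducedBy
    (saturated_fullyNormalized (hS.to_le hTS) hEs hRE).2 hbp (Subgroup.zpowers_le.2 hb)
  obtain ⟨t, ht, hte⟩ := mem_autInducedBy.1 (hconj b (Subgroup.mem_zpowers b))
  -- extend `χ` to `R C_S(R)`
  have hRS : R ≤ S := hR.1
  have hχF : χ ∈ F.autGroup R :=
    (mem_autGroup F hRS).2 (hE.1 R (autGroup_mem_hom E hRc.1 hχ))
  set U := R ⊔ centralizerIn S R
  have hUS : U ≤ S := sup_le hRS (centralizerIn_le R)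
  obtain ⟨ψ, hψ, hψe⟩ := exists_ext_aut' hrec hχF (le_sup_left : R ≤ U)
    (sup_le (le_normalizerIn hRS) (centralizerIn_le_normalizerIn R))
    (sup_le (le_carried_self F hRS χ) (centralizer_le_carried R χ))
  have : Finite U := finite_of_le ‹_› hUS
  have hψr : ψ.range = U := by
    refine range_eq_of_image_le (F.injective_of_mem hψ) (range_le_sup_of_le ψ
      (fun x hx => Subgroup.mem_sup_left ((hψe ⟨x, hx⟩).symm ▸ (χ ⟨x, hx⟩).2))
      fun x hx => Subgroup.mem_sup_right ⟨map_mem_S F hψ x,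
        Subgroup.mem_centralizer_iff.2 fun r hr => ?_⟩) le_rfl
    obtain ⟨r', hr'⟩ := χ.surjective ⟨r, hr⟩
    have e : r = ψ (Subgroup.inclusion le_sup_left r') := by rw [hψe, hr']
    rw [e, ← map_mul, ← map_mul]
    exact congrArg ψ (Subtype.ext (Subgroup.mem_centralizer_iff.1 hx.2 _ r'.2))
  set A := toIso F hψ hψr
  have hA : A ∈ F.autGroup U := toIso_mem_autGroup F hψ hψr
  have htR : t ∈ Subgroup.normalizer (R : Set Ω) :=
    mem_normalizer_of_conj_eq (χ * b * χ⁻¹) fun x => hte x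
  have htU : t ∈ Subgroup.normalizer (U : Set Ω) := by
    refine mem_normalizer_sup htR ?_
    have key : ∀ g : Ω, g ∈ S → g ∈ Subgroup.normalizer (R : Set Ω) →
        ∀ c ∈ centralizerIn S R, g * c * g⁻¹ ∈ centralizerIn S R := by
      intro g hgS hg c hc
      refine ⟨S.mul_mem (S.mul_mem hgS hc.1) (S.inv_mem hgS),
        Subgroup.mem_centralizer_iff.2 fun r hr => ?_⟩
      have h1 := (Subgroup.mem_normalizer_iff.1 ((Subgroup.normalizer _).inv_mem hg) r).1 hr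
      rw [inv_inv] at h1
      calc r * (g * c * g⁻¹) = g * ((g⁻¹ * r * g) * c) * g⁻¹ := by group
        _ = g * (c * (g⁻¹ * r * g)) * g⁻¹ := by
          rw [Subgroup.mem_centralizer_iff.1 hc.2 _ h1]
        _ = g * c * g⁻¹ * r := by group
    refine Subgroup.mem_normalizer_iff.2 fun x => ⟨key t (hTS ht) htR x, fun hx => ?_⟩
    have := key t⁻¹ (S.inv_mem (hTS ht)) ((Subgroup.normalizer _).inv_mem htR) _ hx
    simpa [mul_assoc] using this
  set ct := U.normalizerMonoidHom ⟨t, htU⟩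
  have hct : ct ∈ F.autGroup U :=
    autInducedBy_le_autGroup F hUS (mem_autInducedBy.2 ⟨t, hTS ht, fun _ => rfl⟩)
  set K := A⁻¹ * ct * A with hKdef
  have hK : K ∈ F.autGroup U := mul_mem (mul_mem ((F.autGroup U).inv_mem hA) hct) hA
  have hKR : ∀ x : R, (K ⟨x, Subgroup.mem_sup_left x.2⟩ : Ω) = b x := by
    intro x
    have h1 : ct (A ⟨x, Subgroup.mem_sup_left x.2⟩) = A ⟨b x, Subgroup.mem_sup_left (b x).2⟩ := by
      refine Subtype.ext ?_
      have h3 := hte (χ x)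
      simp only [MulAut.mul_apply, MulAut.inv_def, MulEquiv.symm_apply_apply] at h3
      show t * ψ _ * t⁻¹ = ψ _
      rw [show ψ ⟨x, Subgroup.mem_sup_left x.2⟩ = χ x from hψe x,
        show ψ ⟨b x, Subgroup.mem_sup_left (b x).2⟩ = χ (b x) from hψe (b x)]
      exact h3.symm
    show ((A.symm (ct (A _)) : U) : Ω) = _
    rw [h1, MulEquiv.symm_apply_apply]
  have hKT : ∀ y : U, (y : Ω)⁻¹ * (K y : Ω) ∈ T := by
    intro y
    have hz : ((A y : U) : Ω)⁻¹ * (ct (A y) : Ω) ∈ T := by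
      show ((A y : U) : Ω)⁻¹ * (t * (A y : Ω) * t⁻¹) ∈ T
      have hzS : ((A y : U) : Ω)⁻¹ ∈ S := S.inv_mem (hUS (A y).2)
      have h1 := T.mul_mem (sc_conj_mem hT hzS ht) (T.inv_mem ht)
      simpa [mul_assoc] using h1
    have hAi := autGroup_mem_hom F hUS ((F.autGroup U).inv_mem hA)
    have h2 := sc_map_mem hT hAi (x := (A y)⁻¹ * ct (A y)) hz
    simp only [MonoidHom.coe_comp, MulEquiv.coe_toMonoidHom, Function.comp_apply,
      Subgroup.coe_subtype] at h2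
    simpa [hKdef, MulAut.inv_def] using h2
  -- pull back to `P C_S(T)`
  obtain ⟨g, hg, hge⟩ := hrec.2 P _ hf (range_subtype_comp f)
  set Y := P ⊔ centralizerIn S T
  have hCP : centralizerIn S T ≤ centralizerIn S P := centralizerIn_antitone hP.1
  have hle : Y ≤ extender S P (R.subtype.comp f.toMonoidHom) :=
    sup_le (le_extender hPS fun x => map_mem_S F hf x)
      (hCP.trans (centralizerIn_le_extender _))
  have hgP : ∀ (y : Y) (hy : (y : Ω) ∈ P), restr hle g y = f ⟨y, hy⟩ :=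
    fun y hy => hge y hy (hle y.2)
  have hgC : ∀ y : Y, (y : Ω) ∈ centralizerIn S T → restr hle g y ∈ centralizerIn S R := by
    intro y hy
    refine ⟨map_mem_S F hg _, Subgroup.mem_centralizer_iff.2 fun r hr => ?_⟩
    obtain ⟨x, hx⟩ := f.surjective ⟨r, hr⟩
    have e : r = restr hle g ⟨x, Subgroup.mem_sup_left x.2⟩ := by rw [hgP _ x.2, hx]
    rw [e, ← map_mul, ← map_mul]
    exact congrArg _ (Subtype.ext (Subgroup.mem_centralizer_iff.1 (hCP hy).2 _ x.2))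
  have hgU : ∀ y, restr hle g y ∈ U := fun y => range_le_sup_of_le (restr hle g)
    (fun x hx => Subgroup.mem_sup_left ((hgP x hx).symm ▸ (f ⟨x, hx⟩).2))
    (fun x hx => Subgroup.mem_sup_right (hgC x hx)) ⟨y, rfl⟩
  have hgr := restr_mem F hle hg
  have hRr : R ≤ (restr hle g).range := fun r hr => by
    obtain ⟨x, hx⟩ := f.surjective ⟨r, hr⟩
    exact ⟨⟨x, Subgroup.mem_sup_left x.2⟩, by rw [hgP _ x.2, hx]⟩
  have hz : ∀ y : Y, (y : Ω) ∈ centralizerIn S T →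
      (restr hle g y)⁻¹ * (K ⟨_, hgU y⟩ : Ω) ∈ R := by
    intro y hy
    refine isConj_rfl_T hT hRc ⟨hKT ⟨_, hgU y⟩, ?_⟩
    refine (Subgroup.centralizer _).mul_mem ((Subgroup.centralizer _).inv_mem (hgC y hy).2) ?_
    refine Subgroup.mem_centralizer_iff.2 fun r hr => ?_
    obtain ⟨r', hr'⟩ := b.surjective ⟨r, hr⟩
    have e : r = (K ⟨r', Subgroup.mem_sup_left r'.2⟩ : Ω) := by rw [hKR, hr']
    rw [e, ← Subgroup.coe_mul, ← Subgroup.coe_mul, ← map_mul, ← map_mul]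
    exact congrArg (fun w => ((K w : U) : Ω))
      (Subtype.ext (Subgroup.mem_centralizer_iff.1 (hgC y hy).2 _ r'.2))
  have hKr : ∀ y, (K ⟨_, hgU y⟩ : Ω) ∈ (restr hle g).range := fun y =>
    range_le_sup_of_le (((U.subtype.comp K.toMonoidHom)).comp ((restr hle g).codRestrict U hgU))
      (fun x hx => by
        refine hRr ?_
        show (K ⟨_, hgU x⟩ : Ω) ∈ R
        have e : (⟨_, hgU x⟩ : U) = ⟨f ⟨x, hx⟩, Subgroup.mem_sup_left (f ⟨x, hx⟩).2⟩ :=
          Subtype.ext (hgP x hx)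
        rw [e, hKR]
        exact (b _).2)
      (fun x hx => by
        have h1 := (restr hle g).range.mul_mem ⟨x, rfl⟩ (hRr (hz x hx))
        rw [mul_inv_cancel_left] at h1
        exact h1) ⟨y, rfl⟩
  obtain ⟨d, hd, hde⟩ := F.inv_mem hgr
  have hKF := F.comp_mem hgr (autGroup_mem_hom F hUS hK) hgU
  refine ⟨_, F.comp_mem hKF hd hKr, fun x => ?_, fun c => ?_⟩
  · show d ⟨(K ⟨_, hgU _⟩ : U), _⟩ = ((a : MulAut P) x : P)
    refine Eq.trans ?_ (hde ⟨((a : MulAut P) x : P), Subgroup.mem_sup_left (Subtype.mem _)⟩)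
    refine congrArg d (Subtype.ext ?_)
    show (K ⟨_, hgU _⟩ : Ω) = restr hle g _
    refine Eq.trans ?_ (hgP ⟨((a : MulAut P) x : P), Subgroup.mem_sup_left (Subtype.mem _)⟩
      ((a : MulAut P) x).2).symm
    have e : (⟨_, hgU ⟨x, Subgroup.mem_sup_left x.2⟩⟩ : U) =
        ⟨f x, Subgroup.mem_sup_left (f x).2⟩ := Subtype.ext (hgP _ x.2)
    refine Eq.trans (congrArg (fun w => ((K w : U) : Ω)) e) ?_
    rw [hKR, hbdef, autCongr_apply, MulEquiv.symm_apply_apply]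
  · obtain ⟨w, hw⟩ : ∃ w : P, restr hle g ⟨w, Subgroup.mem_sup_left w.2⟩ =
        (restr hle g ⟨c, Subgroup.mem_sup_right c.2⟩)⁻¹ * (K ⟨_, hgU _⟩ : Ω) := by
      obtain ⟨x, hx⟩ := f.surjective ⟨_, hz ⟨c, Subgroup.mem_sup_right c.2⟩ c.2⟩
      exact ⟨x, (hgP ⟨x, Subgroup.mem_sup_left x.2⟩ x.2).trans (congrArg Subtype.val hx)⟩
    have hval : (c : Ω) * w = d ⟨(K ⟨_, hgU ⟨c, Subgroup.mem_sup_right c.2⟩⟩ : U), hKr _⟩ := by
      refine Eq.trans ?_ (Eq.trans (hde (⟨c, Subgroup.mem_sup_right c.2⟩ *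
        ⟨w, Subgroup.mem_sup_left w.2⟩)).symm (congrArg d (Subtype.ext ?_)))
      · rfl
      · show restr hle g (_ * _) = _
        rw [map_mul, hw, mul_inv_cancel_left]
    show (c : Ω)⁻¹ * d ⟨(K ⟨_, hgU _⟩ : U), _⟩ ∈ T
    rw [← hval, inv_mul_cancel_left]
    exact hP.1 w.2

end Cfsg.Agent.FusionAlperin
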