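import Cfsg.Agent.FusionSub.PIndex
import Cfsg.Agent.FusionSys.Focal
import Cfsg.Agent.FusionAlperin.Alperin
import Cfsg.Agent.FusionAux.FactorAut

/-!
The hyperfocal subgroup and subsystems of `p`-power index.
-/

set_option autoImplicit false

open Cfsg Cfsg.FusionSystem
open Cfsg.Agent.FusionSys

namespace Cfsg.Agent.FusionAlperin

variable {Ω : Type*} [Group Ω] {S T : Subgroup Ω} {p : ℕ}

theorem autGroupCongr_mem_pResidual (F : FusionSystem S) {P Q : Subgroup Ω} {e : P ≃* Q}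
    (he : IsIso F e) {α : F.autGroup P} (hα : α ∈ pResidual p (F.autGroup P)) :
    autGroupCongr F he α ∈ pResidual p (F.autGroup Q) :=
  Cores.map_pResidual_le (p := p) (autGroupCongr F he).toMonoidHom ⟨α, hα, rfl⟩

/-- Maps with source `S` preserve the hyperfocal subgroup. -/
theorem hyperfocal_map_mem (F : FusionSystem S) {ψ : S →* Ω} (hψ : ψ ∈ F.Hom S) {y : S}
    (hy : (y : Ω) ∈ F.hyperfocalSubgroup p) : ψ y ∈ F.hyperfocalSubgroup p := by
  have key : F.hyperfocalSubgroup p ≤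
      ((F.hyperfocalSubgroup p).comap ψ).map S.subtype := by
    rw [hyperfocalSubgroup, Subgroup.closure_le]
    rintro _ ⟨P, α, x, hP, hα, rfl⟩
    refine ⟨⟨_, S.mul_mem (S.inv_mem (hP x.2)) (hP ((α : MulAut P) x).2)⟩, ?_, rfl⟩
    have hφ := restr_mem F hP hψ
    set e := toIso F hφ rfl with he'
    have he : IsIso F e := toIso_isIso F hφ rfl
    have h := focal_gen_mem_hyperfocal F he.le_right (autGroupCongr_mem_pResidual F he hα) (e x)
    rw [autGroupCongr_coe, autCongr_apply, MulEquiv.symm_apply_apply, he', toIso_coe, toIso_coe,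
      restr_apply, restr_apply, ← map_inv, ← map_mul] at h
    exact h
  obtain ⟨z, hz, hzy⟩ := key hy
  have : z = y := Subtype.ext hzy
  exact this ▸ hz

theorem hyperfocal_conj_mem (F : FusionSystem S) {g x : Ω} (hg : g ∈ S)
    (hx : x ∈ F.hyperfocalSubgroup p) : g * x * g⁻¹ ∈ F.hyperfocalSubgroup p :=
  hyperfocal_map_mem F (F.conj_mem le_rfl hg) (y := ⟨x, hyperfocal_le F hx⟩) hx

theorem mem_iff_conj_mem (hn : ∀ g ∈ S, ∀ x ∈ T, g * x * g⁻¹ ∈ T) {g x : Ω} (hg : g ∈ S) :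
    g * x * g⁻¹ ∈ T ↔ x ∈ T := by
  refine ⟨fun h => ?_, fun h => hn g hg x h⟩
  have h' := hn g⁻¹ (S.inv_mem hg) _ h
  have e : g⁻¹ * (g * x * g⁻¹) * g⁻¹⁻¹ = x := by group
  rwa [e] at h'

/-- Subgroups normal in `S` containing the hyperfocal subgroup are strongly closed. -/
theorem stronglyClosed_of_hyperfocal_le [Finite S] [Fact p.Prime] (hS : IsPGroup p S)
    {F : FusionSystem S} (hF : F.IsSaturated p) (hTS : T ≤ S)
    (hT : F.hyperfocalSubgroup p ≤ T) (hn : ∀ g ∈ S, ∀ x ∈ T, g * x * g⁻¹ ∈ T) :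
    F.StronglyClosed T := by
  let E : FusionSystem S := subSystem F (fun P φ => ∀ x : P, φ x ∈ T ↔ (x : Ω) ∈ T)
    (fun {P g} _ hg x => mem_iff_conj_mem hn hg)
    (fun {P Q φ ψ} _ _ a b h x => (b ⟨φ x, h x⟩).trans (a x))
    (fun {P φ} _ a ψ _ he y => by
      obtain ⟨x, hx⟩ := y.2
      have hy : y = ⟨φ x, x, rfl⟩ := Subtype.ext hx.symm
      rw [hy, he x]
      exact (a x).symm)
  have hle : F ≤ E := by
    refine le_of_autGroup_fullyNormalized hS hF E fun P hP => ?_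
    refine (FusionSub.autGroup_le_of_fullyAutomized (saturated_fullyNormalized hS hF hP).2).trans
      (sup_le ?_ (autInducedBy_le_autGroup E hP.1))
    rintro _ ⟨α, hα, rfl⟩
    refine (mem_autGroup E hP.1).2 ⟨autGroup_mem_hom F hP.1 α.2, fun x => ?_⟩
    have h := hT (focal_gen_mem_hyperfocal F hP.1 hα x)
    show (((α : MulAut P) x : P) : Ω) ∈ T ↔ _
    exact ⟨fun h' => by simpa using T.mul_mem h' (T.inv_mem h),
      fun h' => by simpa using T.mul_mem h' h⟩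
  exact sc_of_elements hTS fun P φ hφ x hx => ((hle P hφ).2 x).2 hx

theorem hyperfocal_stronglyClosed [Finite S] [Fact p.Prime] (hS : IsPGroup p S)
    {F : FusionSystem S} (hF : F.IsSaturated p) : F.StronglyClosed (F.hyperfocalSubgroup p) :=
  stronglyClosed_of_hyperfocal_le hS hF (hyperfocal_le F) le_rfl
    fun _ hg _ hx => hyperfocal_conj_mem F hg hx

/-! ### Invariance of subsystems of `p`-power index -/

open Classical in
/-- An automorphism of `T` as a function on the ambient group. -/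
noncomputable def autExt (β : MulAut T) (x : Ω) : Ω :=
  if h : x ∈ T then ((β ⟨x, h⟩ : T) : Ω) else x

theorem autExt_of_mem (β : MulAut T) {x : Ω} (h : x ∈ T) : autExt β x = (β ⟨x, h⟩ : T) :=
  dif_pos h

/-- The image of `P ≤ T` under `β`. -/
abbrev autImage (β : MulAut T) (P : Subgroup Ω) : Subgroup Ω :=
  (P.subgroupOf T).map (T.subtype.comp β.toMonoidHom)

theorem autExt_mem_autImage (β : MulAut T) {P : Subgroup Ω} (hP : P ≤ T) {x : Ω} (hx : x ∈ P) :
    autExt β x ∈ autImage β P := by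
  rw [autExt_of_mem β (hP hx)]
  exact ⟨⟨x, hP hx⟩, hx, rfl⟩

theorem exists_autExt_eq (β : MulAut T) {P : Subgroup Ω} (y : autImage β P) :
    ∃ x, x ∈ P ∧ x ∈ T ∧ autExt β x = y := by
  obtain ⟨z, hz, hzy⟩ := y.2
  exact ⟨z, hz, z.2, (autExt_of_mem β z.2).trans hzy⟩

theorem autImage_le (β : MulAut T) (P : Subgroup Ω) : autImage β P ≤ T := by
  rintro _ ⟨z, -, rfl⟩
  exact (β z).2

/-- A subsystem of `p`-power index over `T` is invariant under the automorphisms of `T` in `F`. -/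
theorem pPowerIndex_invariant [Finite S] [Fact p.Prime] (hS : IsPGroup p S) {F : FusionSystem S}
    {E : FusionSystem T} (hTS : T ≤ S) (hE : E.IsSaturated p) (hEF : E.HasPPowerIndexIn F p)
    {β : MulAut T} (hβ : β ∈ F.autGroup T) {P : Subgroup Ω} {φ : P →* Ω} (hφ : φ ∈ E.Hom P) :
    ∃ χ ∈ E.Hom (autImage β P), ∀ (x : P) (h : autExt β x ∈ autImage β P),
      χ ⟨autExt β x, h⟩ = autExt β (φ x) := by
  haveI : Finite T := finite_of_le ‹_› hTS
  have hβh : ∀ {x y : Ω}, x ∈ T → y ∈ T → autExt β (x * y) = autExt β x * autExt β y := by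
    intro x y hx hy
    rw [autExt_of_mem β hx, autExt_of_mem β hy, autExt_of_mem β (T.mul_mem hx hy),
      ← Subgroup.coe_mul, ← map_mul]
    rfl
  have hβi : ∀ {x : Ω}, x ∈ T → autExt β x⁻¹ = (autExt β x)⁻¹ := by
    intro x hx
    rw [autExt_of_mem β hx, autExt_of_mem β (T.inv_mem hx), ← Subgroup.coe_inv, ← map_inv]
    rfl
  let D : FusionSystem T := subSystem E
    (fun P φ => ∃ χ ∈ E.Hom (autImage β P), ∀ (x : P) (h : autExt β x ∈ autImage β P),
      χ ⟨autExt β x, h⟩ = autExt β (φ x))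
    (fun {P g} hP hg => by
      refine ⟨conjHom (autImage β P) (autExt β g), E.conj_mem (autImage_le β P)
        (by rw [autExt_of_mem β hg]; exact (β ⟨g, hg⟩).2), fun x h => ?_⟩
      show _ = autExt β (g * (x : Ω) * g⁻¹)
      rw [hβh (T.mul_mem hg (hP x.2)) (T.inv_mem hg), hβh hg (hP x.2), hβi hg]
      rfl)
    (fun {P Q φ ψ} hφ _ ⟨a, ha, hae⟩ ⟨b, hb, hbe⟩ h => by
      have hm : ∀ y, a y ∈ autImage β Q := by
        intro y
        obtain ⟨x, hx, hxT, hxy⟩ := exists_autExt_eq β y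
        have hy : y = ⟨autExt β (⟨x, hx⟩ : P), autExt_mem_autImage β (le_S E hφ) hx⟩ :=
          Subtype.ext hxy.symm
        rw [hy, hae]
        exact autExt_mem_autImage β (le_S E ‹_›) (h _)
      refine ⟨_, E.comp_mem ha hb hm, fun x hx => ?_⟩
      refine Eq.trans ?_ (hbe ⟨φ x, h x⟩ (autExt_mem_autImage β (le_S E ‹_›) (h x)))
      exact congrArg b (Subtype.ext (hae x hx)))
    (fun {P φ} hφ ⟨a, ha, hae⟩ ψ hψ he => by
      obtain ⟨c, hc, hce⟩ := E.inv_mem ha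
      have hle : autImage β φ.range ≤ a.range := by
        intro y hy
        obtain ⟨z, ⟨x, hxz⟩, hzT, hzy⟩ := exists_autExt_eq β ⟨y, hy⟩
        refine ⟨⟨_, autExt_mem_autImage β (le_S E hφ) x.2⟩, ?_⟩
        rw [hae, hxz]
        exact hzy
      refine ⟨_, restr_mem E hle hc, fun y hy => ?_⟩
      obtain ⟨x, hx⟩ := y.2
      have hy' : y = ⟨φ x, x, rfl⟩ := Subtype.ext hx.symm
      subst hy'
      rw [he x]
      refine Eq.trans ?_ (hce ⟨_, autExt_mem_autImage β (le_S E hφ) x.2⟩)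
      exact congrArg c (Subtype.ext (hae x (autExt_mem_autImage β (le_S E hφ) x.2)).symm))
  have hle : E.IsSubsystemOf D := by
    refine FusionSub.le_of_pResidual_le (hS.to_le hTS) hE D le_rfl fun R hR a ha => ?_
    obtain ⟨α, hα, rfl⟩ := FusionSub.map_pResidual_mono hEF.1 R ha
    have hres := hEF.2.2 R hR ⟨α, hα, rfl⟩
    refine (mem_autGroup D hR).2 ⟨autGroup_mem_hom E hR hres, ?_⟩
    have hφ := restr_mem F hR (autGroup_mem_hom F hTS hβ)
    have hr : (restr hR (T.subtype.comp β.toMonoidHom)).range = autImage β R := range_restr hR _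
    set e := toIso F hφ hr with he'
    have he : IsIso F e := toIso_isIso F hφ hr
    have h1 := hEF.2.2 _ (autImage_le β R) ⟨_, autGroupCongr_mem_pResidual F he hα, rfl⟩
    refine ⟨_, autGroup_mem_hom E (autImage_le β R) h1, fun x h => ?_⟩
    have hx : (⟨autExt β x, h⟩ : autImage β R) = e x := Subtype.ext (autExt_of_mem β (hR x.2))
    show ((MulAut.congr e (α : MulAut R) ⟨autExt β x, h⟩ : autImage β R) : Ω) =
      autExt β ((α : MulAut R) x : Ω)
    rw [hx, autCongr_apply, MulEquiv.symm_apply_apply]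
    exact (autExt_of_mem β (hR ((α : MulAut R) x).2)).symm
  exact (hle P hφ).2

theorem autExt_conj {g : Ω} (β : MulAut T) (hβ : ∀ x : T, (β x : Ω) = g * x * g⁻¹) {x : Ω}
    (hx : x ∈ T) : autExt β x = g * x * g⁻¹ := by
  rw [autExt_of_mem β hx]
  exact hβ _

theorem exists_conj_aut (F : FusionSystem S) (hTS : T ≤ S)
    (hn : ∀ g ∈ S, ∀ x ∈ T, g * x * g⁻¹ ∈ T) {g : Ω} (hg : g ∈ S) :
    ∃ β ∈ F.autGroup T, ∀ x : T, ((β x : T) : Ω) = g * x * g⁻¹ := by
  have hgN : g ∈ Subgroup.normalizer (T : Set Ω) :=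
    Subgroup.mem_normalizer_iff.2 fun x => (mem_iff_conj_mem hn hg).symm
  exact ⟨T.normalizerMonoidHom ⟨g, hgN⟩,
    autInducedBy_le_autGroup F hTS (mem_autInducedBy.2 ⟨g, hg, fun _ => rfl⟩), fun _ => rfl⟩

/-- Frattini decomposition for a subsystem of `p`-power index. -/
theorem pPowerIndex_frattini [Finite S] [Fact p.Prime] (hS : IsPGroup p S) {F : FusionSystem S}
    (hF : F.IsSaturated p) {E : FusionSystem T} (hTS : T ≤ S) (hE : E.IsSaturated p)
    (hEF : E.HasPPowerIndexIn F p) (hn : ∀ g ∈ S, ∀ x ∈ T, g * x * g⁻¹ ∈ T) {P : Subgroup Ω}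
    (hPT : P ≤ T) {φ : P →* Ω} (hφ : φ ∈ F.Hom P) :
    ∃ s ∈ S, ∃ φ₀ ∈ E.Hom P, ∀ x : P, φ x = s * φ₀ x * s⁻¹ := by
  have hsc := stronglyClosed_of_hyperfocal_le hS hF hTS hEF.2.1 hn
  let D : FusionSystem S := subSystem F
    (fun P φ => ∃ s ∈ S, ∃ φ₀ ∈ E.Hom (P ⊓ T),
      ∀ x : ↥(P ⊓ T), φ ⟨x, x.2.1⟩ = s * φ₀ x * s⁻¹)
    (fun {P g} _ hg => ⟨g, hg, _, subtype_mem E inf_le_right, fun x => rfl⟩)
    (fun {P Q φ ψ} hφ hψ ⟨s, hs, a, ha, hae⟩ ⟨t, ht, b, hb, hbe⟩ h => by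
      obtain ⟨β, hβ, hβe⟩ := exists_conj_aut F hTS hn (S.inv_mem hs)
      obtain ⟨χ, hχ, hχe⟩ := pPowerIndex_invariant hS hTS hE hEF hβ hb
      have hT' : ∀ x : ↥(P ⊓ T), φ ⟨x, x.2.1⟩ ∈ Q ⊓ T := fun x =>
        ⟨h _, sc_map_mem hsc hφ (x := ⟨x, x.2.1⟩) x.2.2⟩
      have key : ∀ x : ↥(P ⊓ T), autExt β (φ ⟨x, x.2.1⟩) = a x := by
        intro x
        rw [autExt_conj β hβe (hT' x).2, hae x]
        group
      have hm : ∀ x, a x ∈ autImage β (Q ⊓ T) := fun x =>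
        key x ▸ autExt_mem_autImage β inf_le_right (hT' x)
      refine ⟨t * s, S.mul_mem ht hs, _, E.comp_mem ha hχ hm, fun x => ?_⟩
      show ψ ⟨φ ⟨x, x.2.1⟩, _⟩ = _ * χ ⟨a x, hm x⟩ * _
      have h1 := hbe ⟨_, hT' x⟩
      have h2 := hχe ⟨_, hT' x⟩ (autExt_mem_autImage β inf_le_right (hT' x))
      have e : (⟨a x, hm x⟩ : autImage β (Q ⊓ T)) =
          ⟨_, autExt_mem_autImage β inf_le_right (hT' x)⟩ := Subtype.ext (key x).symm
      rw [e, h2, autExt_conj β hβe (map_mem_S E hb _)]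
      refine h1.trans ?_
      group)
    (fun {P φ} hφ ⟨s, hs, a, ha, hae⟩ ψ hψ he => by
      obtain ⟨c, hc, hce⟩ := E.inv_mem ha
      obtain ⟨β, hβ, hβe⟩ := exists_conj_aut F hTS hn hs
      obtain ⟨χ, hχ, hχe⟩ := pPowerIndex_invariant hS hTS hE hEF hβ hc
      have key : ∀ x : ↥(P ⊓ T), autExt β (a x) = φ ⟨x, x.2.1⟩ := by
        intro x
        rw [autExt_conj β hβe (map_mem_S E ha _), hae x]
      have hle : φ.range ⊓ T ≤ autImage β a.range := by
        rintro _ ⟨⟨x, rfl⟩, hxT⟩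
        have hx : (x : Ω) ∈ T := (sc_map_mem_iff hsc hφ x).1 hxT
        have := autExt_mem_autImage β (range_le_S E ha) (x := a ⟨x, x.2, hx⟩) ⟨_, rfl⟩
        rwa [key] at this
      refine ⟨s⁻¹, S.inv_mem hs, _, restr_mem E hle hχ, ?_⟩
      rintro ⟨y, ⟨x, rfl⟩, hyT⟩
      have hx : (x : Ω) ∈ T := (sc_map_mem_iff hsc hφ x).1 hyT
      rw [he x]
      have h2 := hχe ⟨a ⟨x, x.2, hx⟩, _, rfl⟩
        (autExt_mem_autImage β (range_le_S E ha) ⟨_, rfl⟩)
      rw [hce ⟨x, x.2, hx⟩, autExt_conj β hβe hx] at h2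
      have e : Subgroup.inclusion hle ⟨φ x, ⟨x, rfl⟩, hyT⟩ =
          ⟨_, autExt_mem_autImage β (range_le_S E ha) (x := a ⟨x, x.2, hx⟩) ⟨_, rfl⟩⟩ :=
        Subtype.ext (key ⟨x, x.2, hx⟩).symm
      show (x : Ω) = s⁻¹ * χ (Subgroup.inclusion hle _) * s⁻¹⁻¹
      rw [e, h2]
      group)
  have hle : F ≤ D := by
    refine le_of_autGroup_fullyNormalized hS hF D fun R hR => ?_
    refine (FusionSub.autGroup_le_of_fullyAutomized (saturated_fullyNormalized hS hF hR).2).trans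
      (sup_le ?_ (autInducedBy_le_autGroup D hR.1))
    rintro _ ⟨α, hα, rfl⟩
    refine (mem_autGroup D hR.1).2 ⟨autGroup_mem_hom F hR.1 α.2, 1, S.one_mem, ?_⟩
    suffices ∃ r ∈ E.autGroup (R ⊓ T), ∀ x : ↥(R ⊓ T),
        ((r x : ↥(R ⊓ T)) : Ω) = ((α : MulAut R) ⟨x, x.2.1⟩ : R) by
      obtain ⟨r, hr, he⟩ := this
      refine ⟨_, autGroup_mem_hom E inf_le_right hr, fun x => ?_⟩
      show (((α : MulAut R) ⟨x, x.2.1⟩ : R) : Ω) = 1 * ((r x : ↥(R ⊓ T)) : Ω) * 1⁻¹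
      rw [he, inv_one, one_mul, mul_one]
    induction hα using Subgroup.closure_induction with
    | one => exact ⟨1, one_mem _, fun x => rfl⟩
    | mul u v _ _ hu hv =>
      obtain ⟨a, ha, hae⟩ := hu
      obtain ⟨b, hb, hbe⟩ := hv
      refine ⟨a * b, mul_mem ha hb, fun x => ?_⟩
      show ((a (b x) : ↥(R ⊓ T)) : Ω) = ((u : MulAut R) ((v : MulAut R) ⟨x, x.2.1⟩) : R)
      rw [hae]
      exact congrArg (fun w => (((u : MulAut R) w : R) : Ω)) (Subtype.ext (hbe x))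
    | inv u _ hu =>
      obtain ⟨a, ha, hae⟩ := hu
      refine ⟨a⁻¹, (E.autGroup _).inv_mem ha, fun x => ?_⟩
      have h := hae (a⁻¹ x)
      rw [show a (a⁻¹ x) = x from a.apply_symm_apply x] at h
      have h2 : ((u : MulAut R))⁻¹ ⟨x, x.2.1⟩ = ⟨(a⁻¹ x : ↥(R ⊓ T)), (a⁻¹ x).2.1⟩ := by
        have h3 : (⟨x, x.2.1⟩ : R) = (u : MulAut R) ⟨(a⁻¹ x : ↥(R ⊓ T)), (a⁻¹ x).2.1⟩ :=
          Subtype.ext h
        rw [h3]
        exact (u : MulAut R).symm_apply_apply _
      exact (congrArg Subtype.val h2).symm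
    | mem u hu =>
      have hR' : R ⊓ T ≤ S := inf_le_left.trans hR.1
      have hφr := restr_mem F (inf_le_left : R ⊓ T ≤ R) (autGroup_mem_hom F hR.1 u.2)
      haveI : Finite (R ⊓ T : Subgroup Ω) := finite_of_le ‹_› hR'
      have hr : (restr (inf_le_left : R ⊓ T ≤ R)
          (R.subtype.comp (u : MulAut R).toMonoidHom)).range = R ⊓ T := by
        refine range_eq_of_image_le (F.injective_of_mem hφr) ?_ le_rfl
        rintro _ ⟨x, rfl⟩
        exact ⟨((u : MulAut R) _).2,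
          sc_map_mem hsc (autGroup_mem_hom F hR.1 u.2) (x := ⟨x, x.2.1⟩) x.2.2⟩
      set r := toIso F hφr hr with hrdef
      have hrF : r ∈ F.autGroup (R ⊓ T) := toIso_mem_autGroup F hφr hr
      have hpow : ∀ (n : ℕ) (x : ↥(R ⊓ T)),
          (((r : MulAut ↥(R ⊓ T)) ^ n) x : Ω) = (((u : MulAut R) ^ n) ⟨x, x.2.1⟩ : R) := by
        intro n
        induction n with
        | zero => intro x; rfl
        | succ n ih =>
          intro x
          rw [pow_succ', MulAut.mul_apply, pow_succ', MulAut.mul_apply]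
          exact congrArg (fun w => (((u : MulAut R) w : R) : Ω)) (Subtype.ext (ih x))
      have hord : orderOf (r : MulAut ↥(R ⊓ T)) ∣ orderOf u := by
        refine orderOf_dvd_of_pow_eq_one (MulEquiv.ext fun x => Subtype.ext ?_)
        rw [hpow, ← Subgroup.coe_pow, pow_orderOf_eq_one]
        rfl
      refine ⟨r, hEF.2.2 _ inf_le_right ⟨⟨r, hrF⟩, Subgroup.subset_closure ?_, rfl⟩, fun x => rfl⟩
      show (orderOf (⟨r, hrF⟩ : F.autGroup (R ⊓ T))).Coprime p
      rw [Subgroup.orderOf_mk]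
      exact Nat.Coprime.coprime_dvd_left hord hu
  obtain ⟨-, s, hs, a, ha, hae⟩ := hle P hφ
  have hP : P ≤ P ⊓ T := le_inf le_rfl hPT
  exact ⟨s, hs, _, restr_mem E hP ha, fun x => hae ⟨x, hP x.2⟩⟩

end Cfsg.Agent.FusionAlperin
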