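import Cfsg.Agent.FusionSys.SaturationCriterion

/-!
Normalizer maps from saturation of the classes of the overgroups of one class.
-/

set_option autoImplicit false

open Cfsg Cfsg.FusionSystem
open Cfsg.Agent.FusionSys

namespace Cfsg.Agent.FusionAlperin

variable {Ω : Type*} [Group Ω] {S : Subgroup Ω} {p : ℕ} {F : FusionSystem S} {P : Subgroup Ω}
  [Finite S] [Fact p.Prime]

/-- A map defined on `Y > R` and carrying `R` onto `P` gives a map on `N_S(R)`. -/
theorem niceOn_of_ext (hS : IsPGroup p S)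
    (hbig : ∀ Y R, Y ≤ S → R ≤ Y → F.IsConj R P → Nat.card P < Nat.card Y →
      ClassSaturated F p Y)
    (hP : F.IsFullyNormalized P) {Y R : Subgroup Ω} {ψ : Y →* Ω} (hψ : ψ ∈ F.Hom Y)
    (hc : Carries ψ R P) (hlt : Nat.card R < Nat.card Y) (hY : Y ≤ normalizerIn S R) :
    Nice F P R := by
  induction hd : Nat.card S - Nat.card Y using Nat.strong_induction_on generalizing Y R with
  | _ d IH =>
    have hYS := le_S F hψ
    rcases eq_or_lt_of_le hY with rfl | hYlt
    · exact ⟨ψ, hψ, hc⟩
    have : Finite S := ‹_›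
    have : Finite Y := finite_of_le ‹_› hYS
    have hcard := hc.card_eq (F.injective_of_mem hψ)
    obtain ⟨Y'', R'', hrec, hgood, e, he, hec⟩ :=
      exists_good_target hS hYS (hbig Y R hYS hc.1 ⟨_, restr_mem F hc.1 hψ, hc.range_restr_eq⟩ (hcard ▸ hlt)) hc.1
    obtain ⟨f, hf, hfc, -⟩ := exists_extension_to_target hS hrec hgood he hec
    let eψ := toIso F hψ rfl
    have hψinv := carries_symm F hψ rfl hc
    have he' : IsIso F (eψ.symm.trans e) := (toIso_isIso F hψ rfl).symm.trans he
    have hec' : Carries (Y''.subtype.comp (eψ.symm.trans e).toMonoidHom) P R'' :=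
      (hψinv.comp hec fun x => (eψ.symm x).2).of_congr fun _ => rfl
    obtain ⟨g, hg, hgc, -⟩ := exists_extension_to_target hS hrec hgood he' hec'
    have hY'le : ψ.range ≤ normalizerIn S P := by
      rintro _ ⟨x, rfl⟩
      exact hc.mem_normalizerIn hψ hY x
    have hY'card : Nat.card ψ.range = Nat.card Y := (Nat.card_congr eψ.toEquiv).symm
    have hY'lt : ψ.range < normalizerIn S P := by
      refine lt_of_le_of_ne hY'le fun he => ?_
      have : Finite (normalizerIn S R) := finite_of_le ‹_› (normalizerIn_le R)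
      have hn := hP.2 R (isConj_symm ⟨_, restr_mem F hc.1 hψ, hc.range_restr_eq⟩)
      rw [← he, hY'card] at hn
      exact hYlt.ne (eq_of_le_of_card_le hY hn)
    have hZ' := lt_kNorm_sup hS hc.le_range hY'lt
    have hgZ : Nat.card g.range = Nat.card ↥(ψ.range ⊔ kNorm S ψ.range (subStab ψ.range P)) :=
      (Nat.card_congr (toIso F hg rfl).toEquiv).symm
    have hgle : g.range ≤ normalizerIn S R'' := by
      rintro _ ⟨x, rfl⟩
      exact hgc.mem_normalizerIn hg (kNorm_sup_le hc.le_range hY'lt.le) x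
    have hR''card : Nat.card R'' = Nat.card P := (hgc.card_eq (F.injective_of_mem hg)).symm
    have hmeas : ∀ Z : Subgroup Ω, Z ≤ S → Nat.card Y < Nat.card Z →
        Nat.card S - Nat.card Z < d := fun Z hZ h => by
      have := Subgroup.card_le_of_le (H := Z) (K := S) hZ
      omega
    obtain ⟨α, hα, hαc⟩ : Nice F P R'' :=
      IH _ (hmeas g.range (range_le_S F hg) (by rw [hgZ, ← hY'card]; exact hZ'))
        (toIso_isIso F hg rfl).symm
        (carries_symm F hg rfl hgc) (by rw [hgZ, hR''card, ← hcard]; omega) hgle rfl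
    have hfv : ∀ x, f x ∈ normalizerIn S R'' :=
      fun x => hfc.mem_normalizerIn hf (kNorm_sup_le hc.1 hYlt.le) x
    have hZ := lt_kNorm_sup hS hc.1 hYlt
    exact IH _ (hmeas _ (le_S F hf) hZ) (F.comp_mem hf hα hfv) (hfc.comp hαc hfv)
      (hlt.trans hZ) (kNorm_sup_le hc.1 hYlt.le) rfl

/-- Conjugacy through a map defined on a larger subgroup respects `Nice`. -/
theorem niceOn_of_step (hS : IsPGroup p S)
    (hbig : ∀ Y R, Y ≤ S → R ≤ Y → F.IsConj R P → Nat.card P < Nat.card Y →
      ClassSaturated F p Y)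
    (hP : F.IsFullyNormalized P) {Q R R' : Subgroup Ω} {θ : Q →* Ω} (hθ : θ ∈ F.Hom Q)
    (hc : Carries θ R R') (hlt : R < Q) (h : Nice F P R') : Nice F P R := by
  obtain ⟨α, hα, hαc⟩ := h
  have hQ := le_S F hθ
  have : Finite Q := finite_of_le ‹_› hQ
  have hY := lt_inf_normalizer_of_lt (hS.to_le hQ) hlt
  have hle : Q ⊓ Subgroup.normalizer (R : Set Ω) ≤ normalizerIn S R :=
    inf_le_inf_right _ hQ
  have hres := hc.restrict hY.le inf_le_left
  have hv : ∀ x, restr inf_le_left θ x ∈ normalizerIn S R' :=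
    fun x => hres.mem_normalizerIn (restr_mem F _ hθ) hle x
  refine niceOn_of_ext hS hbig hP (F.comp_mem (restr_mem F _ hθ) hα hv) (hres.comp hαc hv) ?_ hle
  have : Finite ↥(Q ⊓ Subgroup.normalizer (R : Set Ω)) := finite_of_le ‹_› (inf_le_left.trans hQ)
  exact lt_of_not_ge fun h' => hY.ne (eq_of_le_of_card_le hY.le h')

end Cfsg.Agent.FusionAlperin
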