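import Cfsg.Agent.FusionAlperin.PPrimeResidual
import Cfsg.Agent.FusionAlperin.GoodExtension
import Cfsg.Agent.FusionAlperin.NiceOn

/-!
Two weakly normal subsystems over the same subgroup `T`: the `p'`-residual of one lies in the other.
-/

set_option autoImplicit false

open Cfsg Cfsg.FusionSystem
open Cfsg.Agent.FusionSys

namespace Cfsg.Agent.FusionAlperin

universe u

variable {Ω : Type u} [Group Ω] {S T : Subgroup Ω} {p : ℕ} {F : FusionSystem S}

/-- `N_T(P)` is as large as possible in the `F`-class of `P`. -/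
def TFN (F : FusionSystem S) (T P : Subgroup Ω) : Prop :=
  P ≤ T ∧ ∀ R : Subgroup Ω, F.IsConj P R →
    Nat.card (normalizerIn T R) ≤ Nat.card (normalizerIn T P)

theorem card_normalizerT_le [Finite T] (hT : F.StronglyClosed T) {Y A B : Subgroup Ω}
    {θ : Y →* Ω} (hθ : θ ∈ F.Hom Y) (hc : Carries θ A B) (hY : normalizerIn T A ≤ Y) :
    Nat.card (normalizerIn T A) ≤ Nat.card (normalizerIn T B) := by
  have hA := hc.1
  have : Finite ↥(normalizerIn T B) := finite_of_le ‹_› (normalizerIn_le B)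
  refine Nat.card_le_card_of_injective (fun g : ↥(normalizerIn T A) =>
    (⟨θ (Subgroup.inclusion hY g), sc_map_mem hT hθ g.2.1, ?_⟩ : ↥(normalizerIn T B))) ?_
  · have hres := hc.restrict (le_inf hA Subgroup.le_normalizer)
      (inf_le_left : Y ⊓ Subgroup.normalizer (A : Set Ω) ≤ Y)
    exact hres.mem_normalizer inf_le_right ⟨g, hY g.2, g.2.2⟩
  · exact fun a b h =>
      Subgroup.inclusion_injective hY (F.injective_of_mem hθ (congrArg Subtype.val h :))

theorem tfn_fullyNormalized {E : FusionSystem T} (hE : E.IsSubsystemOf F) {P : Subgroup Ω}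
    (hP : TFN F T P) : E.IsFullyNormalized P :=
  ⟨hP.1, fun R ⟨φ, hφ, h⟩ => hP.2 R ⟨φ, hE P hφ, h⟩⟩

theorem tfn_of_fullyNormalized [Finite S] [Fact p.Prime] (hS : IsPGroup p S)
    (hF : F.IsSaturated p) (hT : F.StronglyClosed T) {P : Subgroup Ω} (hP : F.IsFullyNormalized P)
    (hPT : P ≤ T) : TFN F T P := by
  refine ⟨hPT, fun R hR => ?_⟩
  have : Finite T := finite_of_le ‹_› hT.1
  obtain ⟨θ, hθ, -, hm⟩ := exists_normalizer_map_fullyNormalized hS hF hP (isConj_symm hR)
  have hRS : R ≤ S := isConj_le_right hR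
  exact card_normalizerT_le hT hθ ⟨le_normalizerIn hRS, hm⟩ (inf_le_inf_right _ hT.1)

variable [Finite S] [Fact p.Prime]

/-- A map of the generated subsystem on `N_T(R)` taking `R` to a subgroup with largest
normalizer in `T`. -/
theorem exists_e0_tfn (hS : IsPGroup p S) (hF : F.IsSaturated p) {E : FusionSystem T}
    (hE : E.IsInvariantIn F) (hEs : E.IsSaturated p) {R : Subgroup Ω} (hR : R ≤ T) :
    ∃ e ∈ (centricPElemSystem E p).Hom (normalizerIn T R), ∃ R₀, Carries e R R₀ ∧
      TFN F T R₀ := by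
  have hT := hE.2.1
  have hTS := hT.1
  have : Finite T := finite_of_le ‹_› hTS
  obtain ⟨P, hRP, hP⟩ := exists_fullyNormalized F (hR.trans hTS)
  obtain ⟨χ, hχ, -, hχm⟩ := exists_normalizer_map_fullyNormalized hS hF hP hRP
  have hle : normalizerIn T R ≤ normalizerIn S R := inf_le_inf_right _ hTS
  obtain ⟨α, hα, e, he, hχe⟩ :=
    hE.2.2.2 _ (normalizerIn_le R) _ (restr_mem F hle hχ)
  obtain ⟨γ, hγ, e₀, he₀, hee⟩ := centricPElem_decomp (hS.to_le hTS) hEs he
  have hRN : R ≤ normalizerIn T R := le_normalizerIn hR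
  refine ⟨e₀, he₀, (restr hRN e₀).range, ⟨hRN, (range_restr hRN e₀).symm⟩, ?_⟩
  have hc : Carries (restr hle χ) R P :=
    (Carries.restrict ⟨le_normalizerIn (hR.trans hTS), hχm⟩ hRN hle)
  have hPT : P ≤ T := by
    intro y hy
    obtain ⟨x, hx, rfl⟩ := hc.exists_preimage hy
    exact sc_map_mem hT (restr_mem F hle hχ) (hR hx)
  set R₀ := (restr hRN e₀).range
  have hR₀T : R₀ ≤ T := range_le_S _ (restr_mem _ hRN he₀)
  refine ⟨hR₀T, fun Q hQ => ?_⟩
  set δ := α * γ with hδdef
  have hγF : γ ∈ F.autGroup T := (mem_autGroup F hTS).2 (hE.1 T (autGroup_mem_hom E le_rfl hγ))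
  have hδ : δ ∈ F.autGroup T := mul_mem hα hγF
  have hval : ∀ (x : Ω) (hx : x ∈ normalizerIn T R),
      restr hle χ ⟨x, hx⟩ = (δ ⟨e₀ ⟨x, hx⟩, map_mem_S _ he₀ _⟩ : T) := fun x hx => by
    rw [hχe ⟨x, hx⟩ (map_mem_S E he _)]
    refine congrArg (fun w => ((α w : T) : Ω)) (Subtype.ext ?_)
    exact (hee _).trans (autExt_of_mem γ (map_mem_S _ he₀ _))
  have hδc : Carries (T.subtype.comp δ⁻¹.toMonoidHom) P R₀ := by
    refine ⟨hPT, ?_⟩
    ext y
    rw [mem_map_subgroupOf]
    constructor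
    · rintro ⟨z, hz, rfl⟩
      obtain ⟨x, hx, hxz⟩ := hc.exists_preimage hz
      refine ⟨⟨x, hx⟩, ?_⟩
      have e1 : z = δ ⟨e₀ x, map_mem_S _ he₀ _⟩ :=
        Subtype.ext (hxz.symm.trans (hval x x.2))
      show e₀ _ = ((δ.symm z : T) : Ω)
      rw [e1, MulEquiv.symm_apply_apply]
      rfl
    · rintro ⟨x, rfl⟩
      refine ⟨δ ⟨e₀ (Subgroup.inclusion hRN x), map_mem_S _ he₀ _⟩, ?_, ?_⟩
      · exact (hval x (hRN x.2)) ▸ hc.apply_mem (x := Subgroup.inclusion hRN x) x.2
      · show ((δ.symm (δ _) : T) : Ω) = _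
        rw [MulEquiv.symm_apply_apply]
        rfl
  refine ((tfn_of_fullyNormalized hS hF hT hP hPT).2 Q ?_).trans
    (card_normalizerT_le hT (autGroup_mem_hom F hTS ((F.autGroup T).inv_mem hδ)) hδc
      (normalizerIn_le P))
  refine isConj_trans (isConj_symm hRP) (isConj_trans ?_ hQ)
  exact ⟨_, hE.1 R (centricPElemSystem_sub E R (restr_mem _ hRN he₀)), rfl⟩

/-- A weakly normal subsystem contains the `p`-elements of the automizers of every other one. -/
theorem pElem_le_of_invariant (hS : IsPGroup p S) (hF : F.IsSaturated p) {E D : FusionSystem T}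
    (hE : E.IsInvariantIn F) (hEs : E.IsSaturated p) (hD : D.IsInvariantIn F) {P : Subgroup Ω}
    (hPT : P ≤ T) : pElemGroup E p P ≤ D.autGroup P := by
  have hT := hE.2.1
  have hTS := hT.1
  have : Finite T := finite_of_le ‹_› hTS
  rw [pElemGroup, Subgroup.map_le_iff_le_comap, Subgroup.closure_le]
  rintro a ⟨k, hk⟩
  obtain ⟨R, hPR, hR⟩ := exists_fullyNormalized F (hPT.trans hTS)
  obtain ⟨f, hf⟩ := (isConj_iff_exists_iso F).1 hPR
  have hRT : R ≤ T := fun y hy => by
    have := sc_map_mem hT hf (x := f.symm ⟨y, hy⟩) (hPT (f.symm ⟨y, hy⟩).2)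
    simpa using this
  have hRE := tfn_fullyNormalized hE.1 (tfn_of_fullyNormalized hS hF hT hR hRT)
  set b := MulAut.congr f (a : MulAut P) with hbdef
  have hb : b ∈ E.autGroup R := autCongr_mem_of_invariant hS hF hE hPT hf a.2
  have hbp : IsPGroup p (Subgroup.zpowers b) := by
    refine IsPGroup.of_card (n := k) ?_
    rw [Nat.card_zpowers, hbdef, MulEquiv.orderOf_eq (MulAut.congr f) (a : MulAut P),
      Subgroup.orderOf_coe, hk]
  obtain ⟨χ, hχ, hconj⟩ := exists_conj_le_autInducedBy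
    (saturated_fullyNormalized (hS.to_le hTS) hEs hRE).2 hbp (Subgroup.zpowers_le.2 hb)
  have hχi : IsIso F χ⁻¹ := hE.1 R (autGroup_mem_hom E hRT ((E.autGroup R).inv_mem hχ))
  have h1 := autCongr_mem_of_invariant hS hF hD hRT hχi
    (autInducedBy_le_autGroup D hRT (hconj b (Subgroup.mem_zpowers b)))
  have e1 : MulAut.congr (χ⁻¹ : MulAut R) (χ * b * χ⁻¹) = b := by
    ext x
    simp [autCongr_apply, MulAut.inv_def]
  rw [e1] at h1
  have h2 := autCongr_mem_of_invariant hS hF hD hRT hf.symm h1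
  have e2 : MulAut.congr f.symm b = (a : MulAut P) := by
    ext x
    simp [hbdef, autCongr_apply]
  rw [e2] at h2
  exact h2

theorem centricPElem_le_of_invariant (hS : IsPGroup p S) (hF : F.IsSaturated p)
    {E D : FusionSystem T} (hE : E.IsInvariantIn F) (hEs : E.IsSaturated p)
    (hD : D.IsInvariantIn F) : centricPElemSystem E p ≤ D :=
  centricPElemSystem_le fun _ hQ => pElem_le_of_invariant hS hF hE hEs hD hQ.1

/-- Maps `α ∘ e` with `α ∈ Aut_E(T) ∩ Aut_D(T)` and `e` in the generated subsystem of `E`. -/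
def jointSystem [Finite T] (E D : FusionSystem T) (p : ℕ) : FusionSystem T :=
  subSystem E
    (fun P φ => DecompIn (E.autGroup T ⊓ D.autGroup T) (centricPElemSystem E p) P φ)
    (fun hP hg => ⟨1, one_mem _, _, (centricPElemSystem E p).conj_mem hP hg, fun x =>
      (autExt_of_mem (1 : MulAut T) (map_mem_S (centricPElemSystem E p)
        ((centricPElemSystem E p).conj_mem hP hg) x)).symm⟩)
    (fun _ _ a b h => decompIn_comp inf_le_left (centricPElemSystem_invariant E) a b h)
    (fun {P φ} hφ a ψ _ he => by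
      obtain ⟨α, hα, f, hf, hfe⟩ :=
        decompIn_symm inf_le_left (centricPElemSystem_invariant E) (toIso E hφ rfl) a
      refine ⟨α, hα, f, hf, fun y => ?_⟩
      rw [← hfe y]
      obtain ⟨x, hx⟩ := y.2
      have hy : y = ⟨φ x, x, rfl⟩ := Subtype.ext hx.symm
      rw [hy, he x]
      exact (congrArg Subtype.val ((toIso E hφ rfl).symm_apply_apply x)).symm)

theorem joint_le_left [Finite T] (E D : FusionSystem T) : jointSystem E D p ≤ E :=
  fun _ _ h => h.1

theorem joint_le_right [Finite T] {E D : FusionSystem T} (h0 : centricPElemSystem E p ≤ D) :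
    jointSystem E D p ≤ D := by
  rintro P φ ⟨-, α, hα, φ₀, hφ₀, he⟩
  exact comp_mem' D (h0 P hφ₀) (autGroup_mem_hom D le_rfl hα.2)
    (map_mem_S (centricPElemSystem E p) hφ₀) fun x => (he x).trans (autExt_of_mem α _)

theorem centricPElem_le_joint [Finite T] (E D : FusionSystem T) :
    centricPElemSystem E p ≤ jointSystem E D p := fun _ φ h =>
  ⟨h.1, 1, one_mem _, φ, h, fun x =>
    (autExt_of_mem (1 : MulAut T) (map_mem_S (centricPElemSystem E p) h x)).symm⟩

theorem mem_of_pow_mem_normal {G : Type*} [Group G] [Finite G] (hp : p.Prime) {N : Subgroup G}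
    [N.Normal] (hi : ¬ p ∣ N.index) {d : G} {k : ℕ} (hd : d ^ p ^ k ∈ N) : d ∈ N := by
  have h1 : (QuotientGroup.mk' N d) ^ p ^ k = 1 := by
    rw [← map_pow]
    exact (QuotientGroup.eq_one_iff _).2 hd
  have h2 : orderOf (QuotientGroup.mk' N d) ∣ Nat.gcd (p ^ k) N.index :=
    Nat.dvd_gcd (orderOf_dvd_of_pow_eq_one h1)
      (Subgroup.index_eq_card N ▸ orderOf_dvd_natCard _)
  rw [Nat.Coprime.gcd_eq_one (((hp.coprime_iff_not_dvd).2 hi).pow_left k)] at h2
  exact (QuotientGroup.eq_one_iff _).1 (orderOf_eq_one_iff.1 (Nat.dvd_one.1 h2))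

/-- Automorphisms in `E` and in `D` agreeing on a centric subgroup: the first lies in `D`. -/
theorem auto_agree (hS : IsPGroup p S) (hF : F.IsSaturated p) {E D : FusionSystem T}
    (hE : E.IsInvariantIn F) (hEs : E.IsSaturated p) (hD : D.IsInvariantIn F)
    (hDs : D.IsSaturated p) {P Y : Subgroup Ω} (hP : TCentric F T P) (hPY : P ≤ Y) (hYT : Y ≤ T)
    (hYP : Y ≤ Subgroup.normalizer (P : Set Ω)) {a b : MulAut Y} (ha : a ∈ E.autGroup Y)
    (hb : b ∈ D.autGroup Y) (hab : ∀ x : P, a (Subgroup.inclusion hPY x) =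
      b (Subgroup.inclusion hPY x)) : a ∈ D.autGroup Y := by
  have hT := hE.2.1
  have hTS := hT.1
  have : Finite T := finite_of_le ‹_› hTS
  have hYS : Y ≤ S := hYT.trans hTS
  have : Finite Y := finite_of_le ‹_› hYS
  set η : MulAut Y := a⁻¹ * b with hηdef
  have hfix : ∀ x : P, η (Subgroup.inclusion hPY x) = Subgroup.inclusion hPY x := fun x => by
    rw [hηdef, MulAut.mul_apply, ← hab, MulAut.inv_def, MulEquiv.symm_apply_apply]
  have hmove : ∀ y : Y, (y : Ω)⁻¹ * (η y : Ω) ∈ P := by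
    intro y
    refine isConj_rfl_T hT hP ⟨T.mul_mem (T.inv_mem (hYT y.2)) (hYT (η y).2),
      Subgroup.mem_centralizer_iff.2 fun x hx => ?_⟩
    have h1 := (Subgroup.mem_normalizer_iff.1 (hYP y.2) x).1 hx
    have h2 : ((η y : Y) : Ω) * x * (η y : Ω)⁻¹ = (y : Ω) * x * (y : Ω)⁻¹ := by
      have e : η (y * Subgroup.inclusion hPY ⟨x, hx⟩ * y⁻¹) =
          y * Subgroup.inclusion hPY ⟨x, hx⟩ * y⁻¹ := hfix ⟨_, h1⟩
      rw [map_mul, map_mul, map_inv, hfix ⟨x, hx⟩] at e
      exact congrArg Subtype.val e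
    calc x * ((y : Ω)⁻¹ * (η y : Ω))
        = (y : Ω)⁻¹ * ((y : Ω) * x * (y : Ω)⁻¹) * (η y : Ω) := by group
      _ = (y : Ω)⁻¹ * (η y : Ω) * x := by rw [← h2]; group
  have : Finite P := finite_of_le ‹_› (hP.1.trans hTS)
  obtain ⟨k, hk⟩ := (hS.to_le (hP.1.trans hTS)).exists_card_eq
  have hηp : η ^ p ^ k = 1 := by
    refine MulEquiv.ext fun y => ?_
    set q : P := ⟨_, hmove y⟩ with hqdef
    have hit : ∀ i : ℕ, (η ^ i) y = y * Subgroup.inclusion hPY (q ^ i) := by
      intro i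
      induction i with
      | zero => simp
      | succ i ih =>
        rw [pow_succ', MulAut.mul_apply, ih, map_mul, hfix, pow_succ', map_mul, ← mul_assoc]
        congr 1
        exact Subtype.ext (mul_inv_cancel_left _ _).symm
    rw [hit, ← hk, pow_card_eq_one', map_one, mul_one, MulAut.one_apply]
  obtain ⟨R, hYR, hR⟩ := exists_fullyNormalized F hYS
  obtain ⟨f, hf⟩ := (isConj_iff_exists_iso F).1 hYR
  have hRT : R ≤ T := fun y hy => by
    have := sc_map_mem hT hf (x := f.symm ⟨y, hy⟩) (hYT (f.symm ⟨y, hy⟩).2)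
    simpa using this
  have : Finite R := finite_of_le ‹_› (hRT.trans hTS)
  set A := E.autGroup R
  set B := D.autGroup R
  have ha' : MulAut.congr f a ∈ A := autCongr_mem_of_invariant hS hF hE hYT hf ha
  have hb' : MulAut.congr f b ∈ B := autCongr_mem_of_invariant hS hF hD hYT hf hb
  have hnA : ∀ d ∈ B, ∀ c ∈ A, d * c * d⁻¹ ∈ A := fun d hd c hc => by
    have h := autCongr_mem_of_invariant hS hF hE hRT
      (f := d) (hD.1 R (autGroup_mem_hom D hRT hd)) hc
    have e : MulAut.congr (d : R ≃* R) c = d * c * d⁻¹ := by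
      ext x
      simp [autCongr_apply, MulAut.inv_def]
    rwa [e] at h
  haveI hN : (A.subgroupOf B).Normal := ⟨fun n hn g => hnA g g.2 n hn⟩
  obtain ⟨-, P₀, hP₀⟩ := (saturated_fullyNormalized (hS.to_le hTS) hDs
    (tfn_fullyNormalized hD.1 (tfn_of_fullyNormalized hS hF hT hR hRT))).2
  have hi : ¬ p ∣ (A.subgroupOf B).index := fun h => by
    apply P₀.not_dvd_index
    rw [hP₀]
    exact h.trans (Subgroup.index_dvd_of_le fun x hx => autInducedBy_le_autGroup E hRT hx)
  have hpow : ∀ i : ℕ, (MulAut.congr f η) ^ i * ((MulAut.congr f b) ^ i)⁻¹ ∈ A := by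
    intro i
    induction i with
    | zero => simp
    | succ i ih =>
      have e : MulAut.congr f η = (MulAut.congr f a)⁻¹ * MulAut.congr f b := by
        rw [hηdef, map_mul, map_inv]
      have h1 := hnA _ hb' _ ih
      have h2 := A.mul_mem (A.inv_mem ha') h1
      have e2 : (MulAut.congr f η) ^ (i + 1) * ((MulAut.congr f b) ^ (i + 1))⁻¹ =
          (MulAut.congr f a)⁻¹ * (MulAut.congr f b *
            ((MulAut.congr f η) ^ i * ((MulAut.congr f b) ^ i)⁻¹) * (MulAut.congr f b)⁻¹) := by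
        rw [pow_succ', pow_succ', e]
        group
      rwa [e2]
  have hbA : MulAut.congr f b ∈ A := by
    have h := hpow (p ^ k)
    rw [← map_pow, hηp, map_one, one_mul] at h
    exact mem_of_pow_mem_normal (Fact.out : p.Prime) hi (N := A.subgroupOf B)
      (d := ⟨_, hb'⟩) (k := k) (A.inv_mem_iff.1 h)
  have hbE : b ∈ E.autGroup Y := by
    have h := autCongr_mem_of_invariant hS hF hE hRT hf.symm hbA
    have e : MulAut.congr f.symm (MulAut.congr f b) = b := by
      ext x
      simp [autCongr_apply]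
    rwa [e] at h
  have hηE : η ∈ E.autGroup Y := mul_mem ((E.autGroup Y).inv_mem ha) hbE
  obtain ⟨z, -, -, hz⟩ := maps_agree_on_centric (hS.to_le hTS) hEs hPY
    (centric_of_tCentric hE.1 hP) (subtype_mem E hYT) (autGroup_mem_hom E hYT hηE)
    fun x hx => (congrArg Subtype.val (hfix ⟨x, hx⟩)).symm
  have hηD : η ∈ D.autGroup Y :=
    autInducedBy_le_autGroup D hYT (mem_autInducedBy.2 ⟨z, hYT z.2, fun y => hz y⟩)
  have e : a = b * η⁻¹ := by rw [hηdef, mul_inv_rev, inv_inv, mul_inv_cancel_left]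
  rw [e]
  exact mul_mem hb ((D.autGroup Y).inv_mem hηD)

/-- An automorphism of a subgroup with largest normalizer that normalizes `Aut_T` extends. -/
theorem exists_ext_normalizer {E : FusionSystem T} [Finite T] (hS : IsPGroup p T)
    (hEs : E.IsSaturated p) {P : Subgroup Ω} (hP : E.IsFullyNormalized P) {h : MulAut P}
    (hh : h ∈ E.autGroup P) (hn : ∀ r ∈ autInducedBy T P, h * r * h⁻¹ ∈ autInducedBy T P) :
    ∃ a : MulAut ↥(normalizerIn T P), a ∈ E.autGroup (normalizerIn T P) ∧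
      ∀ x : P, (a (Subgroup.inclusion (le_normalizerIn hP.1) x) : Ω) = h x := by
  have hPT := hP.1
  have hN := normalizerIn_le (S := T) P
  have : Finite ↥(normalizerIn T P) := finite_of_le ‹_› hN
  obtain ⟨ψ, hψ, hψe⟩ := exists_ext_aut'
    (saturated_fullyCentralized hS hEs (saturated_fullyNormalized hS hEs hP).1) hh
    (le_normalizerIn hPT) le_rfl fun g hg =>
      ⟨⟨g, hg.2⟩, hn _ (mem_autInducedBy.2 ⟨g, hg.1, fun _ => rfl⟩), rfl⟩
  have hc : Carries ψ P P := by
    refine ⟨le_normalizerIn hPT, (map_subgroupOf_eq_range P (le_normalizerIn hPT)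
      (φ := P.subtype.comp h.toMonoidHom) hψe).trans (range_subtype_comp h)⟩
  have hr : ψ.range = normalizerIn T P := range_eq_of_image_le (E.injective_of_mem hψ)
    (by rintro _ ⟨x, rfl⟩; exact ⟨map_mem_S E hψ x, hc.mem_normalizer inf_le_right x⟩) le_rfl
  exact ⟨toIso E hψ hr, toIso_mem_autGroup E hψ hr, hψe⟩

/-- Automorphisms lying in both `E` and `D` lie in the joint system. -/
theorem interAut_le_joint [Finite T] (hS : IsPGroup p S) (hF : F.IsSaturated p)
    {E D : FusionSystem T}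
    (hE : E.IsInvariantIn F) (hEs : E.IsSaturated p) (hD : D.IsInvariantIn F)
    (hDs : D.IsSaturated p) {Y : Subgroup Ω} (hY : TCentric F T Y) :
    E.autGroup Y ⊓ D.autGroup Y ≤ (jointSystem E D p).autGroup Y := by
  have hT := hE.2.1
  have hTS := hT.1
  set U := jointSystem E D p
  refine downward_induction (S := T) (motive := fun Y => TCentric F T Y →
    E.autGroup Y ⊓ D.autGroup Y ≤ U.autGroup Y) ?_ hY.1 hY
  clear hY Y
  intro Y hYT ih hY a ha
  rcases hYT.eq_or_lt with rfl | hlt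
  · exact (mem_autGroup U le_rfl).2 ⟨autGroup_mem_hom E le_rfl ha.1, a, ha, _, subtype_mem _ le_rfl,
      fun x => (autExt_of_mem a x.2).symm⟩
  obtain ⟨e, he, Y₀, hc, hY₀⟩ := exists_e0_tfn hS hF hE hEs hYT
  have her := restr_mem _ hc.1 he
  set f := toIso _ her hc.range_restr_eq
  have hf0 : IsIso (centricPElemSystem E p) f := toIso_isIso _ her hc.range_restr_eq
  have hfE : IsIso E f := centricPElemSystem_sub E Y hf0
  have hfD : IsIso D f := centricPElem_le_of_invariant hS hF hE hEs hD Y hf0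
  have hfU : IsIso U f := centricPElem_le_joint E D Y hf0
  suffices h : MulAut.congr f a ∈ U.autGroup Y₀ by
    have h2 := autCongr_mem U hfU.symm h
    have e : MulAut.congr f.symm (MulAut.congr f a) = a := by
      ext x
      simp [autCongr_apply]
    rwa [e] at h2
  set a₀ := MulAut.congr f a
  have hY₀T := hY₀.1
  have : Finite Y₀ := finite_of_le ‹_› hY₀T
  have ha₀E : a₀ ∈ E.autGroup Y₀ := autCongr_mem E hfE ha.1
  have ha₀D : a₀ ∈ D.autGroup Y₀ := autCongr_mem D hfD ha.2
  have hEn := tfn_fullyNormalized hE.1 hY₀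
  have hDn := tfn_fullyNormalized hD.1 hY₀
  have hTp := hS.to_le hTS
  have hnorm : ∀ g ∈ E.autGroup Y₀, ∀ k ∈ pElemGroup E p Y₀,
      g * k * g⁻¹ ∈ pElemGroup E p Y₀ := fun g hg k hk => by
    have h := autCongr_mem_pElemGroup E ((mem_autGroup E hY₀T).1 hg) hk
    have e : MulAut.congr (g : Y₀ ≃* Y₀) k = g * k * g⁻¹ := by
      ext x
      simp [autCongr_apply, MulAut.inv_def]
    rwa [e] at h
  have hle : autInducedBy T Y₀ ≤ pElemGroup E p Y₀ := fun c hc => by
    refine ⟨⟨c, autInducedBy_le_autGroup E hY₀T hc⟩, Subgroup.subset_closure ?_, rfl⟩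
    obtain ⟨m, hm⟩ := isPGroup_autInducedBy hTp Y₀ ⟨c, hc⟩
    obtain ⟨j, -, hj⟩ :=
      (Nat.dvd_prime_pow (Fact.out : p.Prime)).1 (orderOf_dvd_of_pow_eq_one hm)
    refine ⟨j, ?_⟩
    rw [Subgroup.orderOf_mk]
    rwa [Subgroup.orderOf_mk] at hj
  have hsyl : SylIn p (autInducedBy T Y₀) (pElemGroup E p Y₀) := by
    have h : SylIn p (autInducedBy T Y₀) (E.autGroup Y₀) :=
      ⟨autInducedBy_le_autGroup E hY₀T, (saturated_fullyNormalized hTp hEs hEn).2.2⟩
    have h2 := h.inf_normal (pElemGroup_le_autGroup E Y₀) hnorm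
    rwa [inf_eq_left.2 hle] at h2
  obtain ⟨k, hk, hka⟩ := hsyl.frattini (hnorm a₀ ha₀E)
  have hkE := pElemGroup_le_autGroup E Y₀ hk
  have hkD := pElem_le_of_invariant hS hF hE hEs hD hY₀T hk
  obtain ⟨AE, hAE, hAEe⟩ := exists_ext_normalizer hTp hEs hEn (mul_mem hkE ha₀E) hka
  obtain ⟨AD, hAD, hADe⟩ := exists_ext_normalizer hTp hDs hDn (mul_mem hkD ha₀D) hka
  have hY₀c : TCentric F T Y₀ := tCentric_of_isConj hT hY ⟨_, hE.1 Y hfE, range_subtype_comp f⟩
  have hN := normalizerIn_le (S := T) Y₀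
  have hboth := auto_agree hS hF hE hEs hD hDs hY₀c (le_normalizerIn hY₀T) hN inf_le_right hAE hAD
    fun x => Subtype.ext ((hAEe x).trans (hADe x).symm)
  have hY₀lt : Y₀ < T := lt_of_le_of_ne hY₀T fun e => by
    have h1 := card_lt_of_lt le_rfl hlt
    have h2 : Nat.card Y = Nat.card Y₀ := Nat.card_congr f.toEquiv
    rw [e] at h2
    omega
  have hcard : Nat.card Y < Nat.card ↥(normalizerIn T Y₀) := by
    rw [Nat.card_congr f.toEquiv]
    exact card_lt_of_lt hN (lt_normalizerIn hTp hY₀lt)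
  have hU := ih _ hN hcard (tCentric_mono hY₀c (le_normalizerIn hY₀T) hN) ⟨hAE, hboth⟩
  have hkaU : k * a₀ ∈ U.autGroup Y₀ := (mem_autGroup U hY₀T).2
    (mem_of_restricts U (le_normalizerIn hY₀T) (autGroup_mem_hom U hN hU) fun x => (hAEe x).symm)
  have hkU : k ∈ U.autGroup Y₀ := (mem_autGroup U hY₀T).2
    (centricPElem_le_joint E D Y₀ (autGroup_mem_hom _ hY₀T
      (centricPElem_index hTp hEs hY₀T hk)))
  have := mul_mem ((U.autGroup Y₀).inv_mem hkU) hkaU
  rwa [inv_mul_cancel_left] at this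

/-- An element of `N_T(P)` inducing the same as one of `Y` lies in `Y`. -/
theorem mem_of_same_action (hT : F.StronglyClosed T) {P Y : Subgroup Ω} (hP : TCentric F T P)
    (hPY : P ≤ Y) {g g' : Ω} (hg : g ∈ T) (hg' : g' ∈ T) (hg'Y : g' ∈ Y)
    (h : ∀ x : P, g * x * g⁻¹ = g' * x * g'⁻¹) : g ∈ Y := by
  have h1 : g'⁻¹ * g ∈ P := isConj_rfl_T hT hP ⟨T.mul_mem (T.inv_mem hg') hg,
    Subgroup.mem_centralizer_iff.2 fun x hx => by
      calc x * (g'⁻¹ * g) = g'⁻¹ * (g' * x * g'⁻¹) * g := by group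
        _ = g'⁻¹ * g * x := by rw [← h ⟨x, hx⟩]; group⟩
  have := Y.mul_mem hg'Y (hPY h1)
  simpa using this

theorem ext_apply_conj {P Y : Subgroup Ω} {ψ : Y →* Ω} (hPY : P ≤ Y)
    (hY : Y ≤ Subgroup.normalizer (P : Set Ω)) {c : MulAut P}
    (hψ : ∀ x : P, ψ (Subgroup.inclusion hPY x) = c x) (y : Y) (x : P) :
    ψ y * (x : Ω) * (ψ y)⁻¹ = ((c * P.normalizerMonoidHom ⟨y, hY y.2⟩ * c⁻¹) x : Ω) := by
  obtain ⟨z, rfl⟩ := c.surjective x
  have e : c⁻¹ (c z) = z := c.symm_apply_apply z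
  rw [MulAut.mul_apply, MulAut.mul_apply, e, ← hψ, ← hψ, ← map_inv, ← map_mul, ← map_mul]
  exact congrArg ψ (Subtype.ext rfl)

/-- Maps of `E` on subgroups of `N_T(P)` restricting into the joint system on `P` lie in it. -/
theorem agree_aux [Finite T] (hS : IsPGroup p S) (hF : F.IsSaturated p) {E D : FusionSystem T}
    (hE : E.IsInvariantIn F) (hEs : E.IsSaturated p) (hD : D.IsInvariantIn F)
    (hDs : D.IsSaturated p) {P : Subgroup Ω} (hP : TCentric F T P) (hPn : TFN F T P)
    (hPlt : P < T) {Y : Subgroup Ω} (hPY : P ≤ Y) (hY : Y ≤ normalizerIn T P) {χ : Y →* Ω}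
    (hχ : χ ∈ E.Hom Y) {a : MulAut P} (ha : a ∈ (jointSystem E D p).autGroup P)
    (hχa : ∀ x : P, χ (Subgroup.inclusion hPY x) = a x) :
    χ ∈ (jointSystem E D p).Hom Y := by
  have hT := hE.2.1
  have hTS := hT.1
  have hTp := hS.to_le hTS
  set U := jointSystem E D p with hUdef
  have hPT := hP.1
  have hPN := le_normalizerIn (S := T) hPT
  have hEn := tfn_fullyNormalized hE.1 hPn
  have hDn := tfn_fullyNormalized hD.1 hPn
  have hUD : U ≤ D := joint_le_right (centricPElem_le_of_invariant hS hF hE hEs hD)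
  have hUF : U.IsSubsystemOf F := fun R φ h => hE.1 R h.1
  have hA : ∀ {c : MulAut P}, c ∈ U.autGroup P → c ∈ E.autGroup P ∧ c ∈ D.autGroup P := fun h =>
    ⟨autGroup_mono (joint_le_left E D) P h, autGroup_mono hUD P h⟩
  -- extension of an automorphism carrying `Aut_Y(P)` into `Aut_T(P)`
  have hext : ∀ {G : FusionSystem T}, G.IsSaturated p → G.IsFullyNormalized P →
      ∀ {Z : Subgroup Ω} (hPZ : P ≤ Z) (hZ : Z ≤ normalizerIn T P) {c : MulAut P},
      c ∈ G.autGroup P →
      (∀ g : Z, c * P.normalizerMonoidHom ⟨g, (hZ g.2).2⟩ * c⁻¹ ∈ autInducedBy T P) →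
      ∃ ψ ∈ G.Hom Z, ∀ x : P, ψ (Subgroup.inclusion hPZ x) = c x := by
    intro G hG hn Z hPZ hZ c hc hcar
    exact exists_ext_aut' (saturated_fullyCentralized hTp hG
      (saturated_fullyNormalized hTp hG hn).1) hc hPZ hZ fun g hg =>
      ⟨⟨g, (hZ hg).2⟩, hcar ⟨g, hg⟩, rfl⟩
  -- automorphisms
  have hauto : ∀ {Z : Subgroup Ω} (hPZ : P ≤ Z) (_ : Z ≤ normalizerIn T P) {θ : Z →* Ω},
      θ ∈ E.Hom Z → θ.range = Z → ∀ {c : MulAut P}, c ∈ U.autGroup P →
      (∀ x : P, θ (Subgroup.inclusion hPZ x) = c x) → θ ∈ U.Hom Z := by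
    intro Z hPZ hZ θ hθ hr c hc hθc
    have hZT : Z ≤ T := hZ.trans (normalizerIn_le P)
    have hZN : Z ≤ Subgroup.normalizer (P : Set Ω) := hZ.trans inf_le_right
    have : Finite Z := finite_of_le ‹_› hZT
    have hmemθ : ∀ g : Z, θ g ∈ Z := fun g => hr.le ⟨g, rfl⟩
    obtain ⟨ψ, hψ, hψc⟩ := hext hDs hDn hPZ hZ (hA hc).2 fun g => mem_autInducedBy.2
      ⟨θ g, map_mem_S E hθ g, fun x => (ext_apply_conj hPZ hZN hθc g x).symm⟩
    have hψr : ψ.range = Z := range_eq_of_image_le (D.injective_of_mem hψ) (by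
      rintro _ ⟨g, rfl⟩
      exact mem_of_same_action hT hP hPZ (map_mem_S D hψ g) (hZT (hmemθ g)) (hmemθ g) fun x =>
        (ext_apply_conj hPZ hZN hψc g x).trans (ext_apply_conj hPZ hZN hθc g x).symm) le_rfl
    have h1 := auto_agree hS hF hE hEs hD hDs hP hPZ hZT hZN
      (toIso_mem_autGroup E hθ hr) (toIso_mem_autGroup D hψ hψr)
      fun x => Subtype.ext ((hθc x).trans (hψc x).symm)
    have h2 := interAut_le_joint hS hF hE hEs hD hDs (tCentric_mono hP hPZ hZT)
      ⟨toIso_mem_autGroup E hθ hr, h1⟩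
    exact mem_hom_congr U (autGroup_mem_hom U hZT h2) fun _ => rfl
  induction hd : Nat.card T - Nat.card Y using Nat.strong_induction_on
    generalizing Y χ a with
  | _ d IH =>
    have hYT : Y ≤ T := hY.trans (normalizerIn_le P)
    have : Finite P := finite_of_le ‹_› hPT
    have : Finite Y := finite_of_le ‹_› hYT
    have hN0 : Finite ↥(normalizerIn T P) := finite_of_le ‹_› (normalizerIn_le P)
    have hχN : ∀ y, χ y ∈ normalizerIn T P := fun y =>
      ⟨map_mem_S E hχ y, by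
        have hc : Carries χ P P := ⟨hPY, (map_subgroupOf_eq_range P hPY
          (φ := P.subtype.comp a.toMonoidHom) hχa).trans (range_subtype_comp a)⟩
        exact hc.mem_normalizer (hY.trans inf_le_right) y⟩
    rcases hY.eq_or_lt with rfl | hYlt
    · exact hauto hPY le_rfl hχ (range_eq_of_image_le (E.injective_of_mem hχ)
        (by rintro _ ⟨y, rfl⟩; exact hχN y) le_rfl) ha hχa
    -- images of `Aut_Y(P)` under automorphisms in the joint system
    let TM := autInducedBy T P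
    let img : Subgroup Ω → MulAut P → Subgroup (MulAut P) := fun Z c =>
      (autInducedBy Z P).map (MulAut.conj c).toMonoidHom
    have himgY : img Y 1 ≤ TM := by
      rintro _ ⟨r, hr, rfl⟩
      simpa using autInducedBy_mono hYT P hr
    obtain ⟨W, ⟨⟨c₀, hc₀, hW⟩, hWle⟩, hmax⟩ := Set.exists_max_image
      {W : Subgroup (MulAut P) | (∃ c ∈ U.autGroup P, img Y c = W) ∧ W ≤ TM}
      (fun W => Nat.card ↥(TM ⊓ Subgroup.normalizer (W : Set (MulAut P))))
      (Set.toFinite _) ⟨_, ⟨1, one_mem _, rfl⟩, himgY⟩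
    set R := TM ⊓ Subgroup.normalizer (W : Set (MulAut P)) with hRdef
    set NA := U.autGroup P ⊓ Subgroup.normalizer (W : Set (MulAut P)) with hNAdef
    have hTMU : TM ≤ U.autGroup P := autInducedBy_le_autGroup U hPT
    have hTMp : IsPGroup p TM := isPGroup_autInducedBy hTp P
    have hsylTM : SylIn p TM (U.autGroup P) :=
      ⟨hTMU, (fullyAutomized_of_le (joint_le_left E D)
        (saturated_fullyNormalized hTp hEs hEn).2).2⟩
    have hRsyl : SylIn p R NA := by
      obtain ⟨R₀, hR₀, hRR₀⟩ := exists_sylIn_ge (N := NA) (p := p) (X := R)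
        (inf_le_inf_right _ hTMU) (hTMp.to_le inf_le_left)
      obtain ⟨d, hd, hdR⟩ :=
        hsylTM.exists_conj_le (hR₀.le.trans inf_le_left) hR₀.isPGroup
      have hW' : img Y (d * c₀) = W.map (MulAut.conj d).toMonoidHom := by
        rw [← hW]
        show _ = Subgroup.map _ (Subgroup.map _ _)
        rw [Subgroup.map_map]
        congr 1
      have hW'le : W.map (MulAut.conj d).toMonoidHom ≤ TM := by
        rintro _ ⟨r, hr, rfl⟩
        exact hdR r (hRR₀ ⟨hWle hr, Subgroup.le_normalizer hr⟩)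
      have hmax' := hmax _ ⟨⟨d * c₀, mul_mem hd hc₀, hW'⟩, hW'le⟩
      have : Finite R₀ := Subtype.finite
      have hcard : Nat.card R₀ ≤ Nat.card R := by
        refine le_trans (Nat.card_le_card_of_injective (fun r : R₀ =>
          (⟨d * r * d⁻¹, hdR r r.2, ?_⟩ :
            ↥(TM ⊓ Subgroup.normalizer ((W.map (MulAut.conj d).toMonoidHom :
              Subgroup (MulAut P)) : Set (MulAut P))))) ?_) hmax'
        · have h := (hR₀.le r.2).2
          have h2 := Subgroup.le_normalizer_map (H := W) (MulAut.conj d).toMonoidHom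
            ⟨r, h, rfl⟩
          simpa using h2
        · intro x y h
          exact Subtype.ext (mul_left_cancel (mul_right_cancel (congrArg Subtype.val h)))
      rwa [eq_of_le_of_card_le hRR₀ hcard]
    -- moving a subgroup of the class onto the chosen one
    have hmove : ∀ {Z : Subgroup Ω} (hPZ : P ≤ Z) (hZ : Z ≤ normalizerIn T P),
        Nat.card Z = Nat.card Y → ∀ c ∈ U.autGroup P, img Z c = W →
        ∃ c' ∈ U.autGroup P, ∃ ψ ∈ U.Hom Z, (∀ x : P, ψ (Subgroup.inclusion hPZ x) = c' x) ∧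
          ∀ g, g ∈ ψ.range ↔ g ∈ T ∧ ∃ r ∈ W, ∀ x : P, (r x : Ω) = g * x * g⁻¹ := by
      intro Z hPZ hZ hcard c hc himg
      have hZT : Z ≤ T := hZ.trans (normalizerIn_le P)
      have hZN : Z ≤ Subgroup.normalizer (P : Set Ω) := hZ.trans inf_le_right
      have : Finite Z := finite_of_le ‹_› hZT
      have hZlt : Z < normalizerIn T P := lt_of_le_of_ne hZ fun e => hYlt.ne
        (eq_of_le_of_card_le hY (by rw [← e, hcard]))
      have hZ1 := lt_inf_normalizer_of_lt (hTp.to_le (normalizerIn_le P)) hZlt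
      set Z₁ := normalizerIn T P ⊓ Subgroup.normalizer (Z : Set Ω)
      set B := (autInducedBy Z₁ P).map (MulAut.conj c).toMonoidHom
      have hB : B ≤ NA := by
        rintro _ ⟨r, hr, rfl⟩
        have hrU : r ∈ U.autGroup P :=
          hTMU (autInducedBy_mono (inf_le_left.trans (normalizerIn_le P)) P hr)
        refine ⟨mul_mem (mul_mem hc hrU) ((U.autGroup P).inv_mem hc), ?_⟩
        have hrn : r ∈ Subgroup.normalizer ((autInducedBy Z P : Subgroup (MulAut P)) :
            Set (MulAut P)) := by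
          obtain ⟨g, hg, hge⟩ := mem_autInducedBy.1 hr
          have key : ∀ (g : Ω) (r : MulAut P), g ∈ Subgroup.normalizer (Z : Set Ω) →
              (∀ x : P, (r x : Ω) = g * x * g⁻¹) → ∀ s ∈ autInducedBy Z P,
              r * s * r⁻¹ ∈ autInducedBy Z P := by
            intro g r hg hge s hs
            obtain ⟨z, hz, hze⟩ := mem_autInducedBy.1 hs
            refine mem_autInducedBy.2 ⟨g * z * g⁻¹, (Subgroup.mem_normalizer_iff.1 hg z).1 hz,
              fun x => ?_⟩
            obtain ⟨w, rfl⟩ := r.surjective x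
            rw [MulAut.mul_apply, MulAut.mul_apply, MulAut.inv_def, MulEquiv.symm_apply_apply,
              hge, hze, hge]
            group
          refine Subgroup.mem_normalizer_iff.2 fun s => ⟨key g r hg.2 hge s, fun hs => ?_⟩
          have h3 := key g⁻¹ r⁻¹ ((Subgroup.normalizer _).inv_mem hg.2) (fun x => by
            obtain ⟨w, rfl⟩ := r.surjective x
            rw [MulAut.inv_def, MulEquiv.symm_apply_apply, hge]
            group) _ hs
          simpa [mul_assoc] using h3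
        have h2 := Subgroup.le_normalizer_map (H := autInducedBy Z P)
          (MulAut.conj c).toMonoidHom ⟨r, hrn, rfl⟩
        rw [show (autInducedBy Z P).map (MulAut.conj c).toMonoidHom = W from himg] at h2
        exact h2
      have : Finite NA := Subtype.finite
      obtain ⟨n, hn, hnB⟩ := hRsyl.exists_conj_le hB ((isPGroup_autInducedBy
        (hTp.to_le (inf_le_left.trans (normalizerIn_le P))) P).map _)
      have hc' : n * c ∈ U.autGroup P := mul_mem hn.1 hc
      have hPZ1 : P ≤ Z₁ := hPZ.trans hZ1.le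
      have hZ₁N : Z₁ ≤ normalizerIn T P := inf_le_left
      have hval : ∀ g (hg : g ∈ Z₁), n * (c * P.normalizerMonoidHom ⟨g, (hZ₁N hg).2⟩ * c⁻¹) *
          n⁻¹ ∈ R := fun g hg =>
        hnB _ ⟨_, mem_autInducedBy.2 ⟨g, hg, fun _ => rfl⟩, rfl⟩
      obtain ⟨ψ₁, hψ₁, hψ₁e⟩ := hext hEs hEn hPZ1 hZ₁N (hA hc').1 fun g => by
        have h1 := (hval g g.2).1
        simpa [mul_assoc] using h1
      have : Finite Z₁ := finite_of_le ‹_› (hZ₁N.trans (normalizerIn_le P))
      have hψ₁U : ψ₁ ∈ U.Hom Z₁ := by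
        refine IH (Nat.card T - Nat.card Z₁) ?_ hPZ1 hZ₁N hψ₁ (a := n * c) hψ₁e hc' rfl
        have h1 := card_lt_of_lt (hZ₁N.trans (normalizerIn_le P)) hZ1
        have h2 := Subgroup.card_le_of_le (H := Z₁) (K := T) (hZ₁N.trans (normalizerIn_le P))
        omega
      refine ⟨n * c, hc', restr hZ1.le ψ₁, restr_mem U hZ1.le hψ₁U, hψ₁e, fun g => ?_⟩
      have hact : ∀ (z : Z) (x : P), restr hZ1.le ψ₁ z * (x : Ω) * (restr hZ1.le ψ₁ z)⁻¹ =
          (((n * c) * P.normalizerMonoidHom ⟨z, hZN z.2⟩ * (n * c)⁻¹) x : Ω) :=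
        fun z x => ext_apply_conj hPZ hZN hψ₁e z x
      constructor
      · rintro ⟨z, rfl⟩
        refine ⟨map_mem_S E (restr_mem E hZ1.le hψ₁) z, _, ?_, fun x => (hact z x).symm⟩
        have h1 : c * P.normalizerMonoidHom ⟨z, hZN z.2⟩ * c⁻¹ ∈ W :=
          himg ▸ ⟨_, mem_autInducedBy.2 ⟨z, z.2, fun _ => rfl⟩, rfl⟩
        have h2 := (Subgroup.mem_normalizer_iff.1 hn.2 _).1 h1
        simpa [mul_assoc] using h2
      · rintro ⟨hgT, r, hr, hre⟩
        have h1 := (Subgroup.mem_normalizer_iff.1 ((Subgroup.normalizer _).inv_mem hn.2) r).1 hr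
        rw [← himg] at h1
        obtain ⟨s, hs, hse⟩ := h1
        obtain ⟨z, hz, hze⟩ := mem_autInducedBy.1 hs
        refine mem_of_same_action hT hP ?_ hgT
          (map_mem_S E (restr_mem E hZ1.le hψ₁) ⟨z, hz⟩) ⟨⟨z, hz⟩, rfl⟩ fun x => ?_
        · intro y hy
          obtain ⟨w, hw⟩ := (n * c).surjective ⟨y, hy⟩
          exact ⟨Subgroup.inclusion hPZ w, (hψ₁e w).trans (congrArg Subtype.val hw)⟩
        · rw [hact ⟨z, hz⟩ x, ← hre x]
          have e1 : P.normalizerMonoidHom ⟨z, hZN hz⟩ = s :=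
            MulEquiv.ext fun w => Subtype.ext (hze w).symm
          have e2 : n * c * s * (n * c)⁻¹ = r := by
            have h3 : c * s * c⁻¹ = n⁻¹ * r * n⁻¹⁻¹ := hse
            calc n * c * s * (n * c)⁻¹ = n * (c * s * c⁻¹) * n⁻¹ := by group
              _ = r := by rw [h3]; group
          rw [e1, e2]
    obtain ⟨c, hc, ψ, hψ, hψe, hψm⟩ := hmove hPY hY rfl c₀ hc₀ hW
    have hPrange : P ≤ χ.range := by
      intro y hy
      obtain ⟨w, hw⟩ := a.surjective ⟨y, hy⟩
      exact ⟨Subgroup.inclusion hPY w, (hχa w).trans (congrArg Subtype.val hw)⟩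
    have himg2 : img χ.range (c₀ * a⁻¹) = W := by
      rw [← hW]
      ext t
      constructor
      · rintro ⟨r, hr, rfl⟩
        obtain ⟨g, ⟨y, rfl⟩, hye⟩ := mem_autInducedBy.1 hr
        refine ⟨P.normalizerMonoidHom ⟨y, (hY y.2).2⟩,
          mem_autInducedBy.2 ⟨y, y.2, fun _ => rfl⟩, ?_⟩
        have e : r = a * P.normalizerMonoidHom ⟨y, (hY y.2).2⟩ * a⁻¹ :=
          MulEquiv.ext fun x => Subtype.ext
            ((hye x).trans (ext_apply_conj hPY (hY.trans inf_le_right) hχa y x))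
        rw [e]
        simp [mul_assoc]
      · rintro ⟨r, hr, rfl⟩
        obtain ⟨y, hy, hye⟩ := mem_autInducedBy.1 hr
        refine ⟨a * r * a⁻¹, mem_autInducedBy.2 ⟨χ ⟨y, hy⟩, ⟨_, rfl⟩, fun x => ?_⟩,
          by simp [mul_assoc]⟩
        have e : P.normalizerMonoidHom ⟨y, (hY hy).2⟩ = r :=
          MulEquiv.ext fun w => Subtype.ext (hye w).symm
        rw [ext_apply_conj hPY (hY.trans inf_le_right) hχa ⟨y, hy⟩ x, e]
    obtain ⟨c', hc', ψ', hψ', hψ'e, hψ'm⟩ := hmove hPrange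
      (by rintro _ ⟨y, rfl⟩; exact hχN y) (Nat.card_congr (toIso E hχ rfl).toEquiv).symm _
      (mul_mem hc₀ ((U.autGroup P).inv_mem ha)) himg2
    have hrr : ψ'.range = ψ.range := by
      ext g
      rw [hψm, hψ'm]
    set eψ := toIso U hψ rfl
    have hcomp : IsIso E (eψ.symm.trans ((toIso E hχ rfl).trans (toIso U hψ' hrr))) :=
      (joint_le_left E D _ (toIso_isIso U hψ rfl).symm |> fun h => (h : IsIso E eψ.symm)).trans
        ((toIso_isIso E hχ rfl).trans (joint_le_left E D _ (toIso_isIso U hψ' hrr)))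
    set θ := eψ.symm.trans ((toIso E hχ rfl).trans (toIso U hψ' hrr))
    have hPψ : P ≤ ψ.range := by
      intro y hy
      obtain ⟨w, hw⟩ := c.surjective ⟨y, hy⟩
      exact ⟨Subgroup.inclusion hPY w, (hψe w).trans (congrArg Subtype.val hw)⟩
    have hψN : ψ.range ≤ normalizerIn T P := fun g hg => by
      obtain ⟨hgT, r, -, hre⟩ := (hψm g).1 hg
      exact ⟨hgT, mem_normalizer_of_conj_eq r hre⟩
    have hθU : IsIso U θ := by
      refine hauto hPψ hψN hcomp (range_subtype_comp θ) (c := c' * a * c⁻¹)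
        (mul_mem (mul_mem hc' ha) ((U.autGroup P).inv_mem hc)) fun x => ?_
      obtain ⟨w, rfl⟩ := c.surjective x
      have e1 : eψ.symm ⟨c w, hPψ (c w).2⟩ = Subgroup.inclusion hPY w := by
        rw [MulEquiv.symm_apply_eq]
        exact Subtype.ext (hψe w).symm
      show ((toIso U hψ' hrr (toIso E hχ rfl (eψ.symm ⟨c w, _⟩)) : ψ.range) : Ω) = _
      rw [e1]
      have e2 : toIso E hχ rfl (Subgroup.inclusion hPY w) = Subgroup.inclusion hPrange (a w) :=
        Subtype.ext (hχa w)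
      rw [e2, MulAut.mul_apply, MulAut.mul_apply, MulAut.inv_def, MulEquiv.symm_apply_apply]
      exact hψ'e (a w)
    have hfin := ((toIso_isIso U hψ rfl).trans hθU).trans (toIso_isIso U hψ' hrr).symm
    refine mem_hom_congr U hfin fun y => ?_
    show χ y = (((toIso U hψ' hrr).symm (θ (eψ y)) : χ.range) : Ω)
    simp [θ]

/-- An automorphism of `T` in `E` agreeing with the joint system on a centric subgroup lies in
`D`. -/
theorem mem_of_joint_restr [Finite T] (hS : IsPGroup p S) (hF : F.IsSaturated p)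
    {E D : FusionSystem T} (hE : E.IsInvariantIn F) (hEs : E.IsSaturated p)
    (hD : D.IsInvariantIn F) (hDs : D.IsSaturated p) {Y : Subgroup Ω} (hY : TCentric F T Y)
    {β : MulAut T} (hβ : β ∈ E.autGroup T)
    (hr : restr hY.1 (T.subtype.comp β.toMonoidHom) ∈ (jointSystem E D p).Hom Y) :
    β ∈ D.autGroup T := by
  have hT := hE.2.1
  have hTS := hT.1
  have hTp := hS.to_le hTS
  set U := jointSystem E D p with hUdef
  have hUD : U ≤ D := joint_le_right (centricPElem_le_of_invariant hS hF hE hEs hD)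
  have hUE : U ≤ E := joint_le_left E D
  have hUF : U.IsSubsystemOf F := fun R φ h => hE.1 R h.1
  suffices h : ∀ Y, Y ≤ T → TCentric F T Y → ∀ β ∈ E.autGroup T,
      (∀ χ : Y →* Ω, (∀ x : Y, χ x = autExt β x) → χ ∈ U.Hom Y) → β ∈ D.autGroup T from
    h Y hY.1 hY β hβ fun χ hχ => mem_hom_congr U hr fun x =>
      (hχ x).trans (autExt_of_mem β (hY.1 x.2))
  intro Y hYT
  refine downward_induction (S := T) (motive := fun Y => TCentric F T Y → ∀ β ∈ E.autGroup T,
      (∀ χ : Y →* Ω, (∀ x : Y, χ x = autExt β x) → χ ∈ U.Hom Y) → β ∈ D.autGroup T) ?_ hYT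
  clear! Y β
  intro Y hYT ih hY β hβ hmap
  rcases hYT.eq_or_lt with rfl | hlt
  · exact (mem_autGroup D le_rfl).2 (hUD Y (hmap _ fun x => (autExt_of_mem β x.2).symm))
  obtain ⟨e, he, P, hc, hPn⟩ := exists_e0_tfn hS hF hE hEs hYT
  have heU := centricPElem_le_joint E D _ he
  have hYP : U.IsConj Y P := ⟨_, restr_mem U hc.1 heU, hc.range_restr_eq⟩
  have hYPF : F.IsConj Y P := by obtain ⟨φ, hφ, h⟩ := hYP; exact ⟨φ, hUF Y hφ, h⟩
  have hPc : TCentric F T P := tCentric_of_isConj hT hY hYPF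
  have hcardP : Nat.card Y = Nat.card P := isConj_card_eq hYP
  have hPlt : P < T := lt_of_le_of_ne hPn.1 fun e => by
    have h1 := card_lt_of_lt le_rfl hlt
    rw [← e] at h1
    omega
  have hUn : U.IsFullyNormalized P := tfn_fullyNormalized hUF hPn
  -- larger classes are saturated
  have hbig : ∀ Z, Z ≤ T → TCentric F T Z → Nat.card P < Nat.card Z →
      ClassSaturated U p Z := by
    intro Z hZT hZ hcard
    obtain ⟨eZ, heZ, Z₀, hcZ, hZ₀⟩ := exists_e0_tfn hS hF hE hEs hZT
    have hZconj : U.IsConj Z Z₀ :=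
      ⟨_, restr_mem U hcZ.1 (centricPElem_le_joint E D _ heZ), hcZ.range_restr_eq⟩
    have hEn := tfn_fullyNormalized hE.1 hZ₀
    refine ⟨Z₀, hZconj, fullyAutomized_of_le hUE (saturated_fullyNormalized hTp hEs hEn).2,
      hZ₀.1, fun R φ hφ hrange => ?_⟩
    have hRF : F.IsConj Z R := by
      obtain ⟨θ, hθ, h⟩ := hZconj
      exact isConj_trans ⟨θ, hUF Z hθ, h⟩ (isConj_symm ⟨φ, hUF R hφ, hrange⟩)
    obtain ⟨ψ, hψ, hψe⟩ := (saturated_fullyCentralized hTp hEs
      (saturated_fullyNormalized hTp hEs hEn).1).2 R φ hφ.1 hrange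
    refine ⟨ψ, ⟨hψ, ?_⟩, hψe⟩
    obtain ⟨γ, hγ, e₁, he₁, hψd⟩ := centricPElem_decomp hTp hEs hψ
    have hle : R ≤ extender T R φ := le_extender (le_S U hφ) (map_mem_S U hφ)
    have he₁r := restr_mem _ hle he₁
    obtain ⟨d, hd, hde⟩ := (centricPElemSystem E p).inv_mem he₁r
    have hdR : ∀ y, d y ∈ R := by
      rintro ⟨_, x, rfl⟩
      rw [hde]
      exact x.2
    have hconj : F.IsConj Z (restr hle e₁).range :=
      isConj_trans hRF ⟨_, hE.1 R (centricPElemSystem_sub E R he₁r), rfl⟩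
    refine ⟨γ, ⟨hγ, ih _ (range_le_S _ he₁r) ?_ (tCentric_of_isConj hT hZ hconj) γ hγ ?_⟩,
      e₁, he₁, hψd⟩
    · rw [← isConj_card_eq hconj]
      exact hcardP ▸ hcard
    · intro χ hχ
      refine comp_mem' U (centricPElem_le_joint E D _ hd) hφ hdR ?_
      rintro ⟨_, x, rfl⟩
      rw [hχ]
      have e1 : (⟨d ⟨restr hle e₁ x, x, rfl⟩, hdR _⟩ : R) = x := Subtype.ext (hde x)
      rw [e1]
      show autExt γ (e₁ (Subgroup.inclusion hle x)) = φ x
      rw [← hψd]
      exact hψe x x.2 (hle x.2)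
  have hbig' : ∀ Z R, Z ≤ T → R ≤ Z → U.IsConj R P → Nat.card P < Nat.card Z →
      ClassSaturated U p Z := fun Z R hZ hRZ hRP hcard => by
    refine hbig Z hZ (tCentric_mono (tCentric_of_isConj hT hPc (isConj_symm ?_)) hRZ hZ) hcard
    obtain ⟨φ, hφ, h⟩ := hRP
    exact ⟨φ, hUF R hφ, h⟩
  have step : ∀ {Q R R' : Subgroup Ω} {θ : Q →* Ω}, θ ∈ U.Hom Q → Carries θ R R' → R < Q →
      Nice U P R' → Nice U P R := fun hθ hc hlt' h =>
    niceOn_of_step hTp hbig' hUn hθ hc hlt' h
  -- conjugates under the generated subsystem are nice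
  let N0 : FusionSystem T :=
    { Hom := fun R => {φ | φ ∈ U.Hom R ∧ (U.IsConj R P → (Nice U P R ↔ Nice U P φ.range))}
      le_of_mem := fun h => U.le_of_mem h.1
      injective_of_mem := fun h => U.injective_of_mem h.1
      conj_mem := fun {R g} hR hg => by
        refine ⟨U.conj_mem hR hg, fun hRP => ?_⟩
        have hc : Carries (conjHom T g) R (conjHom R g).range :=
          ⟨hR, map_subgroupOf_eq_range R hR fun _ => rfl⟩
        have hmem := U.conj_mem (P := T) (g := g) le_rfl hg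
        have hRlt : R < T := lt_of_le_of_ne hR fun e => hPlt.ne
          (eq_of_le_of_card_le hPlt.le (by rw [← isConj_card_eq hRP, e]))
        have : Finite T := ‹_›
        have hr : (conjHom T g).range = T := range_eq_of_image_le (U.injective_of_mem hmem)
          (range_le_S U hmem) le_rfl
        refine ⟨fun h => step (toIso_isIso U hmem hr).symm
          (carries_symm U hmem hr hc) ?_ h, fun h => step hmem hc hRlt h⟩
        refine lt_of_le_of_ne (range_le_S U (U.conj_mem hR hg)) fun e => hRlt.ne ?_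
        refine eq_of_le_of_card_le hR ?_
        rw [hc.card_eq (U.injective_of_mem hmem), e]
      comp_mem := by
        intro R Q φ ψ hφ hψ h
        refine ⟨U.comp_mem hφ.1 hψ.1 h, fun hRP => ?_⟩
        have hR'P : U.IsConj φ.range P := isConj_trans (isConj_symm ⟨φ, hφ.1, rfl⟩) hRP
        have hQ : φ.range ≤ Q := by
          rintro _ ⟨x, rfl⟩
          exact h x
        have hr : (restr hQ ψ).range = (ψ.comp (φ.codRestrict Q h)).range := by
          ext y
          constructor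
          · rintro ⟨⟨_, x, rfl⟩, rfl⟩
            exact ⟨x, rfl⟩
          · rintro ⟨x, rfl⟩
            exact ⟨⟨_, x, rfl⟩, rfl⟩
        have hc : Carries ψ φ.range (ψ.comp (φ.codRestrict Q h)).range :=
          ⟨hQ, by rw [← range_restr hQ, hr]⟩
        refine (hφ.2 hRP).trans ?_
        rcases eq_or_lt_of_le hQ with rfl | hlt'
        · exact (hψ.2 hR'P).trans (by rw [← hr]; rfl)
        · have : Finite Q := finite_of_le ‹_› (le_S U hψ.1)
          refine ⟨fun hn => step (toIso_isIso U hψ.1 rfl).symm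
            (carries_symm U hψ.1 rfl hc) ?_ hn, step hψ.1 hc hlt'⟩
          refine lt_of_le_of_ne hc.le_range fun e => hlt'.ne (eq_of_le_of_card_le hQ ?_)
          rw [hc.card_eq (U.injective_of_mem hψ.1), e]
          exact (Nat.card_congr (toIso U hψ.1 rfl).toEquiv).le
      inv_mem := by
        intro R φ hφ
        obtain ⟨ψ, hψ, he⟩ := U.inv_mem hφ.1
        refine ⟨ψ, ⟨hψ, fun hRP => ?_⟩, he⟩
        have hr : ψ.range = R := by
          ext y
          constructor
          · rintro ⟨⟨_, x, rfl⟩, rfl⟩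
            rw [he]
            exact x.2
          · intro hy
            exact ⟨_, he ⟨y, hy⟩⟩
        rw [hr]
        exact (hφ.2 (isConj_trans ⟨φ, hφ.1, rfl⟩ hRP)).symm }
  have hN0 : centricPElemSystem E p ≤ N0 := centricPElemSystem_le fun Q hQ α hα => by
    have h0 := autGroup_mem_hom _ hQ.1 (centricPElemSystem_contains E Q hQ hα)
    refine (mem_autGroup N0 hQ.1).2 ⟨centricPElem_le_joint E D Q h0, fun _ => ?_⟩
    show Nice U P Q ↔ Nice U P (Q.subtype.comp α.toMonoidHom).range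
    rw [range_subtype_comp]
  have hnice : ∀ {R : Subgroup Ω} {φ : Y →* Ω}, φ ∈ (centricPElemSystem E p).Hom Y →
      φ.range = R → Nice U P Y ∧ Nice U P R := by
    intro R φ hφ hR
    have h1 := (hN0 Y (restr_mem _ hc.1 he)).2 hYP
    rw [hc.range_restr_eq] at h1
    have hY' := h1.2 (nice_self hPn.1)
    exact ⟨hY', hR ▸ ((hN0 Y hφ).2 hYP).1 hY'⟩
  -- remove the `K`-part of `β` on `Y`
  obtain ⟨-, α, hα, φ₀, hφ₀, hdec⟩ := hmap (restr hYT (T.subtype.comp β.toMonoidHom))
    fun x => (autExt_of_mem β (hYT x.2)).symm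
  suffices h : α⁻¹ * β ∈ D.autGroup T by
    have := mul_mem hα.2 h
    rwa [mul_inv_cancel_left] at this
  set β' := α⁻¹ * β with hβ'def
  have hβ' : β' ∈ E.autGroup T := mul_mem ((E.autGroup T).inv_mem hα.1) hβ
  have hφ₀e : ∀ x : Y, φ₀ x = (β' ⟨x, hYT x.2⟩ : T) := fun x => by
    have h1 : β ⟨x, hYT x.2⟩ = α ⟨φ₀ x, map_mem_S _ hφ₀ x⟩ :=
      Subtype.ext ((hdec x).trans (autExt_of_mem α _))
    rw [hβ'def, MulAut.mul_apply, h1, MulAut.inv_def, MulEquiv.symm_apply_apply]
  obtain ⟨⟨v, hv, hvc⟩, v', hv', hv'c⟩ := hnice hφ₀ rfl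
  have hN := normalizerIn_le (S := T) Y
  set b := restr hN (T.subtype.comp β'.toMonoidHom) with hbdef
  have hb : b ∈ E.Hom (normalizerIn T Y) := restr_mem E hN (autGroup_mem_hom E le_rfl hβ')
  have hbc : Carries b Y φ₀.range := ⟨le_normalizerIn hYT,
    map_subgroupOf_eq_range Y (le_normalizerIn hYT) fun x => (hφ₀e x).symm⟩
  have hbN : ∀ x, b x ∈ normalizerIn T φ₀.range := fun x => hbc.mem_normalizerIn hb le_rfl x
  have hbv := E.comp_mem hb hv'.1 hbN
  set ev := toIso U hv rfl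
  have hevE : IsIso E ev.symm := (toIso_isIso U hv rfl).symm.1
  set χ := (v'.comp (b.codRestrict _ hbN)).comp ev.symm.toMonoidHom with hχdef
  have hχ : χ ∈ E.Hom v.range :=
    comp_mem' E hevE hbv (fun y => (ev.symm y).2) fun y => rfl
  have hvN : v.range ≤ normalizerIn T P := by
    rintro _ ⟨x, rfl⟩
    exact hvc.mem_normalizerIn hv le_rfl x
  have hPv : P ≤ v.range := hvc.le_range
  have hχP : Carries χ P P := (((carries_symm U hv rfl hvc).comp
    (hbc.comp hv'c hbN) fun y => (ev.symm y).2)).of_congr fun _ => rfl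
  have : Finite P := finite_of_le ‹_› hPn.1
  -- the induced automorphism of `P`
  have hvr := restr_mem U hvc.1 hv
  set eP := toIso U hvr hvc.range_restr_eq
  have hφ₀U := centricPElem_le_joint E D Y hφ₀
  have hv'r := restr_mem U hv'c.1 hv'
  set a : MulAut P :=
    eP.symm.trans ((toIso U hφ₀U rfl).trans (toIso U hv'r hv'c.range_restr_eq))
  have haU : a ∈ U.autGroup P := (mem_autGroup U hPn.1).2 ((toIso_isIso U hvr _).symm.trans
    ((toIso_isIso U hφ₀U rfl).trans (toIso_isIso U hv'r _)))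
  have hχa : ∀ x : P, χ (Subgroup.inclusion hPv x) = a x := by
    intro x
    obtain ⟨y, rfl⟩ := eP.surjective x
    have e1 : ev.symm (Subgroup.inclusion hPv (eP y)) = Subgroup.inclusion hvc.1 y := by
      rw [MulEquiv.symm_apply_eq]
      rfl
    show v' ⟨b (ev.symm (Subgroup.inclusion hPv (eP y))), _⟩ =
      ((toIso U hv'r hv'c.range_restr_eq) ((toIso U hφ₀U rfl) (eP.symm (eP y))) : P)
    rw [MulEquiv.symm_apply_apply]
    refine congrArg v' (Subtype.ext ?_)
    show b (ev.symm _) = φ₀ y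
    rw [e1, hφ₀e]
    rfl
  have hχU := agree_aux hS hF hE hEs hD hDs hPc hPn hPlt hPv hvN hχ haU hχa
  have hbU : b ∈ U.Hom (normalizerIn T Y) := by
    have h1 : IsIso U ev := toIso_isIso U hv rfl
    have hev' : ∀ y, χ y ∈ v'.range := fun y => ⟨_, rfl⟩
    have h2 := U.comp_mem (U.comp_mem h1 hχU fun x => (ev x).2)
      (toIso_isIso U hv' rfl).symm fun x => hev' _
    refine mem_hom_congr U h2 fun x => ?_
    refine Eq.trans ?_ (congrArg (fun w => (((toIso U hv' rfl).symm w) : Ω))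
      (Subtype.ext (a1 := (toIso U hv' rfl) ⟨b x, hbN x⟩) ?_))
    · rw [MulEquiv.symm_apply_apply]
    · show v' ⟨b x, _⟩ = χ (ev x)
      rw [hχdef]
      simp
  refine ih (normalizerIn T Y) hN (card_lt_of_lt hN (lt_normalizerIn hTp hlt))
    (tCentric_mono hY (le_normalizerIn hYT) hN) β' hβ' fun χ' hχ' => mem_hom_congr U hbU fun x => ?_
  exact (hχ' x).trans (autExt_of_mem β' (hN x.2))

theorem residual_le_of_invariant [Finite T] (hS : IsPGroup p S) (hF : F.IsSaturated p)
    {E D : FusionSystem T} (hE : E.IsInvariantIn F) (hEs : E.IsSaturated p)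
    (hD : D.IsInvariantIn F) (hDs : D.IsSaturated p) : residualSystem E p ≤ D := by
  refine residual_le_of (centricPElem_le_of_invariant hS hF hE hEs hD)
    ((Subgroup.closure_le _).2 ?_)
  rintro β ⟨hβ, P, φ, hP, hφ, he⟩
  exact mem_of_joint_restr hS hF hE hEs hD hDs (tCentric_of_centric hE hP) hβ
    (mem_hom_congr _ (centricPElem_le_joint E D P hφ) fun x =>
      ((he x).trans (autExt_of_mem β (hP.1 x.2))).symm)

end Cfsg.Agent.FusionAlperin
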