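import Cfsg.Agent.FusionAlperin.NormalSubgroupSystems
import Cfsg.Agent.FusionAlperin.GoodLift

/-!
A normal subsystem moves a normal subgroup `Q` only inside its own base group.
-/

set_option autoImplicit false

open Cfsg Cfsg.FusionSystem
open Cfsg.Agent.FusionSys

namespace Cfsg.Agent.FusionAlperin

universe u

/-- A coprime automorphism trivial modulo `N` on a displacement kills it. -/
theorem disp_mem_of_coprime {Y : Type*} [Group Y] {N : Subgroup Y} [N.Normal] {α : MulAut Y}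
    {p k : ℕ} (hN : ∀ n ∈ N, α n ∈ N) (ho : Nat.Coprime (orderOf α) p) {x : Y}
    (hc : (x⁻¹ * α x) ^ p ^ k = 1) (h : (x⁻¹ * α x)⁻¹ * α (x⁻¹ * α x) ∈ N) :
    x⁻¹ * α x ∈ N := by
  set c := x⁻¹ * α x with hcdef
  set π := QuotientGroup.mk' N
  have hπ : ∀ a b : Y, a⁻¹ * b ∈ N → π a = π b := fun a b hab => QuotientGroup.eq.2 hab
  have hαN : ∀ a b : Y, π a = π b → π (α a) = π (α b) := fun a b hab => hπ _ _ (by
    rw [← map_inv, ← map_mul]
    exact hN _ (QuotientGroup.eq.1 hab))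
  have hαc : π (α c) = π c := (hπ _ _ h).symm
  have hαx : π (α x) = π x * π c := by rw [← map_mul, hcdef, mul_inv_cancel_left]
  have hit : ∀ n : ℕ, π ((α ^ n) x) = π x * π c ^ n := by
    intro n
    induction n with
    | zero => simp
    | succ n ih =>
      rw [pow_succ', MulAut.mul_apply, hαN ((α ^ n) x) (x * c ^ n)
          (by rw [ih, map_mul π x (c ^ n), map_pow π c n]),
        map_mul α x (c ^ n), map_mul π (α x) (α (c ^ n)), map_pow α c n, map_pow π (α c) n, hαx,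
        hαc, mul_assoc, ← pow_succ']
  have h1 : π c ^ orderOf α = 1 := by
    have h2 := hit (orderOf α)
    rw [pow_orderOf_eq_one, MulAut.one_apply] at h2
    exact left_eq_mul.1 h2
  have h2 : π c ^ p ^ k = 1 := by rw [← map_pow, hc, map_one]
  exact (QuotientGroup.eq_one_iff c).1 (coprime_trivial ho h1 h2)

variable {Ω : Type u} [Group Ω] {S T : Subgroup Ω} {p : ℕ} [Finite S] [Fact p.Prime]
  {F : FusionSystem S}

omit [Fact p.Prime] in
/-- `x⁻¹ a x ∈ R` for `x` in a subgroup `Q`, after composing with powers. -/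
theorem pow_ext_apply {P Y : Subgroup Ω} (hPY : P ≤ Y) {α : MulAut Y} {a : MulAut P}
    (h : ∀ x : P, (α (Subgroup.inclusion hPY x) : Ω) = a x) (i : ℕ) (x : P) :
    ((α ^ i) (Subgroup.inclusion hPY x) : Ω) = (a ^ i) x := by
  induction i with
  | zero => rfl
  | succ i ih =>
    rw [pow_succ', pow_succ', MulAut.mul_apply, MulAut.mul_apply]
    exact (congrArg (fun w => ((α w : Y) : Ω))
      (Subtype.ext ih : (α ^ i) (Subgroup.inclusion hPY x) = Subgroup.inclusion hPY ((a ^ i) x))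
      ).trans (h _)

theorem moves_of_lift (hS : IsPGroup p S) {E : FusionSystem T}
    (hF : F.IsSaturated p) (hE : E.IsInvariantIn F) {Q : Subgroup Ω} (hQ : F.IsNormal Q)
    {P R : Subgroup Ω} (hPc : E.IsCentric P) (hPr : E.IsRadical p P) (hRP : T ⊓ Q ≤ P)
    (hR : F.IsFullyNormalized R)
    {χ : ↥(normalizerIn S P) →* Ω} (hχ : χ ∈ F.Hom (normalizerIn S P))
    (hχm : (P.subgroupOf (normalizerIn S P)).map χ = R) {a : MulAut P} (ha : a ∈ E.autGroup P)
    (hord : Nat.Coprime (orderOf a) p)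
    (hlift : ∀ f : P ≃* R, (∀ x : P, (f x : Ω) =
      χ ⟨x, le_normalizerIn (hPc.1.trans hE.2.1.1) x.2⟩) → MulAut.congr f a ∈ goodLift F R) :
    ∃ ψ ∈ F.Hom (P ⊔ Q), (∀ x : P, ψ (Subgroup.inclusion le_sup_left x) = a x) ∧
      ∀ (q : Ω) (hq : q ∈ Q), q⁻¹ * ψ ⟨q, Subgroup.mem_sup_right hq⟩ ∈ T ⊓ Q := by
  have hT := hE.2.1
  have hPT := hPc.1
  have hPS : P ≤ S := hPT.trans hT.1
  have hQS := hQ.1
  have hQsc := isNormal_stronglyClosed hQ
  have hRS := hR.1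
  have : Finite P := finite_of_le ‹_› hPS
  have hPN := le_normalizerIn (S := S) hPS
  have hχP := restr_mem F hPN hχ
  have hrP : (restr hPN χ).range = R := by rw [range_restr, hχm]
  set f := toIso F hχP hrP
  obtain ⟨A, hA, hAb, hAm⟩ := hlift f fun x => rfl
  set C := centralizerIn S P
  have hU : P ⊔ C ≤ normalizerIn S P := sup_le hPN (centralizerIn_le_normalizerIn P)
  have hUS : P ⊔ C ≤ S := hU.trans (normalizerIn_le P)
  have : Finite ↥(P ⊔ C) := finite_of_le ‹_› hUS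
  have hU'S : R ⊔ centralizerIn S R ≤ S := sup_le hRS (centralizerIn_le R)
  have hv : ∀ y, restr hU χ y ∈ R ⊔ centralizerIn S R := fun y => range_le_sup_of_le (restr hU χ)
    (fun x hx => Subgroup.mem_sup_left (hχm.le ⟨⟨x, hPN hx⟩, hx, rfl⟩))
    (fun x hx => Subgroup.mem_sup_right (T := centralizerIn S R)
      (show _ ∈ S ⊓ Subgroup.centralizer (R : Set Ω) from ⟨map_mem_S F hχ _,
      Subgroup.mem_centralizer_iff.2 fun r hr => by
        obtain ⟨z, hz, rfl⟩ := hχm.ge hr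
        rw [restr_apply, ← map_mul, ← map_mul]
        exact congrArg χ (Subtype.ext (Subgroup.mem_centralizer_iff.1 hx.2 _ hz))⟩)) ⟨y, rfl⟩
  have hχU := restr_mem F hU hχ
  set g := toIso F hχU rfl
  have hRg : R ≤ (restr hU χ).range := fun r hr => by
    obtain ⟨z, hz, rfl⟩ := hχm.ge hr
    exact ⟨⟨z, Subgroup.mem_sup_left hz⟩, rfl⟩
  have hle : (restr hU χ).range ≤ R ⊔ centralizerIn S R := by
    rintro _ ⟨y, rfl⟩
    exact hv y
  have : Finite ↥(restr hU χ).range := finite_of_le ‹_› (range_le_S F hχU)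
  have hAr := restr_mem F hle (autGroup_mem_hom F hU'S hA)
  have hArr : (restr hle ((R ⊔ centralizerIn S R).subtype.comp A.toMonoidHom)).range =
      (restr hU χ).range := range_eq_of_image_le (F.injective_of_mem hAr) (by
    rintro _ ⟨y, rfl⟩
    have := (restr hU χ).range.mul_mem y.2 (hRg (hAm (Subgroup.inclusion hle y)))
    simpa using this) le_rfl
  set A₁ := MulAut.congr g.symm (toIso F hAr hArr)
  have hA₁ : A₁ ∈ F.autGroup (P ⊔ C) :=
    autCongr_mem F (toIso_isIso F hχU rfl).symm (toIso_mem_autGroup F hAr hArr)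
  have hA₁P : ∀ x : P, (A₁ (Subgroup.inclusion le_sup_left x) : Ω) = a x := by
    intro x
    have h1 : (toIso F hAr hArr (g (Subgroup.inclusion le_sup_left x)) : Ω) =
        (g (Subgroup.inclusion le_sup_left (a x)) : Ω) := by
      refine Eq.trans (congrArg (fun w => ((A w : ↥(R ⊔ centralizerIn S R)) : Ω))
        (Subtype.ext rfl : _ = (⟨(f x : Ω), Subgroup.mem_sup_left (f x).2⟩ :
          ↥(R ⊔ centralizerIn S R)))) ((hAb (f x)).trans ?_)
      rw [autCongr_apply, MulEquiv.symm_apply_apply]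
      rfl
    have h2 := congrArg g.symm (Subtype.ext h1)
    rw [MulEquiv.symm_apply_apply] at h2
    show ((g.symm (toIso F hAr hArr (g.symm.symm _)) : ↥(P ⊔ C)) : Ω) = _
    rw [MulEquiv.symm_symm, h2]
    rfl
  have hA₁m : ∀ y : ↥(P ⊔ C), (y : Ω)⁻¹ * (A₁ y : Ω) ∈ P := by
    intro y
    obtain ⟨z, hz, hze⟩ := hχm.ge (hAm (Subgroup.inclusion hle (g y)))
    have h2 : g (y⁻¹ * A₁ y) = g ⟨(z : Ω), Subgroup.mem_sup_left hz⟩ := by
      rw [map_mul, map_inv]
      refine Subtype.ext ?_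
      show (g y : Ω)⁻¹ * (g (g.symm (toIso F hAr hArr (g.symm.symm y))) : Ω) = _
      rw [MulEquiv.symm_symm, MulEquiv.apply_symm_apply]
      exact hze.symm
    have h3 := congrArg Subtype.val (g.injective h2)
    rw [Subgroup.coe_mul, InvMemClass.coe_inv] at h3
    rw [h3]
    exact hz
  -- extend across `Q`
  set Y := (P ⊔ C) ⊔ Q with hYdef
  obtain ⟨ψ₀, hψ₀, hψ₀e, hψ₀Q⟩ := hQ.2 _ _ (autGroup_mem_hom F hUS hA₁)
  have hYS : Y ≤ S := sup_le hUS hQS
  have : Finite Y := finite_of_le ‹_› hYS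
  have hY : ψ₀.range = Y := range_eq_of_image_le (F.injective_of_mem hψ₀) (range_le_sup_of_le ψ₀
    (fun x hx => Subgroup.mem_sup_left ((hψ₀e ⟨x, hx⟩).symm ▸ (A₁ ⟨x, hx⟩).2))
    fun x hx => Subgroup.mem_sup_right (sc_map_mem hQsc hψ₀ (x := ⟨x, _⟩) hx)) le_rfl
  set B := toIso F hψ₀ hY
  have hPY : P ≤ Y := le_sup_left.trans le_sup_left
  have hBP : ∀ x : P, (B (Subgroup.inclusion hPY x) : Ω) = a x := fun x =>
    (hψ₀e (Subgroup.inclusion le_sup_left x)).trans (hA₁P x)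
  obtain ⟨k, e, m, ho, hmp, hek, hk1⟩ :=
    exists_exponent (o := orderOf B) (orderOf_pos B).ne' (Fact.out : p.Prime) hord
  set Ψ := B ^ k
  have hΨ : Ψ ∈ F.autGroup Y := pow_mem (toIso_mem_autGroup F hψ₀ hY) k
  have hΨP : ∀ x : P, (Ψ (Subgroup.inclusion hPY x) : Ω) = a x := fun x => by
    rw [pow_ext_apply hPY hBP k x]
    have : a ^ k = a := by
      conv_rhs => rw [← pow_one a]
      exact pow_eq_pow_iff_modEq.2 hk1
    rw [this]
  have hΨo : Nat.Coprime (orderOf Ψ) p := by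
    refine Nat.Coprime.coprime_dvd_left (orderOf_dvd_of_pow_eq_one (n := m) ?_) hmp
    obtain ⟨l, hl⟩ := hek
    rw [show Ψ = B ^ k from rfl, ← pow_mul, hl,
      show p ^ e * l * m = orderOf B * l by rw [ho]; ring, pow_mul, pow_orderOf_eq_one, one_pow]
  have hPmove : ∀ n : ℕ, ∀ y : Y, (y : Ω) ∈ P ⊔ C → (y : Ω)⁻¹ * ((B ^ n) y : Ω) ∈ P := by
    intro n
    induction n with
    | zero => intro y _; simp
    | succ n ih =>
      intro y hy
      have h1 := ih y hy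
      have hy' : ((B ^ n) y : Ω) ∈ P ⊔ C := by
        have := (P ⊔ C).mul_mem hy (Subgroup.mem_sup_left h1)
        simpa using this
      have h2 : ((B ((B ^ n) y) : Y) : Ω) = (A₁ ⟨((B ^ n) y : Ω), hy'⟩ : Ω) :=
        hψ₀e ⟨((B ^ n) y : Ω), hy'⟩
      rw [pow_succ', MulAut.mul_apply, h2]
      have h3 := P.mul_mem h1 (hA₁m ⟨((B ^ n) y : Ω), hy'⟩)
      simpa [mul_assoc] using h3
  -- `Q` normalizes `P`, and acts on it by inner automorphisms up to `E`
  have hqN : ∀ q ∈ Q, q ∈ Subgroup.normalizer (P : Set Ω) := by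
    intro q hq
    have key : ∀ s ∈ Q, ∀ x ∈ P, s * x * s⁻¹ ∈ P := fun s hs x hx => by
      have h1 : s * x * s⁻¹ * x⁻¹ ∈ T ⊓ Q := by
        refine ⟨T.mul_mem (sc_conj_mem hT (hQS hs) (hPT hx)) (T.inv_mem (hPT hx)), ?_⟩
        have := Q.mul_mem hs (sc_conj_mem hQsc (hPS hx) (Q.inv_mem hs))
        simpa [mul_assoc] using this
      have := P.mul_mem (hRP h1) hx
      simpa using this
    rw [Subgroup.mem_normalizer_iff]
    intro x
    refine ⟨key q hq x, fun hx => ?_⟩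
    have := key q⁻¹ (Q.inv_mem hq) _ hx
    simpa [mul_assoc] using this
  set J := E.autGroup P ⊓ autInducedBy Q P
  have hJ : J ≤ autInducedBy P P := by
    intro b hb
    have hn : ((J.subgroupOf (E.autGroup P))).Normal := by
      refine ⟨fun c hc d => ⟨mul_mem (mul_mem d.2 hc.1) ((E.autGroup P).inv_mem d.2), ?_⟩⟩
      obtain ⟨q, hq, hqe⟩ := mem_autInducedBy.1 hc.2
      obtain ⟨θ, hθ, hθe, -⟩ := hQ.2 P _ (hE.1 P (autGroup_mem_hom E hPT d.2))
      have hqY : q ∈ P ⊔ Q := Subgroup.mem_sup_right hq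
      refine mem_autInducedBy.2 ⟨θ ⟨q, hqY⟩, sc_map_mem hQsc hθ (x := ⟨q, hqY⟩) hq, fun x => ?_⟩
      obtain ⟨x, rfl⟩ := (d : MulAut P).surjective x
      show (((d : MulAut P) ((c : MulAut P) ((d : MulAut P).symm ((d : MulAut P) x))) : P) : Ω) = _
      rw [MulEquiv.symm_apply_apply]
      have e1 : θ (Subgroup.inclusion le_sup_left ((c : MulAut P) x)) = (d : MulAut P) ((c : MulAut P) x) :=
        hθe _
      have e2 : θ (Subgroup.inclusion le_sup_left x) = (d : MulAut P) x := hθe x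
      rw [← e1, ← e2, ← map_inv, ← map_mul, ← map_mul]
      exact congrArg θ (Subtype.ext (hqe x))
    have hp : IsPGroup p (J.subgroupOf (E.autGroup P)) :=
      ((isPGroup_autInducedBy (hS.to_le hQS) P).to_le inf_le_right).of_equiv
        (Subgroup.subgroupOfEquivOfLe (inf_le_left : J ≤ E.autGroup P)).symm
    have h1 := Cores.le_pCore hn hp (show (⟨b, hb.1⟩ : E.autGroup P) ∈ J.subgroupOf _ from hb)
    have h2 : b ∈ Inn P := hPr.2 ▸ ⟨_, h1, rfl⟩
    exact (inn_eq_autInducedBy P) ▸ h2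
  have hPn : (P.subgroupOf Y).Normal := by
    have hYN : Y ≤ Subgroup.normalizer (P : Set Ω) :=
      sup_le (hU.trans inf_le_right) hqN
    exact ⟨fun n hn g => (Subgroup.mem_normalizer_iff.1 (hYN g.2) _).1 hn⟩
  -- the displacement on `Q` lands in `P`
  refine ⟨restr (sup_le_sup_right le_sup_left Q) (Y.subtype.comp Ψ.toMonoidHom),
    restr_mem F _ (autGroup_mem_hom F hYS hΨ), fun x => hΨP x, fun q hq => ?_⟩
  set x : Y := ⟨q, Subgroup.mem_sup_right hq⟩
  have hΨq : (Ψ x : Ω) ∈ Q := sc_map_mem hQsc (autGroup_mem_hom F hYS hΨ) (x := x) hq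
  show q⁻¹ * (Ψ x : Ω) ∈ T ⊓ Q
  suffices h : q⁻¹ * (Ψ x : Ω) ∈ P from ⟨hPT h, Q.mul_mem (Q.inv_mem hq) hΨq⟩
  -- its conjugation action lies in `E`
  set d := (Ψ x : Ω) * q⁻¹
  have hdQ : d ∈ Q := Q.mul_mem hΨq (Q.inv_mem hq)
  have hη : ∀ s ∈ Q, ∀ hs : s ∈ Subgroup.normalizer (P : Set Ω),
      P.normalizerMonoidHom ⟨s, hs⟩ ∈ F.autGroup P := fun s hs' hs =>
    autInducedBy_le_autGroup F hPS (mem_autInducedBy.2 ⟨s, hQS hs', fun _ => rfl⟩)
  have hdJ : P.normalizerMonoidHom ⟨d, hqN d hdQ⟩ ∈ J := by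
    refine ⟨?_, mem_autInducedBy.2 ⟨d, hdQ, fun _ => rfl⟩⟩
    have h1 := autCongr_mem_of_invariant hS hF hE hPT
      (f := P.normalizerMonoidHom ⟨q, hqN q hq⟩) ((mem_autGroup F hPS).1 (hη q hq _))
      ((E.autGroup P).inv_mem ha)
    have h2 := mul_mem ha h1
    have e : P.normalizerMonoidHom ⟨d, hqN d hdQ⟩ = a *
        MulAut.congr (P.normalizerMonoidHom ⟨q, hqN q hq⟩ : P ≃* P) a⁻¹ := by
      refine MulEquiv.ext fun z => Subtype.ext ?_
      obtain ⟨w, rfl⟩ := (P.normalizerMonoidHom ⟨q, hqN q hq⟩).surjective z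
      rw [MulAut.mul_apply, autCongr_apply, MulEquiv.symm_apply_apply]
      obtain ⟨v, rfl⟩ := a.surjective w
      rw [MulAut.inv_def, MulEquiv.symm_apply_apply]
      show d * (q * (a v : Ω) * q⁻¹) * d⁻¹ = a (P.normalizerMonoidHom ⟨q, hqN q hq⟩ v)
      rw [← hΨP (P.normalizerMonoidHom ⟨q, hqN q hq⟩ v), show Subgroup.inclusion hPY
        (P.normalizerMonoidHom ⟨q, hqN q hq⟩ v) = x * Subgroup.inclusion hPY v * x⁻¹ from
          Subtype.ext rfl, map_mul, map_mul, map_inv]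
      show _ = (Ψ x : Ω) * (Ψ (Subgroup.inclusion hPY v) : Ω) * (Ψ x : Ω)⁻¹
      rw [hΨP v]
      simp only [d]
      group
    rw [e]
    exact h2
  obtain ⟨w, hw, hwe⟩ := mem_autInducedBy.1 (hJ hdJ)
  have hdU : d ∈ P ⊔ C := by
    have hz : w⁻¹ * d ∈ C := by
      refine ⟨S.mul_mem (S.inv_mem (hPS hw)) (hQS hdQ), Subgroup.mem_centralizer_iff.2 fun z hz => ?_⟩
      have h1 : d * z * d⁻¹ = w * z * w⁻¹ := hwe ⟨z, hz⟩
      calc z * (w⁻¹ * d) = w⁻¹ * (w * z * w⁻¹) * d := by group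
        _ = w⁻¹ * d * z := by rw [← h1]; group
    have := (P ⊔ C).mul_mem (Subgroup.mem_sup_left hw) (Subgroup.mem_sup_right hz)
    simpa using this
  have hcU : q⁻¹ * (Ψ x : Ω) ∈ P ⊔ C := by
    have hqC : ∀ c ∈ C, q⁻¹ * c * q ∈ C := fun c hc => by
      refine ⟨S.mul_mem (S.mul_mem (S.inv_mem (hQS hq)) hc.1) (hQS hq),
        Subgroup.mem_centralizer_iff.2 fun z hz => ?_⟩
      have h1 := (Subgroup.mem_normalizer_iff.1 (hqN q hq) z).1 hz
      calc z * (q⁻¹ * c * q) = q⁻¹ * ((q * z * q⁻¹) * c) * q := by group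
        _ = q⁻¹ * (c * (q * z * q⁻¹)) * q := by rw [Subgroup.mem_centralizer_iff.1 hc.2 _ h1]
        _ = q⁻¹ * c * q * z := by group
    have hUq : P ⊔ C ≤ (P ⊔ C).comap (MulAut.conj q⁻¹).toMonoidHom := by
      refine sup_le (fun z hz => ?_) fun z hz => ?_
      · show q⁻¹ * z * q⁻¹⁻¹ ∈ P ⊔ C
        exact Subgroup.mem_sup_left
          ((Subgroup.mem_normalizer_iff.1 (Subgroup.inv_mem _ (hqN q hq)) z).1 hz)
      · show q⁻¹ * z * q⁻¹⁻¹ ∈ P ⊔ C
        rw [inv_inv]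
        exact Subgroup.mem_sup_right (hqC z hz)
    have h1 : q⁻¹ * d * q⁻¹⁻¹ ∈ P ⊔ C := hUq hdU
    simpa [d, mul_assoc] using h1
  obtain ⟨i, hi⟩ := hS ⟨_, hUS hcU⟩
  have hmem : x⁻¹ * Ψ x ∈ P.subgroupOf Y := by
    refine disp_mem_of_coprime (fun n hn => ?_) hΨo (k := i) (Subtype.ext ?_) ?_
    · show (Ψ n : Ω) ∈ P
      rw [show n = Subgroup.inclusion hPY ⟨n, hn⟩ from Subtype.ext rfl, hΨP]
      exact Subtype.mem _
    · simpa using congrArg Subtype.val hi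
    · exact hPmove k (x⁻¹ * Ψ x) hcU
  exact hmem

/-- A normal subsystem over `T` moves a normal subgroup `Q` only inside `T ⊓ Q`. -/
theorem exists_ext_moves (hS : IsPGroup p S) (hF : F.IsSaturated p) {E : FusionSystem T}
    (hE : E.IsNormalIn F p) {Q : Subgroup Ω} (hQ : F.IsNormal Q) {P : Subgroup Ω} {φ : P →* Ω}
    (hφ : φ ∈ E.Hom P) :
    ∃ ψ ∈ F.Hom (P ⊔ Q), (∀ x : P, ψ (Subgroup.inclusion le_sup_left x) = φ x) ∧
      ∀ (q : Ω) (hq : q ∈ Q), q⁻¹ * ψ ⟨q, Subgroup.mem_sup_right hq⟩ ∈ T ⊓ Q := by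
  obtain ⟨⟨hEs, hF', hEi⟩, hext⟩ := hE
  have hT := hEi.2.1
  have hTS := hT.1
  have hQS := hQ.1
  have hQsc := isNormal_stronglyClosed hQ
  have hTp := hS.to_le hTS
  have : Finite T := finite_of_le ‹_› hTS
  have hTQ := sc_inf hT hQsc
  have hRn := inf_isNormal_of_weaklyNormal hS ⟨hEs, hF', hEi⟩ hQ
  let good : ∀ P : Subgroup Ω, (P →* Ω) → Prop := fun P φ =>
    ∃ ψ ∈ F.Hom (P ⊔ Q), (∀ x : P, ψ (Subgroup.inclusion le_sup_left x) = φ x) ∧
      ∀ (q : Ω) (hq : q ∈ Q), q⁻¹ * ψ ⟨q, Subgroup.mem_sup_right hq⟩ ∈ T ⊓ Q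
  let V : FusionSystem T := subSystem E good ?hconj ?hcomp ?hinv
  case hconj =>
    intro P g hP hg
    refine ⟨_, F.conj_mem (sup_le (hP.trans hTS) hQS) (hTS hg), fun x => rfl, fun q hq => ⟨?_, ?_⟩⟩
    · show q⁻¹ * (g * q * g⁻¹) ∈ T
      have := T.mul_mem (sc_conj_mem hT (S.inv_mem (hQS hq)) hg) (T.inv_mem hg)
      simpa [mul_assoc] using this
    · exact Q.mul_mem (Q.inv_mem hq) (sc_conj_mem hQsc (hTS hg) hq)
  case hcomp =>
    rintro P R φ₁ φ₂ - - ⟨a, ha, hae, ham⟩ ⟨b, hb, hbe, hbm⟩ h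
    have hQv : ∀ (q : Ω) (hq : q ∈ Q), a ⟨q, Subgroup.mem_sup_right hq⟩ ∈ Q := fun q hq =>
      sc_map_mem hQsc ha (x := ⟨q, _⟩) hq
    have hv : ∀ y, a y ∈ R ⊔ Q := fun y => range_le_sup_of_le a
      (fun x hx => Subgroup.mem_sup_left ((hae ⟨x, hx⟩).symm ▸ h ⟨x, hx⟩))
      (fun x hx => Subgroup.mem_sup_right (hQv x hx)) ⟨y, rfl⟩
    refine ⟨_, F.comp_mem ha hb hv, fun x => ?_, fun q hq => ?_⟩
    · exact (congrArg b (Subtype.ext (hae x))).trans (hbe ⟨φ₁ x, h x⟩)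
    · have h1 := hbm _ (hQv q hq)
      have h2 := (T ⊓ Q).mul_mem (ham q hq) h1
      simpa [mul_assoc] using h2
  case hinv =>
    rintro P φ₁ - ⟨a, ha, hae, ham⟩ χ - hχe
    obtain ⟨c, hc, hce⟩ := F.inv_mem ha
    have : Finite Q := finite_of_le ‹_› hQS
    have hrQ : (restr (le_sup_right : Q ≤ P ⊔ Q) a).range = Q :=
      range_eq_of_image_le (F.injective_of_mem (restr_mem F le_sup_right ha))
        (by rintro _ ⟨x, rfl⟩; exact sc_map_mem hQsc ha (x := Subgroup.inclusion le_sup_right x) x.2)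
        le_rfl
    have hle : φ₁.range ⊔ Q ≤ a.range := by
      refine sup_le ?_ fun q hq => ?_
      · rintro _ ⟨x, rfl⟩
        exact ⟨_, hae x⟩
      · obtain ⟨x, hx⟩ := hrQ.ge hq
        exact ⟨_, hx⟩
    refine ⟨restr hle c, restr_mem F hle hc, ?_, fun q hq => ?_⟩
    · rintro ⟨_, x, rfl⟩
      rw [hχe x]
      refine Eq.trans ?_ (hce (Subgroup.inclusion le_sup_left x))
      exact congrArg c (Subtype.ext (hae x).symm)
    · obtain ⟨x, hx⟩ := hrQ.ge hq
      have h1 := (T ⊓ Q).inv_mem (ham x x.2)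
      have h2 : restr hle c ⟨q, Subgroup.mem_sup_right hq⟩ = x :=
        (congrArg c (Subtype.ext hx.symm)).trans
          (hce (Subgroup.inclusion le_sup_right x))
      rw [h2]
      rw [show a ⟨(x : Ω), _⟩ = q from hx, mul_inv_rev, inv_inv] at h1
      exact h1
  suffices h : E ≤ V from (h P hφ).2
  clear hφ φ P
  refine Cfsg.Agent.FusionBatch.le_of_centric_radical_step hTp hEs V fun P hPn hPc hPr ih => ?_
  have hPT := hPn.1
  have hPS := hPT.trans hTS
  have : Finite P := finite_of_le ‹_› hPS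
  have hRP : T ⊓ Q ≤ P := normal_le_centric_radical hTp hPc hPr hRn
  have hPtc := tCentric_of_centric hEi hPc
  have hEn := saturated_fullyNormalized hTp hEs hPn
  obtain ⟨R, hPR, hR⟩ := exists_fullyNormalized F hPS
  obtain ⟨χ, hχ, -, hχm⟩ := exists_normalizer_map_fullyNormalized hS hF hR hPR
  have hRc := tCentric_of_isConj hT hPtc hPR
  have hcop : ∀ a ∈ E.autGroup P, Nat.Coprime (orderOf a) p →
      (∀ f : P ≃* R, (∀ x : P, (f x : Ω) = χ ⟨x, le_normalizerIn hPS x.2⟩) →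
        MulAut.congr f a ∈ goodLift F R) → a ∈ V.autGroup P := fun a ha ho hl =>
    (mem_autGroup V hPT).2 ⟨autGroup_mem_hom E hPT ha,
      moves_of_lift hS hF hEi hQ hPc hPr hRP hR hχ hχm ha ho hl⟩
  have hTMV : autInducedBy T P ≤ V.autGroup P := autInducedBy_le_autGroup V hPT
  rcases hPT.eq_or_lt with hPeq | hlt
  · subst hPeq
    refine le_of_sylow_pprime (P := autInducedBy P P)
      ⟨autInducedBy_le_autGroup E le_rfl, hEn.2.2⟩ hTMV fun a ha ho => hcop a ha ho fun f hf => ?_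
    have hRP' : R = P := by
      refine eq_of_le_of_card_le hRc.1 ?_
      rw [Nat.card_congr f.toEquiv]
    subst hRP'
    have hfF : IsIso F f := mem_of_restricts F (le_normalizerIn hPS) hχ hf
    obtain ⟨β, hβ, hβT, hβC⟩ := hext _ (autCongr_mem_of_invariant hS hF hEi le_rfl hfF ha)
    refine ⟨β, hβ, hβT, fun y => ?_⟩
    obtain ⟨r, hr, c, hc, hy⟩ := exists_mul_of_mem_sup (T := R) (K := centralizerIn S R)
      (fun x hx b hb => Subgroup.mem_centralizer_iff.1 hb.2 x hx) y.2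
    have e : y = ⟨r, Subgroup.mem_sup_left hr⟩ * ⟨c, Subgroup.mem_sup_right hc⟩ := Subtype.ext hy
    have h1 : r⁻¹ * (β ⟨r, Subgroup.mem_sup_left hr⟩ : Ω) ∈ R :=
      R.mul_mem (R.inv_mem hr) ((hβT ⟨r, hr⟩).symm ▸ Subtype.mem _)
    have h2 := (hβC ⟨c, Subgroup.mem_sup_right hc⟩ hc).1
    rw [e, map_mul, Subgroup.coe_mul, Subgroup.coe_mul]
    have hcomm : c⁻¹ * (r⁻¹ * (β ⟨r, Subgroup.mem_sup_left hr⟩ : Ω)) =
        r⁻¹ * (β ⟨r, Subgroup.mem_sup_left hr⟩ : Ω) * c⁻¹ :=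
      (Subgroup.mem_centralizer_iff.1 ((Subgroup.centralizer _).inv_mem hc.2) _ h1).symm
    rw [show (r * c)⁻¹ * ((β ⟨r, Subgroup.mem_sup_left hr⟩ : Ω) *
      (β ⟨c, Subgroup.mem_sup_right hc⟩ : Ω)) = c⁻¹ * (r⁻¹ *
        (β ⟨r, Subgroup.mem_sup_left hr⟩ : Ω)) * (β ⟨c, Subgroup.mem_sup_right hc⟩ : Ω) by group,
      hcomm, mul_assoc]
    exact R.mul_mem h1 h2
  set O := pElemGroup E p P
  have hnorm : ∀ g ∈ E.autGroup P, ∀ k ∈ O, g * k * g⁻¹ ∈ O := fun g hg k hk => by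
    have h := autCongr_mem_pElemGroup E ((mem_autGroup E hPT).1 hg) hk
    have e : MulAut.congr (g : P ≃* P) k = g * k * g⁻¹ := by
      ext x
      simp [autCongr_apply, MulAut.inv_def]
    rwa [e] at h
  have hle : autInducedBy T P ≤ O := fun c hc => by
    refine ⟨⟨c, autInducedBy_le_autGroup E hPT hc⟩, Subgroup.subset_closure ?_, rfl⟩
    obtain ⟨m, hm⟩ := isPGroup_autInducedBy hTp P ⟨c, hc⟩
    obtain ⟨j, -, hj⟩ :=
      (Nat.dvd_prime_pow (Fact.out : p.Prime)).1 (orderOf_dvd_of_pow_eq_one hm)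
    refine ⟨j, ?_⟩
    rw [Subgroup.orderOf_mk]
    rwa [Subgroup.orderOf_mk] at hj
  have hsyl : SylIn p (autInducedBy T P) O := by
    have h : SylIn p (autInducedBy T P) (E.autGroup P) :=
      ⟨autInducedBy_le_autGroup E hPT, hEn.2.2⟩
    have h2 := h.inf_normal (pElemGroup_le_autGroup E P) hnorm
    rwa [inf_eq_left.2 hle] at h2
  have hOV : O ≤ V.autGroup P := by
    refine le_of_sylow_pprime hsyl hTMV fun a ha ho =>
      hcop a (pElemGroup_le_autGroup E P ha) ho fun f hf => ?_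
    have hfF : IsIso F f := mem_of_restricts F (le_normalizerIn hPS) hχ hf
    refine pElem_le_goodLift hS hF hEi hEs hR hRc ?_
    have : pElemGroup E p P ≤ (pElemGroup E p R).comap (MulAut.congr f).toMonoidHom := by
      rw [pElemGroup, Subgroup.map_le_iff_le_comap, Subgroup.closure_le]
      rintro a ⟨k, hk⟩
      refine ⟨⟨_, autCongr_mem_of_invariant hS hF hEi hPT hfF a.2⟩,
        Subgroup.subset_closure ⟨k, ?_⟩, rfl⟩
      rw [Subgroup.orderOf_mk, ← hk, ← Subgroup.orderOf_coe a]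
      exact MulEquiv.orderOf_eq (MulAut.congr f) _
    exact this ha
  intro a ha
  obtain ⟨k, hk, hka⟩ := hsyl.frattini (hnorm a ha)
  have hN := normalizerIn_le (S := T) P
  obtain ⟨ψ, hψ, hψe⟩ := exists_ext_aut' (saturated_fullyCentralized hTp hEs hEn.1)
    (mul_mem (pElemGroup_le_autGroup E P hk) ha) (le_normalizerIn hPT) le_rfl
    fun g hg => ⟨⟨g, hg.2⟩, hka _ (mem_autInducedBy.2 ⟨g, hg.1, fun _ => rfl⟩), rfl⟩
  have hψV := ih _ hN (card_lt_of_lt hN (lt_normalizerIn hTp hlt)) hψ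
  have h1 : k * a ∈ V.autGroup P := (mem_autGroup V hPT).2
    (mem_of_restricts V (le_normalizerIn hPT) hψV fun x => (hψe x).symm)
  have := mul_mem ((V.autGroup P).inv_mem (hOV hk)) h1
  rwa [inv_mul_cancel_left] at this

end Cfsg.Agent.FusionAlperin
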