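import Cfsg.Agent.FusionAlperin.CentralizerExtend
import Cfsg.Agent.FusionSys.NormCentSaturated
import Cfsg.Agent.S5119

/-!
For a subgroup `Q` normal in `F`: the inner system of `Q` and the centralizer system of `Q` are
normal subsystems, and `Q` meets every weakly normal subsystem in a normal subgroup.
-/

set_option autoImplicit false

open Cfsg Cfsg.FusionSystem
open Cfsg.Agent.FusionSys

namespace Cfsg.Agent.FusionAlperin

universe u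

variable {Ω : Type u} [Group Ω] {S : Subgroup Ω} {p : ℕ} [Finite S] [Fact p.Prime]
  {F : FusionSystem S}

/-- The inner system of a normal subgroup is a normal subsystem. -/
theorem innerSystem_normal (hS : IsPGroup p S) (hF : F.IsSaturated p) {Q : Subgroup Ω}
    (hQ : F.IsNormal Q) : (Cfsg.innerFusionSystem Q).IsNormalIn F p := by
  have hQS := hQ.1
  have hsc := isNormal_stronglyClosed hQ
  have : Finite Q := finite_of_le ‹_› hQS
  refine ⟨⟨Cfsg.Agent.FusionBatch.inner_saturated hS hQS, hF, ?_, hsc, ?_, ?_⟩, ?_⟩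
  · rintro P φ ⟨hP, g, hg, h⟩
    exact conj_mem' F (hP.trans hQS) (hQS hg) h
  · rintro P hPQ φ ⟨-, g, hg, h⟩ α -
    set P' := (P.subgroupOf Q).map (Q.subtype.comp α.toMonoidHom)
    have hP' : P' ≤ Q := by
      rintro _ ⟨x, -, rfl⟩
      exact (α x).2
    refine ⟨Cfsg.conjHom P' ((α ⟨g, hg⟩ : Q) : Ω), ⟨hP', _, Subtype.mem _, fun x => rfl⟩,
      fun x hφx hαx => ?_⟩
    show ((α ⟨g, hg⟩ : Q) : Ω) * (α ⟨x, hPQ x.2⟩ : Q) * ((α ⟨g, hg⟩ : Q) : Ω)⁻¹ = _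
    rw [← Subgroup.coe_inv, ← Subgroup.coe_mul, ← Subgroup.coe_mul, ← map_inv, ← map_mul,
      ← map_mul]
    exact congrArg (fun w => ((α w : Q) : Ω)) (Subtype.ext (h x).symm)
  · intro P hP φ hφ
    obtain ⟨ψ, hψ, he, hm⟩ := hQ.2 P φ hφ
    have hr : (restr (le_sup_right : Q ≤ P ⊔ Q) ψ).range = Q := by rw [range_restr, hm]
    refine ⟨_, toIso_mem_autGroup F (restr_mem F le_sup_right hψ) hr, P.subtype,
      ⟨hP, 1, Q.one_mem, fun x => by simp⟩, fun x _ => ?_⟩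
    exact (he x).symm
  · intro α hα
    obtain ⟨-, g, hg, h⟩ := autGroup_mem_hom _ le_rfl hα
    set U := Q ⊔ centralizerIn S Q
    have hgN : g ∈ Subgroup.normalizer (U : Set Ω) :=
      Subgroup.le_normalizer (Subgroup.mem_sup_left hg)
    refine ⟨U.normalizerMonoidHom ⟨g, hgN⟩,
      autInducedBy_le_autGroup F (sup_le hQS (centralizerIn_le Q))
        (mem_autInducedBy.2 ⟨g, hQS hg, fun _ => rfl⟩), fun x => (h x).symm, fun c hc => ?_⟩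
    show (c : Ω)⁻¹ * (g * (c : Ω) * g⁻¹) ∈ _
    rw [Subgroup.mem_centralizer_iff.1 hc.2 g hg, mul_inv_cancel_right, inv_mul_cancel]
    exact one_mem _

omit [Fact p.Prime] in
theorem fullyCentralized_of_normal {Q : Subgroup Ω} (hQ : F.IsNormal Q) :
    F.IsFullyCentralized Q := by
  refine ⟨hQ.1, ?_⟩
  rintro _ ⟨φ, hφ, rfl⟩
  have : Finite Q := finite_of_le ‹_› hQ.1
  rw [range_eq_of_image_le (F.injective_of_mem hφ)
    (by rintro _ ⟨x, rfl⟩; exact sc_map_mem (isNormal_stronglyClosed hQ) hφ x.2) le_rfl]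

omit [Finite S] [Fact p.Prime] in
theorem centralizerIn_sc {Q : Subgroup Ω} (hQ : F.IsNormal Q) :
    F.StronglyClosed (centralizerIn S Q) := by
  refine sc_of_elements (centralizerIn_le Q) fun P φ hφ x hx => ?_
  obtain ⟨ψ, hψ, h1, h2⟩ := hQ.2 P φ hφ
  refine ⟨map_mem_S F hφ x, Subgroup.mem_centralizer_iff.2 fun q hq => ?_⟩
  obtain ⟨q', hq', rfl⟩ := h2.ge hq
  rw [← h1 x, ← map_mul, ← map_mul]
  exact congrArg ψ (Subtype.ext (Subgroup.mem_centralizer_iff.1 hx.2 _ hq'))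

/-- The centralizer system of a normal subgroup is a normal subsystem. -/
theorem centSys_normal (hS : IsPGroup p S) (hF : F.IsSaturated p) {Q : Subgroup Ω}
    (hQ : F.IsNormal Q) : (centSys F Q hQ.1).IsNormalIn F p := by
  have hQS := hQ.1
  have hQsc := isNormal_stronglyClosed hQ
  have hT := centralizerIn_sc hQ
  set T := centralizerIn S Q with hTdef
  set C := centSys F Q hQS
  have hTS := hT.1
  have : Finite T := finite_of_le ‹_› hTS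
  have hsub : C.IsSubsystemOf F := fun P φ hφ => hφ.1
  have hinv : C.IsInvariantIn F := by
    refine (Cfsg.Agent.S5119.result p hS F hF C hsub hT).2 ?_
    intro P R hPR hRT φ hφ hφR ψ hψ
    obtain ⟨-, -, -, φ₁, hφ₁, hφP, hφQ⟩ := hφ
    obtain ⟨ψ₁, hψ₁, hψR, hψQ⟩ := hQ.2 R ψ hψ
    have hle : P ⊔ Q ≤ R ⊔ Q := sup_le_sup_right hPR Q
    set ψ₀ := restr hle ψ₁ with hψ₀def
    have hψ₀ := restr_mem F hle hψ₁
    obtain ⟨ι, hι, hιe⟩ := F.inv_mem hψ₀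
    set P' := (P.subgroupOf R).map ψ
    have hP' : P' ⊔ Q ≤ ψ₀.range := by
      refine sup_le ?_ fun q hq => ?_
      · rintro _ ⟨x, hx, rfl⟩
        exact ⟨⟨x, Subgroup.mem_sup_left hx⟩, hψR x⟩
      · obtain ⟨q', hq', rfl⟩ := hψQ.ge hq
        exact ⟨⟨q', Subgroup.mem_sup_right hq'⟩, rfl⟩
    have hιv : ∀ y, ι y ∈ P ⊔ Q := by
      rintro ⟨_, x, rfl⟩
      rw [hιe x]
      exact x.2
    have hφv : ∀ y, φ₁ y ∈ R ⊔ Q :=
      cent_ext_mem_sup (fun x => (hφP x).symm ▸ hφR x) hφQ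
    set χ₁ := (ψ₁.comp (φ₁.codRestrict _ hφv)).comp ((restr hP' ι).codRestrict _ fun y => hιv _)
    have hχ₁ : χ₁ ∈ F.Hom (P' ⊔ Q) :=
      F.comp_mem (restr_mem F hP' hι) (F.comp_mem hφ₁ hψ₁ hφv) fun y => hιv _
    have hιx : ∀ (x : ↥(P ⊔ Q)) (hx : ψ₀ x ∈ P' ⊔ Q), χ₁ ⟨ψ₀ x, hx⟩ = ψ₁ ⟨φ₁ x, hφv x⟩ := by
      intro x hx
      exact congrArg ψ₁ (Subtype.ext (congrArg φ₁ (Subtype.ext (hιe x))))
    have hχP : ∀ (x : P) (hx : ψ (Subgroup.inclusion hPR x) ∈ P' ⊔ Q),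
        χ₁ ⟨ψ (Subgroup.inclusion hPR x), hx⟩ = ψ ⟨φ x, hφR x⟩ := by
      intro x hx
      have e : ψ₀ ⟨x, Subgroup.mem_sup_left x.2⟩ = ψ (Subgroup.inclusion hPR x) :=
        hψR (Subgroup.inclusion hPR x)
      refine Eq.trans (congrArg χ₁ (Subtype.ext e.symm)) ((hιx _ (e ▸ hx)).trans ?_)
      exact Eq.trans (congrArg ψ₁ (Subtype.ext
        (a2 := Subgroup.inclusion le_sup_left (⟨φ x, hφR x⟩ : R)) (hφP x))) (hψR ⟨φ x, hφR x⟩)
    have hP'T : P' ≤ T := by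
      rintro _ ⟨x, -, rfl⟩
      exact sc_map_mem hT hψ (hRT x.2)
    refine ⟨restr le_sup_left χ₁, ⟨restr_mem F le_sup_left hχ₁, hP'T, ?_, χ₁, hχ₁,
      fun _ => rfl, fun q => ?_⟩, fun x hx => hχP x (Subgroup.mem_sup_left hx)⟩
    · rintro ⟨_, x, hx, rfl⟩
      have e : χ₁ ⟨ψ x, Subgroup.mem_sup_left ⟨x, hx, rfl⟩⟩ = ψ ⟨φ ⟨x, hx⟩, hφR _⟩ :=
        hχP ⟨x, hx⟩ (Subgroup.mem_sup_left ⟨x, hx, rfl⟩)
      show χ₁ ⟨ψ x, Subgroup.mem_sup_left ⟨x, hx, rfl⟩⟩ ∈ T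
      exact e.symm ▸ sc_map_mem hT hψ (hRT (hφR _))
    · obtain ⟨q', hq', he⟩ := hψQ.ge q.2
      have e1 : ψ₀ ⟨q', Subgroup.mem_sup_right hq'⟩ = (q : Ω) := he
      have e2 : φ₁ ⟨q', Subgroup.mem_sup_right hq'⟩ = (q' : Ω) := hφQ ⟨q', hq'⟩
      have e3 : (Subgroup.inclusion le_sup_right q : ↥(P' ⊔ Q)) =
          ⟨ψ₀ ⟨q', Subgroup.mem_sup_right hq'⟩, e1.symm ▸ Subgroup.mem_sup_right q.2⟩ :=
        Subtype.ext e1.symm
      rw [e3, hιx]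
      exact Eq.trans (congrArg ψ₁ (Subtype.ext e2)) he
  refine ⟨⟨centralizerSystem_saturated hS hF (fullyCentralized_of_normal hQ) (centSys_spec F Q hQS),
    hF, hinv⟩, fun α hα => ?_⟩
  set W := T ⊔ Q
  obtain ⟨-, -, -, α₁, hα₁, hαT, hαQ⟩ := autGroup_mem_hom C le_rfl hα
  have hWS : W ≤ S := sup_le hTS hQS
  have : Finite W := finite_of_le ‹_› hWS
  have hWr : ∀ {φ : W →* Ω}, φ ∈ F.Hom W → φ.range = W := fun {φ} hφ =>
    range_eq_of_image_le (F.injective_of_mem hφ) (range_le_sup_of_le φ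
      (fun x hx => Subgroup.mem_sup_left (sc_map_mem hT hφ (x := ⟨x, _⟩) hx))
      (fun x hx => Subgroup.mem_sup_right (sc_map_mem hQsc hφ (x := ⟨x, _⟩) hx))) le_rfl
  have hWn : F.IsFullyNormalized W := by
    refine ⟨hWS, ?_⟩
    rintro _ ⟨φ, hφ, rfl⟩
    rw [hWr hφ]
  set a₁ := toIso F hα₁ (hWr hα₁)
  have ha₁ : a₁ ∈ F.autGroup W := toIso_mem_autGroup F hα₁ (hWr hα₁)
  set U := T ⊔ centralizerIn S T
  have hUS : U ≤ S := sup_le hTS (centralizerIn_le T)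
  have : Finite U := finite_of_le ‹_› hUS
  have hQC : Q ≤ centralizerIn S T := fun q hq => ⟨hQS hq, Subgroup.mem_centralizer_iff.2
    fun t ht => (Subgroup.mem_centralizer_iff.1 ht.2 q hq).symm⟩
  have hWU : W ≤ U := sup_le_sup_left hQC T
  have hSW : S ≤ Subgroup.normalizer (W : Set Ω) := fun s hs =>
    mem_normalizer_of_conj_eq (toIso F (F.conj_mem hWS hs) (hWr (F.conj_mem hWS hs))) fun _ => rfl
  have hcar : U ≤ carried S W a₁ := by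
    refine sup_le ((le_sup_left : T ≤ W).trans (le_carried_self F hWS a₁)) fun c hc => ?_
    refine ⟨⟨c, hSW hc.1⟩, mem_autInducedBy.2 ⟨c, hc.1, fun y => ?_⟩, rfl⟩
    obtain ⟨y, rfl⟩ := a₁.surjective y
    show ((a₁ (W.normalizerMonoidHom ⟨c, hSW hc.1⟩ (a₁.symm (a₁ y))) : W) : Ω) = _
    rw [MulEquiv.symm_apply_apply]
    obtain ⟨t, ht, q, hq, hy⟩ := exists_mul_of_mem_sup (T := T) (K := Q)
      (fun a ha b hb => (Subgroup.mem_centralizer_iff.1 ha.2 b hb).symm) y.2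
    have hq' : c * q * c⁻¹ ∈ Q := sc_conj_mem hQsc hc.1 hq
    have hct : ∀ {z : Ω}, z ∈ T → c * z * c⁻¹ = z := fun hz => by
      rw [← Subgroup.mem_centralizer_iff.1 hc.2 _ hz, mul_inv_cancel_right]
    have hy' : y = ⟨t, Subgroup.mem_sup_left ht⟩ * ⟨q, Subgroup.mem_sup_right hq⟩ := Subtype.ext hy
    have hcy : W.normalizerMonoidHom ⟨c, hSW hc.1⟩ y =
        ⟨t, Subgroup.mem_sup_left ht⟩ * ⟨_, Subgroup.mem_sup_right hq'⟩ := Subtype.ext (by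
      show c * (y : Ω) * c⁻¹ = t * (c * q * c⁻¹)
      rw [hy]
      calc c * (t * q) * c⁻¹ = (c * t * c⁻¹) * (c * q * c⁻¹) := by group
        _ = _ := by rw [hct ht])
    have e1 : α₁ ⟨t, Subgroup.mem_sup_left ht⟩ = (α ⟨t, ht⟩ : T) := hαT ⟨t, ht⟩
    have e2 : α₁ ⟨q, Subgroup.mem_sup_right hq⟩ = q := hαQ ⟨q, hq⟩
    have e3 : α₁ ⟨_, Subgroup.mem_sup_right hq'⟩ = c * q * c⁻¹ := hαQ ⟨_, hq'⟩
    show α₁ (W.normalizerMonoidHom ⟨c, hSW hc.1⟩ y) = c * α₁ y * c⁻¹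
    rw [hcy, hy', map_mul, map_mul, e1, e2, e3]
    calc ((α ⟨t, ht⟩ : T) : Ω) * (c * q * c⁻¹)
        = (c * (α ⟨t, ht⟩ : T) * c⁻¹) * (c * q * c⁻¹) := by rw [hct (Subtype.mem _)]
      _ = _ := by group
  obtain ⟨ψ, hψ, hψe⟩ := exists_ext_aut'
    (saturated_receptive_of_fullyNormalized hS hF hWn) ha₁ hWU
    (le_inf hUS (hUS.trans hSW)) hcar
  have hψT : ∀ (x : Ω) (hx : x ∈ T), ψ ⟨x, Subgroup.mem_sup_left hx⟩ = (α ⟨x, hx⟩ : T) :=
    fun x hx => (hψe ⟨x, Subgroup.mem_sup_left hx⟩).trans (hαT ⟨x, hx⟩)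
  have hψQ : ∀ (x : Ω) (hx : x ∈ Q), ψ ⟨x, hWU (Subgroup.mem_sup_right hx)⟩ = x :=
    fun x hx => (hψe ⟨x, Subgroup.mem_sup_right hx⟩).trans (hαQ ⟨x, hx⟩)
  have hψC : ∀ (x : U), (x : Ω) ∈ centralizerIn S T → ψ x ∈ centralizerIn S T := fun x hx => by
    refine ⟨map_mem_S F hψ x, Subgroup.mem_centralizer_iff.2 fun t ht => ?_⟩
    obtain ⟨t', ht'⟩ := α.surjective ⟨t, ht⟩
    have e : ψ ⟨t', Subgroup.mem_sup_left t'.2⟩ = t := by rw [hψT _ t'.2, ht']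
    rw [← e, ← map_mul, ← map_mul]
    exact congrArg ψ (Subtype.ext (Subgroup.mem_centralizer_iff.1 hx.2 _ t'.2))
  have hr : ψ.range = U := range_eq_of_image_le (F.injective_of_mem hψ)
    (range_le_sup_of_le ψ (fun x hx => Subgroup.mem_sup_left ((hψT x hx).symm ▸ Subtype.mem _))
      fun x hx => Subgroup.mem_sup_right (hψC ⟨x, Subgroup.mem_sup_right hx⟩ hx)) le_rfl
  refine ⟨_, toIso_mem_autGroup F hψ hr, fun x => hψT x x.2, fun c hc => ?_⟩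
  have hψc := hψC c hc
  have hcen : (c : Ω)⁻¹ * ψ c ∈ Subgroup.centralizer (T : Set Ω) :=
    mul_mem (Subgroup.inv_mem _ hc.2) hψc.2
  refine ⟨⟨S.mul_mem (S.inv_mem hc.1) hψc.1, Subgroup.mem_centralizer_iff.2 fun q hq => ?_⟩, hcen⟩
  have hq' : (c : Ω) * q * (c : Ω)⁻¹ ∈ Q := sc_conj_mem hQsc hc.1 hq
  have h1 : ψ c * q * (ψ c)⁻¹ = (c : Ω) * q * (c : Ω)⁻¹ := by
    rw [← hψQ _ hq']
    conv_lhs => rw [← hψQ q hq]
    rw [← map_inv, ← map_mul, ← map_mul]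
    exact congrArg ψ (Subtype.ext rfl)
  calc q * ((c : Ω)⁻¹ * ψ c) = (c : Ω)⁻¹ * (c * q * (c : Ω)⁻¹) * ψ c := by group
    _ = (c : Ω)⁻¹ * ψ c * q := by rw [← h1]; group

/-- A normal subgroup meets a weakly normal subsystem in a normal subgroup. -/
theorem inf_isNormal_of_weaklyNormal (hS : IsPGroup p S) {T : Subgroup Ω} {E : FusionSystem T}
    (hE : E.IsWeaklyNormalIn F p) {Q : Subgroup Ω} (hQn : F.IsNormal Q) :
    E.IsNormal (T ⊓ Q) := by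
  obtain ⟨hEs, -, hEsub, hT, -⟩ := hE
  have hTS := hT.1
  have hTp := hS.to_le hTS
  have : Finite T := finite_of_le ‹_› hTS
  have hQsc := isNormal_stronglyClosed hQn
  have hRsc : F.StronglyClosed (T ⊓ Q) := sc_inf hT hQsc
  have hRE : E.StronglyClosed (T ⊓ Q) :=
    ⟨inf_le_left, fun P hP φ hφ x => hRsc.2 P hP φ (hEsub P hφ) x⟩
  refine Cfsg.Agent.FusionBatch.isNormal_of_mem_radical hTp hEs fun P hPn hPc hPr =>
    ⟨?_, fun α hα x hx => sc_map_mem hRE (autGroup_mem_hom E hPn.1 hα) hx⟩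
  refine Cfsg.Agent.FusionBatch.le_radical_of_carried hTp hRE hPc hPr fun γ hγ r hr => ?_
  obtain ⟨ψ, hψ, h1, h2⟩ := hQn.2 P _ (hEsub P (autGroup_mem_hom E hPn.1 hγ))
  have hrQ : r ∈ P ⊔ Q := Subgroup.mem_sup_right hr.2
  refine ⟨ψ ⟨r, hrQ⟩, ⟨sc_map_mem hT hψ hr.1, sc_map_mem hQsc hψ hr.2⟩, fun x y _ hy => ?_⟩
  have e1 := h1 x
  have e2 := h1 y
  simp only [MonoidHom.comp_apply, MulEquiv.coe_toMonoidHom, Subgroup.coe_subtype] at e1 e2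
  rw [← e1, ← e2, show Subgroup.inclusion (le_sup_left : P ≤ P ⊔ Q) y =
    ⟨r, hrQ⟩ * Subgroup.inclusion le_sup_left x * ⟨r, hrQ⟩⁻¹ from Subtype.ext hy,
    map_mul, map_mul, map_inv]

end Cfsg.Agent.FusionAlperin
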