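import Cfsg.Agent.FusionAlperin.NormalMoves
import Cfsg.Agent.FusionAlperin.SurjImage

/-!
Images of normal subgroups in factor systems; components centralize normal subgroups.
-/

set_option autoImplicit false

open Cfsg Cfsg.FusionSystem
open Cfsg.Agent.FusionSys

namespace Cfsg.Agent.FusionAlperin

universe u

variable {Ω : Type u} [Group Ω] {S T : Subgroup Ω} {p : ℕ} [Finite S] [Fact p.Prime]
  {F : FusionSystem S}

/-- The image of a normal subgroup in a factor system is normal. -/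
theorem imageAlong_isNormal (hS : IsPGroup p S) (hF : F.IsSaturated p) {K Q : Subgroup Ω}
    (hK : F.StronglyClosed K) {Ω' : Type*} [Group Ω'] {S' : Subgroup Ω'} {θ : S →* Ω'}
    {E : FusionSystem S'} (hE : F.IsFactorSystem K θ E) (hQn : F.IsNormal Q) :
    E.IsNormal (imageAlong θ Q) := by
  have hsurj := isSurjectiveMorphism_factor hS hF hK hE
  obtain ⟨-, hker, hrange, hmem⟩ := hE
  have : Finite S' := hrange ▸ Finite.of_surjective _ θ.rangeRestrict_surjective
  have hQS := hQn.1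
  have hQsc := isNormal_stronglyClosed hQn
  set Q' := imageAlong θ Q
  have hQ'S : Q' ≤ S' := hrange ▸ imageAlong_le_range Q
  refine ⟨hQ'S, fun P' φ' hφ' => ?_⟩
  obtain ⟨hP', φ, hφ, hind⟩ := (hmem P' φ').1 hφ'
  obtain ⟨ψ, hψ, hψe, -⟩ := hQn.2 _ φ hφ
  obtain ⟨ψ', hψ', h1, h2, h3, he⟩ := hsurj.1.2 _ ψ hψ
  have hle : P' ⊔ Q' ≤ imageAlong θ (preimageAlong θ P' ⊔ Q) := sup_le (fun x hx => by
      obtain ⟨y, hy⟩ := exists_preimage (hrange.symm ▸ hP') ⟨x, hx⟩
      exact (show θ ⟨y, _⟩ = x from hy) ▸ h3 ⟨y, Subgroup.mem_sup_left y.2⟩)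
    (Subgroup.map_mono (Subgroup.comap_mono le_sup_right))
  refine ⟨restr hle ψ', restr_mem E hle hψ', fun x => ?_, ?_⟩
  · obtain ⟨y, hy⟩ := exists_preimage (hrange.symm ▸ hP') x
    obtain ⟨hyS, hye⟩ := inducedAlong_apply hind y
    have ex : x = ⟨θ ⟨y, preimageAlong_le P' y.2⟩, theta_mem_of_mem_preimage y⟩ :=
      Subtype.ext hy.symm
    rw [ex, hye]
    refine (he ⟨y, Subgroup.mem_sup_left y.2⟩).trans (congrArg θ (Subtype.ext ?_))
    exact hψe y
  · have : Finite Q' := finite_of_le ‹_› hQ'S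
    have hr : (restr (le_sup_right.trans hle : Q' ≤ _) ψ').range = Q' :=
      range_eq_of_image_le (E.injective_of_mem (restr_mem E _ hψ')) (by
        rintro _ ⟨x, rfl⟩
        obtain ⟨z, hz⟩ := imageAlong_exists hQS x
        have hzU : (z : Ω) ∈ preimageAlong θ P' ⊔ Q := Subgroup.mem_sup_right z.2
        have e : Subgroup.inclusion (le_sup_right.trans hle : Q' ≤ _) x = ⟨_, h3 ⟨z, hzU⟩⟩ :=
          Subtype.ext hz.symm
        rw [restr_apply, e, he]
        exact theta_mem_imageAlong hQS ⟨_, sc_map_mem hQsc hψ (x := ⟨z, hzU⟩) z.2⟩) le_rfl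
    conv_rhs => rw [← hr]
    rw [range_restr]
    ext w
    rw [mem_map_subgroupOf, mem_map_subgroupOf]
    exact ⟨fun ⟨x, hx, e⟩ => ⟨⟨x, hle x.2⟩, hx, e⟩,
      fun ⟨x, hx, e⟩ => ⟨⟨x, Subgroup.mem_sup_right hx⟩, hx, e⟩⟩

/-- If the factor system modulo a central subgroup is inner, the hyperfocal subgroup is trivial. -/
theorem hyperfocal_eq_bot_of_inner (hS : IsPGroup p S) {Z : Subgroup Ω} (hZ : F.IsCentral Z)
    (hF : F.IsSaturated p) {Ω' : Type*} [Group Ω'] {S' : Subgroup Ω'} {θ : S →* Ω'}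
    {E : FusionSystem S'} (hE : F.IsFactorSystem Z θ E)
    (h : ∀ (P' : Subgroup Ω') (φ' : P' →* Ω'), φ' ∈ E.Hom P' →
      ∃ g ∈ S', ∀ x : P', φ' x = g * x * g⁻¹) :
    F.hyperfocalSubgroup p = ⊥ := by
  have hsurj := isSurjectiveMorphism_factor hS hF (isNormal_stronglyClosed (isCentral_isNormal hZ)) hE
  obtain ⟨-, hker, hrange, -⟩ := hE
  rw [hyperfocalSubgroup, Subgroup.closure_eq_bot_iff]
  rintro _ ⟨P, α, x, hP, hα, rfl⟩
  suffices hsub : pResidual p (F.autGroup P) ≤ ⊥ by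
    have h1 : α = 1 := hsub hα
    subst h1
    simp
  rw [pResidual, Subgroup.closure_le]
  intro a ha
  refine Subtype.ext (MulEquiv.ext fun y => Subtype.ext ?_)
  have haF := autGroup_mem_hom F hP a.2
  obtain ⟨ψ, hψ, hψP, hψZ⟩ := hZ.2 P _ haF
  obtain ⟨ψ', hψ', h1, h2, h3, he⟩ := hsurj.1.2 _ ψ hψ
  obtain ⟨g, hg, hge⟩ := h _ _ hψ'
  obtain ⟨g₀, rfl⟩ : g ∈ θ.range := hrange.symm ▸ hg
  have hstep : ∀ y : P, θ ⟨((a : MulAut P) y : P), hP (Subtype.mem _)⟩ =
      θ g₀ * θ ⟨y, hP y.2⟩ * (θ g₀)⁻¹ := by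
    intro y
    have := (he (Subgroup.inclusion le_sup_left y)).symm.trans (hge _)
    refine Eq.trans (congrArg θ (Subtype.ext ?_)) this
    exact (hψP y).symm
  have hit : ∀ (n : ℕ) (y : P), θ ⟨(((a : MulAut P) ^ n) y : P), hP (Subtype.mem _)⟩ =
      θ g₀ ^ n * θ ⟨y, hP y.2⟩ * (θ g₀ ^ n)⁻¹ := by
    intro n
    induction n with
    | zero => intro y; simp
    | succ n ih =>
      intro y
      have e := hstep (((a : MulAut P) ^ n) y)
      rw [ih y] at e
      simp only [pow_succ' (a : MulAut P) n, MulAut.mul_apply]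
      rw [e, pow_succ' (θ g₀) n]
      group
  obtain ⟨i, hi⟩ := hS g₀
  have hg1 : θ g₀ ^ p ^ i = 1 := by rw [← map_pow, hi, map_one]
  obtain ⟨l, hl⟩ := exists_pow_eq_self_of_coprime (n := p ^ i) (x := (a : MulAut P))
    (Nat.Coprime.pow_left i (by rw [Subgroup.orderOf_coe]; exact Nat.Coprime.symm ha))
  rw [← pow_mul] at hl
  have hgl : θ g₀ ^ (p ^ i * l) = 1 := by rw [pow_mul, hg1, one_pow]
  have hθy : θ ⟨((a : MulAut P) y : P), hP (Subtype.mem _)⟩ = θ ⟨y, hP y.2⟩ := by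
    have e := hit (p ^ i * l) y
    rw [hgl] at e
    simp only [hl, one_mul, inv_one, mul_one] at e
    exact e
  set c := y⁻¹ * (a : MulAut P) y with hc
  have hcZ : (c : Ω) ∈ Z := by
    have := (hker (⟨y, hP y.2⟩⁻¹ * ⟨((a : MulAut P) y : P), hP (Subtype.mem _)⟩)).1
      (by rw [map_mul, map_inv, hθy, inv_mul_cancel])
    exact this
  have hfix : (a : MulAut P) c = c := by
    refine Subtype.ext ?_
    have e : Subgroup.inclusion (le_sup_left : P ≤ P ⊔ Z) c =
        Subgroup.inclusion (le_sup_right : Z ≤ P ⊔ Z) ⟨(c : Ω), hcZ⟩ := Subtype.ext rfl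
    exact ((hψP c).symm.trans (by rw [e, hψZ]))
  have hn : ∀ n : ℕ, ((a : MulAut P) ^ n) y = y * c ^ n := by
    intro n
    induction n with
    | zero => simp
    | succ n ih =>
      rw [pow_succ', MulAut.mul_apply, ih, map_mul, map_pow, hfix, hc, pow_succ', ← mul_assoc,
        ← mul_assoc, mul_inv_cancel, one_mul]
  obtain ⟨j, hj⟩ := (hS.to_le hP) c
  have h1 : c ^ orderOf (a : MulAut P) = 1 := by
    have := hn (orderOf (a : MulAut P))
    rw [pow_orderOf_eq_one, MulAut.one_apply] at this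
    exact left_eq_mul.1 this
  have hc1 : c = 1 := coprime_trivial (by rw [Subgroup.orderOf_coe]; exact ha) h1 hj
  show (((a : MulAut P) y : P) : Ω) = y
  exact congrArg Subtype.val (inv_mul_eq_one.1 hc1).symm

/-- A subgroup normal in a quasisimple system lies in its centre. -/
theorem normal_le_center_of_quasisimple (hS : IsPGroup p S) (hF : F.Quasisimple p) {Q : Subgroup Ω}
    (hQ : F.IsNormal Q) : Q ≤ F.center := by
  obtain ⟨hFs, hhyp, hsimple⟩ := hF
  have hZ := isCentral_center F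
  have hZsc := isNormal_stronglyClosed (isCentral_isNormal hZ)
  set θ := QuotientGroup.mk' ((F.center).subgroupOf S)
  have hker : ∀ s : S, θ s = 1 ↔ (s : Ω) ∈ F.center := fun s => QuotientGroup.eq_one_iff s
  have hrange : θ.range = ⊤ := MonoidHom.range_eq_top.2 (QuotientGroup.mk'_surjective _)
  have hE := factorSystem_isFactorSystem F hZsc θ hker hrange
  obtain ⟨hEs, hne, hnor⟩ := hsimple _ hE
  have hp' : IsPGroup p (⊤ : Subgroup (S ⧸ (F.center).subgroupOf S)) :=
    (hS.to_quotient _).to_subgroup _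
  have hQ' := imageAlong_isNormal hS hFs hZsc hE hQ
  rcases hnor _ _ (innerSystem_normal hp' hEs hQ') with hbot | ⟨htop, hall⟩
  · intro q hq
    have : θ ⟨q, hQ.1 hq⟩ ∈ imageAlong θ Q := theta_mem_imageAlong hQ.1 ⟨q, hq⟩
    rw [hbot, Subgroup.mem_bot] at this
    exact (hker _).1 this
  · exfalso
    apply hne
    have hbot : F.hyperfocalSubgroup p = ⊥ := by
      refine hyperfocal_eq_bot_of_inner hS hZ hFs hE fun P' φ' hφ' => ?_
      rw [← hall] at hφ'
      obtain ⟨-, g, hg, h⟩ := hφ'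
      exact ⟨g, htop.le hg, h⟩
    rw [hhyp] at hbot
    rw [eq_bot_iff]
    intro x _
    obtain ⟨s, rfl⟩ := QuotientGroup.mk'_surjective _ x
    have : s = 1 := Subtype.ext (Subgroup.mem_bot.1 (hbot.le s.2))
    simp [this]

/-- An element of `Aut_F(P)` of order prime to `p` extending to `P R` fixing `R`, for `R = T ⊓ Q`,
extends to `P Q` fixing `Q`. -/
theorem exists_fix_of_fix_inf (hS : IsPGroup p S) (hF : F.IsSaturated p) {D : FusionSystem T}
    (hD : D.IsNormalIn F p) {Q : Subgroup Ω} (hQ : F.IsNormal Q) {P : Subgroup Ω} (hP : P ≤ S)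
    {α : MulAut P} (hα : Nat.Coprime (orderOf α) p) {φ : ↥(P ⊔ T ⊓ Q) →* Ω}
    (hφ : φ ∈ D.Hom (P ⊔ T ⊓ Q)) (hφP : ∀ x : P, φ (Subgroup.inclusion le_sup_left x) = α x)
    (hφR : ∀ x : ↥(T ⊓ Q), φ (Subgroup.inclusion le_sup_right x) = x) :
    ∃ ψ ∈ F.Hom (P ⊔ Q), (∀ x : P, ψ (Subgroup.inclusion le_sup_left x) = α x) ∧
      ∀ x : Q, ψ (Subgroup.inclusion le_sup_right x) = x := by
  set Y := P ⊔ Q with hYdef
  obtain ⟨ψ₀, hψ₀, hψe, hψm⟩ := exists_ext_moves hS hF hD hQ hφ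
  have hQS := hQ.1
  have hQsc := isNormal_stronglyClosed hQ
  have hle : P ⊔ Q ≤ (P ⊔ T ⊓ Q) ⊔ Q := sup_le (le_sup_left.trans le_sup_left) le_sup_right
  set ψ := restr hle ψ₀
  have hψ : ψ ∈ F.Hom Y := restr_mem F hle hψ₀
  have hYS : Y ≤ S := sup_le hP hQS
  have : Finite Y := finite_of_le ‹_› hYS
  have hψP : ∀ x : P, ψ (Subgroup.inclusion le_sup_left x) = α x := fun x =>
    (hψe (Subgroup.inclusion le_sup_left x)).trans (hφP x)
  have hψQ : ∀ (q : Ω) (hq : q ∈ Q), q⁻¹ * ψ ⟨q, Subgroup.mem_sup_right hq⟩ ∈ T ⊓ Q := hψm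
  have hY : ψ.range = Y := range_eq_of_image_le (F.injective_of_mem hψ) (range_le_sup_of_le ψ
    (fun x hx => Subgroup.mem_sup_left ((hψP ⟨x, hx⟩).symm ▸ (α ⟨x, hx⟩).2))
    fun x hx => Subgroup.mem_sup_right (sc_map_mem hQsc hψ (x := ⟨x, _⟩) hx)) le_rfl
  set B := toIso F hψ hY
  have hBP : ∀ x : P, (B (Subgroup.inclusion le_sup_left x) : Ω) = α x := hψP
  have hBR : ∀ y : Y, (y : Ω) ∈ T ⊓ Q → B y = y := fun y hy => Subtype.ext (by
    have h1 := hψe (Subgroup.inclusion le_sup_right ⟨(y : Ω), hy⟩)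
    exact h1.trans (hφR ⟨y, hy⟩))
  obtain ⟨k, e, m, ho, hmp, hek, hk1⟩ :=
    exists_exponent (o := orderOf B) (orderOf_pos B).ne' (Fact.out : p.Prime) hα
  set Ψ := B ^ k
  have hΨ : Ψ ∈ F.autGroup Y := pow_mem (toIso_mem_autGroup F hψ hY) k
  refine ⟨_, autGroup_mem_hom F hYS hΨ, fun x => ?_, fun x => ?_⟩
  · show ((B ^ k) _ : Ω) = _
    rw [pow_ext_apply le_sup_left hBP k x]
    have : α ^ k = α := by
      conv_rhs => rw [← pow_one α]
      exact pow_eq_pow_iff_modEq.2 hk1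
    rw [this]
  · set y : Y := Subgroup.inclusion le_sup_right x
    set c := y⁻¹ * B y
    have hc : (c : Ω) ∈ T ⊓ Q := hψQ x x.2
    have hn : ∀ n : ℕ, (B ^ n) y = y * c ^ n := by
      intro n
      induction n with
      | zero => simp
      | succ n ih =>
        rw [pow_succ', MulAut.mul_apply, ih, map_mul, map_pow, hBR c hc, pow_succ', ← mul_assoc,
          ← mul_assoc, mul_inv_cancel, one_mul]
    obtain ⟨l, hl⟩ := hek
    have h1 : (c ^ k) ^ m = 1 := by
      have h2 := hn (k * m)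
      have h3 : B ^ (k * m) = 1 := by
        rw [hl, show p ^ e * l * m = orderOf B * l by rw [ho]; ring, pow_mul, pow_orderOf_eq_one,
          one_pow]
      rw [h3, MulAut.one_apply] at h2
      rw [← pow_mul]
      exact left_eq_mul.1 h2
    obtain ⟨i, hi⟩ := (hS.to_le hYS) (c ^ k)
    show ((Ψ y : Y) : Ω) = _
    rw [show Ψ y = (B ^ k) y from rfl, hn k, coprime_trivial hmp h1 hi, mul_one]
    rfl

omit [Finite S] [Fact p.Prime] in
/-- A map between subgroups centralizing `Q` that extends fixing `Q` lies in the centralizer. -/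
theorem mem_centralizerHom {Q P : Subgroup Ω} (hP : P ≤ centralizerIn S Q) {φ : P →* Ω}
    (hφ : φ ∈ F.Hom P) {ψ : ↥(P ⊔ Q) →* Ω} (hψ : ψ ∈ F.Hom (P ⊔ Q))
    (h1 : ∀ x : P, ψ (Subgroup.inclusion le_sup_left x) = φ x)
    (h2 : ∀ x : Q, ψ (Subgroup.inclusion le_sup_right x) = x) : φ ∈ F.centralizerHom Q P := by
  refine ⟨hφ, hP, fun x => ⟨map_mem_S F hφ x, Subgroup.mem_centralizer_iff.2 fun q hq => ?_⟩,
    ψ, hψ, h1, h2⟩
  have e2 : ψ ⟨q, Subgroup.mem_sup_right hq⟩ = q := h2 ⟨q, hq⟩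
  rw [← h1 x, ← e2, ← map_mul, ← map_mul]
  exact congrArg ψ (Subtype.ext (Subgroup.mem_centralizer_iff.1 (hP x.2).2 q hq))

theorem component_centralizes_aux {p : ℕ} {U S : Subgroup Ω} {C : FusionSystem U}
    {F : FusionSystem S} (h : C.IsSubnormalIn F p) :
    ∀ [Fact p.Prime], C.Quasisimple p → IsPGroup p S → Finite S → F.IsSaturated p →
      ∀ (Q : Subgroup Ω), F.IsNormal Q → ∀ P, C.Hom P ⊆ F.centralizerHom Q P := by
  induction h with
  | refl F p =>
    intro hp hC hS hfin hF Q hQ P φ hφ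
    have hle := normal_le_center_of_quasisimple hS hC hQ
    obtain ⟨ψ, hψ, h1, h2⟩ := (isCentral_center F).2 P φ hφ
    refine mem_centralizerHom (fun x hx => ⟨le_S F hφ hx, Subgroup.mem_centralizer_iff.2
      fun q hq => (Subgroup.mem_centralizer_iff.1 (F.center_le_centralizer (hle hq)) x
        (le_S F hφ hx)).symm⟩) hφ (restr_mem F (sup_le_sup_left hle P) hψ) h1
      fun x => h2 ⟨x, hle x.2⟩
  | @step V S C D F p hCD hD ih =>
    intro hp hC hS hfin hF Q hQ
    have hVS : V ≤ S := hD.1.2.2.2.1.1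
    have hfinV : Finite V := finite_of_le hfin hVS
    have hVp := hS.to_le hVS
    have hR := inf_isNormal_of_weaklyNormal hS hD.1 hQ
    have key := ih hC hVp hfinV hD.1.1 _ hR
    have hUV : U ≤ V := fun x hx =>
      le_S D (key U (C.conj_mem le_rfl (U.one_mem))).1 hx
    have hUS := hUV.trans hVS
    have hfinU : Finite U := finite_of_le hfin hUS
    have hQS := hQ.1
    have hQsc := isNormal_stronglyClosed hQ
    have main : ∀ (P : Subgroup Ω), P ≤ U → ∀ α : MulAut P, α ∈ C.autGroup P →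
        Nat.Coprime (orderOf α) p → ∃ ψ ∈ F.Hom (P ⊔ Q),
          (∀ x : P, ψ (Subgroup.inclusion le_sup_left x) = α x) ∧
          ∀ x : Q, ψ (Subgroup.inclusion le_sup_right x) = x := by
      intro P hP α hα ho
      obtain ⟨-, -, -, φ, hφ, h1, h2⟩ := key P (autGroup_mem_hom C hP hα)
      exact exists_fix_of_fix_inf hS hF hD hQ (hP.trans hUS) ho hφ h1 h2
    have hUQ : U ≤ centralizerIn S Q := by
      conv_lhs => rw [← hC.2.1]
      rw [hyperfocalSubgroup, Subgroup.closure_le]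
      rintro _ ⟨P, α, x, hP, hα, rfl⟩
      suffices hs : ∀ β ∈ pResidual p (C.autGroup P),
          ∀ y : P, (y : Ω)⁻¹ * ((β : MulAut P) y : P) ∈ centralizerIn S Q from hs α hα x
      intro β hβ
      induction hβ using Subgroup.closure_induction with
      | mem β hβ =>
        intro y
        obtain ⟨ψ, hψ, h1, h2⟩ := main P hP β β.2 (by rw [Subgroup.orderOf_coe]; exact hβ)
        refine ⟨S.mul_mem (S.inv_mem (hUS (hP y.2))) (hUS (hP (Subtype.mem _))),
          Subgroup.mem_centralizer_iff.2 fun q hq => ?_⟩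
        set z := ((β : MulAut P) y : P)
        have hq' : (y : Ω) * q * (y : Ω)⁻¹ ∈ Q := sc_conj_mem hQsc (hUS (hP y.2)) hq
        have e1 : ψ ⟨y, Subgroup.mem_sup_left y.2⟩ = (z : Ω) := h1 y
        have e2 : ψ ⟨q, Subgroup.mem_sup_right hq⟩ = q := h2 ⟨q, hq⟩
        have e3 : (z : Ω) * q * (z : Ω)⁻¹ = (y : Ω) * q * (y : Ω)⁻¹ := by
          have e4 : ψ ⟨_, Subgroup.mem_sup_right hq'⟩ = (y : Ω) * q * (y : Ω)⁻¹ := h2 ⟨_, hq'⟩
          rw [← e4, ← e1]
          conv_lhs => rw [← e2]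
          rw [← map_inv, ← map_mul, ← map_mul]
          exact congrArg ψ (Subtype.ext rfl)
        calc q * ((y : Ω)⁻¹ * z) = (y : Ω)⁻¹ * ((y : Ω) * q * (y : Ω)⁻¹) * z := by group
          _ = (y : Ω)⁻¹ * z * q := by rw [← e3]; group
      | one => intro y; simp
      | mul a b _ _ iha ihb =>
        intro y
        have := (centralizerIn S Q).mul_mem (ihb y) (iha ((b : MulAut P) y))
        simpa [mul_assoc] using this
      | inv a _ iha =>
        intro y
        have := (centralizerIn S Q).inv_mem (iha ((a : MulAut P)⁻¹ y))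
        simpa using this
    have hCp := hS.to_le hUS
    intro P φ hφ
    have hsub : C.IsSubsystemOf (centSys F Q hQS) := by
      refine FusionSub.le_of_pResidual_le hCp hC.1 _ hUQ fun P hP => ?_
      rw [Subgroup.map_le_iff_le_comap, pResidual, Subgroup.closure_le]
      intro a ha
      obtain ⟨ψ, hψ, h1, h2⟩ := main P hP a a.2 (by rw [Subgroup.orderOf_coe]; exact ha)
      refine (mem_autGroup _ (hP.trans hUQ)).2 ?_
      refine mem_centralizerHom (hP.trans hUQ) ?_ hψ h1 h2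
      exact hD.1.2.2.1 P (key P (autGroup_mem_hom C hP a.2)).1
    exact hsub P hφ

/-- A component centralizes every normal subgroup. -/
theorem component_centralizes (hS : IsPGroup p S) (hF : F.IsSaturated p) {U : Subgroup Ω}
    {C : FusionSystem U} (hC : C.IsComponentIn F p) {Q : Subgroup Ω} (hQ : F.IsNormal Q)
    (P : Subgroup Ω) : C.Hom P ⊆ F.centralizerHom Q P :=
  component_centralizes_aux hC.1 hC.2 hS ‹_› hF Q hQ P

end Cfsg.Agent.FusionAlperin
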